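import Cfsg.Agent.H7.Sim

set_option autoImplicit false

namespace CfsgH7

open Module Polynomial Matrix

theorem isUnit_aeval_of_not_dvd {F A : Type*} [Field F] [Ring A] [Algebra F A] (a : A) {P p : F[X]}
    (hP : aeval a P = 0) (hp : Irreducible p) (hd : ¬ p ∣ P) : IsUnit (aeval a p) := by
  obtain ⟨u, v, huv⟩ := (hp.coprime_iff_not_dvd.2 hd)
  have h1 := congrArg (aeval a) huv
  have h2 : aeval a (p * u + v * P) = 1 := by rw [mul_comm p u, huv, map_one]
  simp only [map_add, map_mul, hP, mul_zero, add_zero, map_one] at h1 h2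
  exact ⟨⟨_, _, h2, h1⟩, rfl⟩

/-- Similarity criterion: only monic irreducible factors of a common annihilating polynomial. -/
theorem exists_equiv_of_finrank_ker_dvd {F V W : Type*} [Field F] [Finite F] [AddCommGroup V]
    [Module F V] [AddCommGroup W] [Module F W] [FiniteDimensional F V] [FiniteDimensional F W]
    (f : Module.End F V) (g : Module.End F W) (hdim : finrank F V = finrank F W)
    (P : F[X]) (hf : aeval f P = 0) (hg : aeval g P = 0)
    (h : ∀ p : F[X], Irreducible p → p.Monic → p ∣ P → ∀ e : ℕ,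
      finrank F (LinearMap.ker (aeval f (p ^ e))) = finrank F (LinearMap.ker (aeval g (p ^ e)))) :
    ∃ φ : V ≃ₗ[F] W, ∀ v, φ (f v) = g (φ v) := by
  apply exists_equiv_of_finrank_ker f g hdim
  intro p hp e
  by_cases hd : p ∣ P
  · have hp0 : p ≠ 0 := hp.ne_zero
    have hl : p.leadingCoeff ≠ 0 := leadingCoeff_ne_zero.2 hp0
    have hass : Associated p (p * C p.leadingCoeff⁻¹) :=
      associated_mul_unit_right _ _ (isUnit_C.2 (IsUnit.mk0 _ (inv_ne_zero hl)))
    have := h (p * C p.leadingCoeff⁻¹) (hass.irreducible hp) (monic_mul_leadingCoeff_inv hp0)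
      (hass.symm.dvd.trans hd) e
    have e1 : (p * C p.leadingCoeff⁻¹) ^ e = (p.leadingCoeff⁻¹ ^ e) • p ^ e := by
      rw [mul_pow, ← C_pow, mul_comm, smul_eq_C_mul]
    have hne : p.leadingCoeff⁻¹ ^ e ≠ 0 := pow_ne_zero _ (inv_ne_zero hl)
    rwa [e1, map_smul, map_smul, LinearMap.ker_smul _ _ hne, LinearMap.ker_smul _ _ hne] at this
  · have h1 := (isUnit_aeval_of_not_dvd f hf hp hd).pow e
    have h2 := (isUnit_aeval_of_not_dvd g hg hp hd).pow e
    rw [← map_pow] at h1 h2
    rw [(LinearMap.isUnit_iff_ker_eq_bot _).1 h1, (LinearMap.isUnit_iff_ker_eq_bot _).1 h2]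
    simp

theorem isConj_of_rank_dvd {F : Type*} [Field F] [Finite F] {n : Type*} [Fintype n] [DecidableEq n]
    (A B : Matrix n n F) (P : F[X]) (hA : aeval A P = 0) (hB : aeval B P = 0)
    (h : ∀ p : F[X], Irreducible p → p.Monic → p ∣ P → ∀ e : ℕ,
      (aeval A (p ^ e)).rank = (aeval B (p ^ e)).rank) : IsConj A B := by
  obtain ⟨φ, hφ⟩ := exists_equiv_of_finrank_ker_dvd (Matrix.toLin' A) (Matrix.toLin' B) rfl P
    (by rw [toLin'_aeval, hA, map_zero]) (by rw [toLin'_aeval, hB, map_zero]) (by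
    intro p hp hm hd e
    rw [toLin'_aeval, toLin'_aeval, finrank_ker_toLin', finrank_ker_toLin', h p hp hm hd e])
  exact isConj_of_equiv A B φ hφ

theorem eq_X_sub_C_of_dvd_pow {F : Type*} [Field F] {p : F[X]} (hp : Irreducible p) (hm : p.Monic)
    {a : F} {N : ℕ} (hd : p ∣ (X - C a) ^ N) : p = X - C a := by
  have h1 : p ∣ X - C a := hp.prime.dvd_of_dvd_pow hd
  exact eq_of_monic_of_associated hm (monic_X_sub_C a)
    (hp.associated_of_dvd (irreducible_X_sub_C a) h1)

/-- Nilpotent endomorphisms with the same kernel dimensions of powers are similar. -/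
theorem exists_equiv_of_nilpotent {F V W : Type*} [Field F] [Finite F] [AddCommGroup V]
    [Module F V] [AddCommGroup W] [Module F W] [FiniteDimensional F V] [FiniteDimensional F W]
    (f : Module.End F V) (g : Module.End F W) (hdim : finrank F V = finrank F W)
    (N : ℕ) (hf : f ^ N = 0) (hg : g ^ N = 0)
    (h : ∀ e : ℕ, finrank F (LinearMap.ker (f ^ e)) = finrank F (LinearMap.ker (g ^ e))) :
    ∃ φ : V ≃ₗ[F] W, ∀ v, φ (f v) = g (φ v) := by
  apply exists_equiv_of_finrank_ker_dvd f g hdim ((X - C 0) ^ N) (by simpa using hf)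
    (by simpa using hg)
  intro p hp hm hd e
  rw [eq_X_sub_C_of_dvd_pow hp hm hd, map_zero, sub_zero, map_pow, map_pow, aeval_X, aeval_X]
  exact h e

/-- Unipotent matrices with the same ranks of `(u - 1) ^ e` are similar. -/
theorem isConj_of_unipotent {F : Type*} [Field F] [Finite F] {n : Type*} [Fintype n]
    [DecidableEq n] (A B : Matrix n n F) (N : ℕ) (hA : (A - 1) ^ N = 0) (hB : (B - 1) ^ N = 0)
    (h : ∀ e : ℕ, ((A - 1) ^ e).rank = ((B - 1) ^ e).rank) : IsConj A B := by
  apply isConj_of_rank_dvd A B ((X - C 1) ^ N) (by simpa using hA) (by simpa using hB)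
  intro p hp hm hd e
  rw [eq_X_sub_C_of_dvd_pow hp hm hd]
  simpa using h e

theorem rank_pow_sub_one_of_isConj {F : Type*} [Field F] {n : Type*} [Fintype n] [DecidableEq n]
    {A B : Matrix n n F} (h : IsConj A B) (e : ℕ) : ((A - 1) ^ e).rank = ((B - 1) ^ e).rank := by
  have := rank_eq_of_isConj h ((X - 1) ^ e)
  rwa [map_pow, map_pow, map_sub, map_sub, aeval_X, aeval_X, map_one, map_one] at this

/-- Matrices `t` with `t - 1` of square zero and equal rank are similar. -/
theorem isConj_of_sq_zero {F : Type*} [Field F] [Finite F] {n : Type*} [Fintype n]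
    [DecidableEq n] (A B : Matrix n n F) (hA : (A - 1) * (A - 1) = 0) (hB : (B - 1) * (B - 1) = 0)
    (h : (A - 1).rank = (B - 1).rank) : IsConj A B := by
  have hA2 : (A - 1) ^ 2 = 0 := by rw [sq, hA]
  have hB2 : (B - 1) ^ 2 = 0 := by rw [sq, hB]
  apply isConj_of_unipotent A B 2 hA2 hB2
  intro e
  rcases e with _ | _ | e
  · simp
  · simpa using h
  · rw [show e + 1 + 1 = 2 + e by ring, pow_add, pow_add, hA2, hB2, zero_mul, zero_mul]

theorem rank_vecMulVec_eq_one {F : Type*} [Field F] {n : Type*} [Fintype n] [DecidableEq n]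
    {v w : n → F} (hv : v ≠ 0) (hw : w ≠ 0) : (vecMulVec v w).rank = 1 := by
  apply le_antisymm (Matrix.rank_vecMulVec_le v w)
  by_contra h
  have h0 : (vecMulVec v w).rank = 0 := by omega
  rw [Matrix.rank, Submodule.finrank_eq_zero, LinearMap.range_eq_bot] at h0
  have : vecMulVec v w = 0 := by
    apply Matrix.toLin'.injective
    rw [map_zero]; exact h0
  rcases vecMulVec_eq_zero.1 this with h | h
  · exact hv h
  · exact hw h

theorem exists_vecMulVec_of_rank_le_one {F : Type*} [Field F] {n : Type*} [Fintype n]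
    [DecidableEq n] (A : Matrix n n F) (h : A.rank ≤ 1) : ∃ v w : n → F, A = vecMulVec v w := by
  rw [Matrix.rank, finrank_le_one_iff] at h
  obtain ⟨v, hv⟩ := h
  have : ∀ j, ∃ c : F, c • (v : n → F) = A.mulVec (Pi.single j 1) := by
    intro j
    obtain ⟨c, hc⟩ := hv ⟨A.mulVec (Pi.single j 1), ⟨_, rfl⟩⟩
    exact ⟨c, congrArg Subtype.val hc⟩
  choose c hc using this
  refine ⟨v, c, ?_⟩
  ext i j
  have := congrFun (hc j) i
  simp only [Pi.smul_apply, smul_eq_mul, mulVec_single_one, Matrix.col_apply] at this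
  rw [vecMulVec_apply, mul_comm, this]

end CfsgH7
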