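import Cfsg.Agent.H7.PCentral
import Cfsg.Agent.H7.Sim2

set_option autoImplicit false

namespace CfsgH7

open Matrix Subgroup

variable {F : Type*} [Field F] {ι : Type*} [Fintype ι] [DecidableEq ι]

/-- Conjugation of `SL` by an invertible matrix. -/
def conjSL : GL ι F →* MulAut (Matrix.SpecialLinearGroup ι F) where
  toFun g :=
    { toFun := fun s => ⟨(g : Matrix ι ι F) * s * (g⁻¹ : GL ι F), by
        rw [det_mul, det_mul, s.det_coe, mul_one, ← det_mul]; simp⟩
      invFun := fun s => ⟨((g⁻¹ : GL ι F) : Matrix ι ι F) * s * g, by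
        rw [det_mul, det_mul, s.det_coe, mul_one, ← det_mul]; simp⟩
      left_inv := fun s => Subtype.ext (by
        simp only [← Matrix.mul_assoc, Units.inv_mul, one_mul]
        rw [Matrix.mul_assoc, Units.inv_mul, mul_one])
      right_inv := fun s => Subtype.ext (by
        simp only [← Matrix.mul_assoc, Units.mul_inv, one_mul]
        rw [Matrix.mul_assoc, Units.mul_inv, mul_one])
      map_mul' := fun s t => Subtype.ext (by
        change (g : Matrix ι ι F) * (s * t) * (g⁻¹ : GL ι F) =
          (g : Matrix ι ι F) * s * (g⁻¹ : GL ι F) * ((g : Matrix ι ι F) * t * (g⁻¹ : GL ι F))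
        simp only [Matrix.mul_assoc, Units.inv_mul_cancel_left]) }
  map_one' := by
    refine MulEquiv.ext fun s => Subtype.ext ?_
    change ((1 : GL ι F) : Matrix ι ι F) * s * ((1 : GL ι F)⁻¹ : GL ι F) = s
    simp
  map_mul' g h := by
    refine MulEquiv.ext fun s => Subtype.ext ?_
    change ((g * h : GL ι F) : Matrix ι ι F) * s * ((g * h)⁻¹ : GL ι F) =
      (g : Matrix ι ι F) * ((h : Matrix ι ι F) * s * (h⁻¹ : GL ι F)) * (g⁻¹ : GL ι F)
    simp only [_root_.mul_inv_rev, Units.val_mul, Matrix.mul_assoc]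

@[simp] theorem conjSL_coe (g : GL ι F) (s : Matrix.SpecialLinearGroup ι F) :
    (conjSL g s : Matrix ι ι F) = (g : Matrix ι ι F) * s * (g⁻¹ : GL ι F) := rfl

/-- Entrywise field automorphism of `SL`. -/
def mapSL : (F ≃+* F) →* MulAut (Matrix.SpecialLinearGroup ι F) where
  toFun σ :=
    { toFun := Matrix.SpecialLinearGroup.map (σ : F →+* F)
      invFun := Matrix.SpecialLinearGroup.map (σ.symm : F →+* F)
      left_inv := fun s => by ext i j; exact σ.symm_apply_apply _
      right_inv := fun s => by ext i j; exact σ.apply_symm_apply _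
      map_mul' := map_mul _ }
  map_one' := by
    ext s i j
    rfl
  map_mul' g h := by
    ext s i j
    rfl

@[simp] theorem mapSL_coe (σ : F ≃+* F) (s : Matrix.SpecialLinearGroup ι F) :
    (mapSL σ s : Matrix ι ι F) = (s : Matrix ι ι F).map σ := rfl

/-- Inverse transpose on `SL`. -/
def invTSL : MulAut (Matrix.SpecialLinearGroup ι F) where
  toFun s := (s⁻¹).transpose
  invFun s := (s⁻¹).transpose
  left_inv s := Subtype.ext (by
    change (adjugate (adjugate (s : Matrix ι ι F))ᵀ)ᵀ = s
    rw [← adjugate_transpose, transpose_transpose]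
    exact congrArg Subtype.val (inv_inv s))
  right_inv s := Subtype.ext (by
    change (adjugate (adjugate (s : Matrix ι ι F))ᵀ)ᵀ = s
    rw [← adjugate_transpose, transpose_transpose]
    exact congrArg Subtype.val (inv_inv s))
  map_mul' s t := Subtype.ext (by
    change (adjugate ((s : Matrix ι ι F) * (t : Matrix ι ι F)))ᵀ =
      (adjugate (s : Matrix ι ι F))ᵀ * (adjugate (t : Matrix ι ι F))ᵀ
    rw [adjugate_mul_distrib, transpose_mul])

theorem invTSL_coe (s : Matrix.SpecialLinearGroup ι F) :
    (invTSL s : Matrix ι ι F) = ((s⁻¹ : Matrix.SpecialLinearGroup ι F) : Matrix ι ι F)ᵀ := rfl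

theorem invTSL_mul_self : (invTSL : MulAut (Matrix.SpecialLinearGroup ι F)) * invTSL = 1 :=
  MulEquiv.ext fun s => invTSL.left_inv s

theorem SL_center_pow {p : ℕ} [Fact p.Prime] [CharP F p] :
    ∀ z ∈ center (Matrix.SpecialLinearGroup ι F), z ^ p = 1 → z = 1 := by
  intro z hz hp
  obtain ⟨r, _, hr⟩ := Matrix.SpecialLinearGroup.mem_center_iff.1 hz
  rcases isEmpty_or_nonempty ι with h | ⟨⟨i⟩⟩
  · exact Subsingleton.elim _ _
  · have h1 : (z : Matrix ι ι F) ^ p = 1 := by rw [← Matrix.SpecialLinearGroup.coe_pow, hp]; rfl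
    rw [← hr, ← map_pow] at h1
    have h2 : r ^ p = 1 := by simpa using congrFun (congrFun h1 i) i
    have h3 : r = 1 := by
      apply frobenius_inj F p
      simpa [frobenius_def] using h2
    apply Subtype.ext
    rw [← hr, h3]
    simp

theorem SL_mk_eq_iff {a b : Matrix.SpecialLinearGroup ι F} :
    (QuotientGroup.mk a : Matrix.SpecialLinearGroup ι F ⧸ center (Matrix.SpecialLinearGroup ι F)) =
      QuotientGroup.mk b ↔ ∃ c : F, (b : Matrix ι ι F) = c • (a : Matrix ι ι F) := by
  rw [QuotientGroup.eq, Matrix.SpecialLinearGroup.mem_center_iff]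
  constructor
  · rintro ⟨r, _, hr⟩
    refine ⟨r, ?_⟩
    have : b = a * (a⁻¹ * b) := by group
    rw [this, Matrix.SpecialLinearGroup.coe_mul, ← hr, scalar_apply, ← smul_eq_mul_diagonal]
  · rintro ⟨c, hc⟩
    refine ⟨c, ?_, ?_⟩
    · have := b.det_coe
      rwa [hc, det_smul, a.det_coe, mul_one] at this
    · rw [Matrix.SpecialLinearGroup.coe_mul, hc, Matrix.mul_smul, ← Matrix.SpecialLinearGroup.coe_mul,
        inv_mul_cancel, scalar_apply, Matrix.SpecialLinearGroup.coe_one, smul_one_eq_diagonal]

theorem diag2n_decompose {i j : ι} (hij : i ≠ j) (a : F) (ha : a ≠ 0) :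
    Matrix.SpecialLinearGroup.diag2n hij a ha = Matrix.SpecialLinearGroup.transvection hij a *
      Matrix.SpecialLinearGroup.transvection hij.symm (- a⁻¹) *
      Matrix.SpecialLinearGroup.transvection hij a *
      Matrix.SpecialLinearGroup.transvection hij (-1) *
      Matrix.SpecialLinearGroup.transvection hij.symm 1 *
      Matrix.SpecialLinearGroup.transvection hij (-1) := by
  apply Subtype.ext
  simp only [Matrix.SpecialLinearGroup.coe_mul, Matrix.SpecialLinearGroup.transvection_coe,
    Matrix.SpecialLinearGroup.diag2n_coe, mul_add, add_mul, mul_one, one_mul, single_mul_single_same,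
    single_mul_single_of_ne _ _ _ _ hij, single_mul_single_of_ne _ _ _ _ hij.symm,
    zero_mul, mul_zero, add_zero]
  ext k l
  simp only [diagonal_apply, Matrix.add_apply, one_apply, single_apply]
  by_cases h1 : i = k <;> by_cases h2 : j = l <;> by_cases h3 : j = k <;> by_cases h4 : i = l <;>
    by_cases h5 : k = l <;> simp_all [eq_comm]

theorem SL_induction [Nontrivial ι] (P : Matrix.SpecialLinearGroup ι F → Prop)
    (htv : ∀ (i j : ι) (hij : i ≠ j) (a : F), P (Matrix.SpecialLinearGroup.transvection hij a))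
    (hmul : ∀ A B, P A → P B → P (A * B)) (M : Matrix.SpecialLinearGroup ι F) : P M := by
  refine Matrix.SpecialLinearGroup.diagonal_transvection_induction' P M (fun i j hij c hc => ?_) htv hmul
  rw [diag2n_decompose]
  refine hmul _ _ (hmul _ _ (hmul _ _ (hmul _ _ (hmul _ _ ?_ ?_) ?_) ?_) ?_) ?_
  all_goals exact htv _ _ _ _

theorem SL_hom_ext [Nontrivial ι] {H : Type*} [Group H] (f g : Matrix.SpecialLinearGroup ι F →* H)
    (h : ∀ (i j : ι) (hij : i ≠ j) (a : F), f (Matrix.SpecialLinearGroup.transvection hij a) =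
      g (Matrix.SpecialLinearGroup.transvection hij a)) (M : Matrix.SpecialLinearGroup ι F) : f M = g M :=
  SL_induction (fun M => f M = g M) h (fun A B hA hB => by simp only [map_mul, hA, hB]) M

theorem transvection_commutator {i j k : ι} (hij : i ≠ j) (hjk : j ≠ k) (hik : i ≠ k) (a b : F) :
    Matrix.SpecialLinearGroup.transvection hij a * Matrix.SpecialLinearGroup.transvection hjk b *
      (Matrix.SpecialLinearGroup.transvection hij a)⁻¹ * (Matrix.SpecialLinearGroup.transvection hjk b)⁻¹ =
      Matrix.SpecialLinearGroup.transvection hik (a * b) := by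
  rw [Matrix.SpecialLinearGroup.transvection_inv, Matrix.SpecialLinearGroup.transvection_inv]
  apply Subtype.ext
  simp only [Matrix.SpecialLinearGroup.coe_mul, Matrix.SpecialLinearGroup.transvection_coe,
    mul_add, add_mul, mul_one, one_mul, single_mul_single_same,
    single_mul_single_of_ne _ _ _ _ hij, single_mul_single_of_ne _ _ _ _ hij.symm,
    single_mul_single_of_ne _ _ _ _ hjk, single_mul_single_of_ne _ _ _ _ hjk.symm,
    single_mul_single_of_ne _ _ _ _ hik, single_mul_single_of_ne _ _ _ _ hik.symm,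
    zero_mul, mul_zero, add_zero]
  simp only [mul_neg, neg_mul, neg_neg, ← single_neg]
  abel

theorem single_eq_vecMulVec (i j : ι) (a : F) :
    single i j a = vecMulVec (Pi.single i 1) (Pi.single j a) := by
  ext k l
  simp only [single_apply, vecMulVec_apply, Pi.single_apply]
  by_cases h1 : i = k <;> by_cases h2 : j = l <;> simp_all [eq_comm]

end CfsgH7
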