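import Cfsg.Agent.H7.SLBase

set_option autoImplicit false

namespace CfsgH7

open Matrix Subgroup

variable {F : Type*} [Field F] {ι : Type*} [Fintype ι] [DecidableEq ι]

/-- Two vectors are nonzero multiples of each other. -/
def Par (v w : ι → F) : Prop := ∃ c : F, c ≠ 0 ∧ w = c • v

theorem Par.refl (v : ι → F) : Par v v := ⟨1, one_ne_zero, by simp⟩

theorem Par.symm {v w : ι → F} (h : Par v w) : Par w v := by
  obtain ⟨c, hc, rfl⟩ := h
  exact ⟨c⁻¹, inv_ne_zero hc, by rw [smul_smul, inv_mul_cancel₀ hc, one_smul]⟩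

theorem Par.trans {u v w : ι → F} (h : Par u v) (h' : Par v w) : Par u w := by
  obtain ⟨c, hc, rfl⟩ := h
  obtain ⟨d, hd, rfl⟩ := h'
  exact ⟨d * c, mul_ne_zero hd hc, by rw [smul_smul]⟩

theorem par_of_eq_smul {v w : ι → F} {c : F} (hw : w ≠ 0) (h : w = c • v) : Par v w :=
  ⟨c, by rintro rfl; exact hw (by simpa using h), h⟩

theorem Par.dot_right {φ v w : ι → F} (h : Par v w) (h0 : φ ⬝ᵥ v = 0) : φ ⬝ᵥ w = 0 := by
  obtain ⟨c, -, rfl⟩ := h
  rw [dotProduct_smul, h0, smul_zero]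

theorem Par.dot_left {φ ψ v : ι → F} (h : Par φ ψ) (h0 : φ ⬝ᵥ v = 0) : ψ ⬝ᵥ v = 0 := by
  obtain ⟨c, -, rfl⟩ := h
  rw [smul_dotProduct, h0, smul_zero]

theorem exists_smul_of_dot {φ ψ : ι → F} (hψ : ψ ≠ 0) (h : ∀ x, ψ ⬝ᵥ x = 0 → φ ⬝ᵥ x = 0) :
    ∃ c : F, φ = c • ψ := by
  obtain ⟨j, hj⟩ := Function.ne_iff.1 hψ
  have hj' : ψ j ≠ 0 := hj
  refine ⟨φ j / ψ j, funext fun k => ?_⟩
  have := h (Pi.single k (ψ j) - Pi.single j (ψ k)) (by
    simp [dotProduct_sub, mul_comm])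
  simp only [dotProduct_sub, dotProduct_single] at this
  simp only [Pi.smul_apply, smul_eq_mul]
  field_simp
  linear_combination this

theorem exists_dot_ne_zero {φ : ι → F} (hφ : φ ≠ 0) : ∃ x, φ ⬝ᵥ x = 1 := by
  obtain ⟨j, hj⟩ := Function.ne_iff.1 hφ
  have hj' : φ j ≠ 0 := hj
  exact ⟨Pi.single j (φ j)⁻¹, by simp [hj']⟩

theorem exists_dot_of_not_par {φ ψ : ι → F} (hφ : φ ≠ 0) (hψ : ψ ≠ 0) (h : ¬ Par ψ φ) :
    ∃ x, ψ ⬝ᵥ x = 0 ∧ φ ⬝ᵥ x = 1 := by
  by_contra hc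
  push Not at hc
  apply h
  obtain ⟨c, hc'⟩ := exists_smul_of_dot (φ := φ) hψ (fun x hx => by
    by_contra h0
    apply hc ((φ ⬝ᵥ x)⁻¹ • x)
    · rw [dotProduct_smul, hx, smul_zero]
    · rw [dotProduct_smul, smul_eq_mul, inv_mul_cancel₀ h0])
  exact par_of_eq_smul hφ hc'

theorem vecMulVec_mulVec' (u v w : ι → F) : vecMulVec u v *ᵥ w = (v ⬝ᵥ w) • u := by
  rw [vecMulVec_mulVec]
  ext i
  simp [mul_comm]

theorem tv_mul (v φ w ψ : ι → F) : (1 + vecMulVec v φ) * (1 + vecMulVec w ψ) =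
    1 + vecMulVec v φ + vecMulVec w ψ + (φ ⬝ᵥ w) • vecMulVec v ψ := by
  rw [mul_add, add_mul, add_mul, vecMulVec_mul_vecMulVec, vecMulVec_smul]
  simp only [mul_one, one_mul]
  abel

theorem tv_commute_iff {v φ w ψ : ι → F} (hv : v ≠ 0) (hφ : φ ≠ 0) (hw : w ≠ 0) (hψ : ψ ≠ 0)
    (h1 : φ ⬝ᵥ v = 0) (h2 : ψ ⬝ᵥ w = 0) :
    (1 + vecMulVec v φ) * (1 + vecMulVec w ψ) = (1 + vecMulVec w ψ) * (1 + vecMulVec v φ) ↔
      (φ ⬝ᵥ w = 0 ∧ ψ ⬝ᵥ v = 0) := by
  rw [tv_mul, tv_mul]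
  constructor
  · intro h
    have h3 : (φ ⬝ᵥ w) • vecMulVec v ψ = (ψ ⬝ᵥ v) • vecMulVec w φ := by
      have e : (1 : Matrix ι ι F) + vecMulVec w ψ + vecMulVec v φ =
        1 + vecMulVec v φ + vecMulVec w ψ := by abel
      rw [e] at h
      exact add_left_cancel h
    have h4 : φ ⬝ᵥ w = 0 := by
      have := congrArg (fun M => φ ᵥ* M) h3
      simp only [vecMul_smul, vecMul_vecMulVec, h1, zero_smul, smul_zero] at this
      have h5 := congrArg (fun M => M *ᵥ v) h3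
      simp only [smul_mulVec, vecMulVec_mulVec', h1, zero_smul, smul_zero, smul_smul] at h5
      rw [smul_smul] at this
      have h6 : (φ ⬝ᵥ w) * (ψ ⬝ᵥ v) = 0 := (smul_eq_zero.1 h5).resolve_right hv
      rcases mul_eq_zero.1 h6 with h7 | h7
      · exact h7
      · rw [h7, zero_smul] at h3
        exact (smul_eq_zero.1 h3).resolve_right (vecMulVec_ne_zero hv hψ)
    refine ⟨h4, ?_⟩
    rw [h4, zero_smul] at h3
    exact (smul_eq_zero.1 h3.symm).resolve_right (vecMulVec_ne_zero hw hφ)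
  · rintro ⟨h3, h4⟩
    rw [h3, h4, zero_smul, zero_smul]
    abel

theorem par_or_par_of_add {v φ w ψ u χ : ι → F} (hv : v ≠ 0) (hφ : φ ≠ 0) (hw : w ≠ 0) (hψ : ψ ≠ 0)
    (h : vecMulVec v φ + vecMulVec w ψ = vecMulVec u χ) : Par v w ∨ Par φ ψ := by
  by_contra hc
  push Not at hc
  obtain ⟨x, hx1, hx2⟩ := exists_dot_of_not_par hφ hψ (fun h => hc.2 h.symm)
  obtain ⟨y, hy1, hy2⟩ := exists_dot_of_not_par hψ hφ hc.2
  have e1 := congrArg (fun M => M *ᵥ x) h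
  have e2 := congrArg (fun M => M *ᵥ y) h
  simp only [add_mulVec, vecMulVec_mulVec', hx1, hx2, hy1, hy2, one_smul, zero_smul, add_zero,
    zero_add] at e1 e2
  exact hc.1 ((par_of_eq_smul hv e1).symm.trans (par_of_eq_smul hw e2))

theorem det_tv (v φ : ι → F) : (1 + vecMulVec v φ).det = 1 + φ ⬝ᵥ v := by
  rw [vecMulVec_eq Unit, det_one_add_replicateCol_mul_replicateRow]

theorem tv_pow {v φ : ι → F} (h : φ ⬝ᵥ v = 0) (k : ℕ) :
    (1 + vecMulVec v φ) ^ k = 1 + (k : F) • vecMulVec v φ := by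
  induction k with
  | zero => simp
  | succ k ih =>
    rw [pow_succ, ih, ← smul_vecMulVec, tv_mul, h, zero_smul, add_zero, smul_vecMulVec,
      Nat.cast_succ, add_smul, one_smul, add_assoc]

/-- `t` is a transvection or the identity. -/
def IsTv (t : Matrix.SpecialLinearGroup ι F) : Prop :=
  ∃ v φ : ι → F, φ ⬝ᵥ v = 0 ∧ (t : Matrix ι ι F) = 1 + vecMulVec v φ

theorem IsTv.pow_char {p : ℕ} [CharP F p] {t : Matrix.SpecialLinearGroup ι F} (ht : IsTv t) :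
    t ^ p = 1 := by
  obtain ⟨v, φ, h, ht⟩ := ht
  apply Subtype.ext
  rw [Matrix.SpecialLinearGroup.coe_pow, ht, tv_pow h]
  simp

theorem isTv_transvection {i j : ι} (hij : i ≠ j) (a : F) :
    IsTv (Matrix.SpecialLinearGroup.transvection hij a) :=
  ⟨Pi.single i 1, Pi.single j a, by simp [hij], by
    rw [Matrix.SpecialLinearGroup.transvection_coe, single_eq_vecMulVec]⟩

/-- The element `1 + v ⊗ φ` of `SL`. -/
def tvSL (v φ : ι → F) (h : φ ⬝ᵥ v = 0) : Matrix.SpecialLinearGroup ι F :=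
  ⟨1 + vecMulVec v φ, by rw [det_tv, h, add_zero]⟩

theorem tvSL_coe (v φ : ι → F) (h : φ ⬝ᵥ v = 0) :
    (tvSL v φ h : Matrix ι ι F) = 1 + vecMulVec v φ := rfl

/-- The group of transvections with centre `e`. -/
def tvGroup (e : ι → F) : Subgroup (Matrix.SpecialLinearGroup ι F) where
  carrier := {t | ∃ φ : ι → F, φ ⬝ᵥ e = 0 ∧ (t : Matrix ι ι F) = 1 + vecMulVec e φ}
  one_mem' := ⟨0, by simp, by simp⟩
  mul_mem' := by
    rintro a b ⟨φ, h1, h2⟩ ⟨ψ, h3, h4⟩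
    refine ⟨φ + ψ, by rw [add_dotProduct, h1, h3, add_zero], ?_⟩
    rw [Matrix.SpecialLinearGroup.coe_mul, h2, h4, tv_mul, h1, zero_smul, add_zero, vecMulVec_add,
      add_assoc]
  inv_mem' := by
    rintro a ⟨φ, h1, h2⟩
    refine ⟨-φ, by rw [neg_dotProduct, h1, neg_zero], ?_⟩
    have : a⁻¹ = tvSL e (-φ) (by rw [neg_dotProduct, h1, neg_zero]) := by
      apply inv_eq_of_mul_eq_one_right
      apply Subtype.ext
      rw [Matrix.SpecialLinearGroup.coe_mul, h2, tvSL_coe, tv_mul, h1]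
      simp
    rw [this, tvSL_coe]

theorem isTv_of_pCentral [Finite F] {p : ℕ} [Fact p.Prime] [CharP F p] [Nonempty ι]
    {x : Matrix.SpecialLinearGroup ι F} (hx : PCentral p x) : IsTv x := by
  obtain ⟨S, hS, hc⟩ := hx
  obtain ⟨e, -, he, hfix⟩ := exists_fixed_vec (F := F) Matrix.SpecialLinearGroup.coeMonoidHom
    (S : Subgroup (Matrix.SpecialLinearGroup ι F)) S.isPGroup' ⊤ top_ne_bot (fun _ _ _ _ => trivial)
  simp only [Matrix.SpecialLinearGroup.coeMonoidHom_apply] at hfix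
  have hT : tvGroup e ≤ (S : Subgroup (Matrix.SpecialLinearGroup ι F)) := by
    apply le_sylow_of_normalizes
    · rintro ⟨t, φ, h1, h2⟩
      exact ⟨1, Subtype.ext (by rw [pow_one]; exact IsTv.pow_char ⟨e, φ, h1, h2⟩)⟩
    · rintro s hs t ⟨φ, h1, h2⟩
      refine ⟨φ ᵥ* (s⁻¹ : Matrix.SpecialLinearGroup ι F), ?_, ?_⟩
      · rw [← dotProduct_mulVec, hfix _ (inv_mem hs), h1]
      · rw [Matrix.SpecialLinearGroup.coe_mul, Matrix.SpecialLinearGroup.coe_mul, h2, mul_add,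
          add_mul, mul_one, ← Matrix.SpecialLinearGroup.coe_mul, mul_inv_cancel, mul_vecMulVec,
          hfix s hs, vecMulVec_mul]
        rfl
  have h1 : ∀ φ : ι → F, φ ⬝ᵥ e = 0 → φ ᵥ* (x : Matrix ι ι F) = φ := by
    intro φ hφ
    have := congrArg Subtype.val (hc _ (hT (show tvSL e φ hφ ∈ tvGroup e from ⟨φ, hφ, rfl⟩)))
    change (x : Matrix ι ι F) * (1 + vecMulVec e φ) = (1 + vecMulVec e φ) * x at this
    rw [mul_add, add_mul, mul_one, one_mul, mul_vecMulVec, hfix x hS, vecMulVec_mul,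
      add_right_inj, ← sub_eq_zero, ← vecMulVec_sub, vecMulVec_eq_zero] at this
    exact (sub_eq_zero.1 (this.resolve_left he)).symm
  have h2 : ∀ j, ∃ c : F, ((x : Matrix ι ι F) - 1) *ᵥ Pi.single j 1 = c • e := by
    intro j
    apply exists_smul_of_dot he
    intro φ hφ
    rw [dotProduct_comm] at hφ ⊢
    rw [dotProduct_mulVec, vecMul_sub, h1 φ hφ, vecMul_one, sub_self, zero_dotProduct]
  choose c hc' using h2
  have h3 : (x : Matrix ι ι F) = 1 + vecMulVec e c := by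
    rw [← sub_eq_iff_eq_add']
    ext i j
    have := congrFun (hc' j) i
    simp only [mulVec_single_one, Matrix.col_apply, Pi.smul_apply, smul_eq_mul] at this
    rw [this, vecMulVec_apply, mul_comm]
  refine ⟨e, c, ?_, h3⟩
  have h4 := hfix x hS
  rw [h3, add_mulVec, one_mulVec, vecMulVec_mulVec', add_eq_left] at h4
  exact (smul_eq_zero.1 h4).resolve_right he

theorem IsTv.exists_conj [Finite F] {s t : Matrix.SpecialLinearGroup ι F} (hs : IsTv s) (ht : IsTv t)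
    (hs1 : s ≠ 1) (ht1 : t ≠ 1) : ∃ g : GL ι F, conjSL g s = t := by
  obtain ⟨v, φ, h1, h2⟩ := hs
  obtain ⟨w, ψ, h3, h4⟩ := ht
  have e1 : (s : Matrix ι ι F) - 1 = vecMulVec v φ := by rw [h2]; abel
  have e2 : (t : Matrix ι ι F) - 1 = vecMulVec w ψ := by rw [h4]; abel
  have n1 : vecMulVec v φ ≠ 0 := fun h => hs1 (Subtype.ext (by rw [h2, h, add_zero]; rfl))
  have n2 : vecMulVec w ψ ≠ 0 := fun h => ht1 (Subtype.ext (by rw [h4, h, add_zero]; rfl))
  rw [Ne, vecMulVec_eq_zero, not_or] at n1 n2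
  obtain ⟨c, hc⟩ := isConj_of_sq_zero (s : Matrix ι ι F) t
    (by rw [e1, vecMulVec_mul_vecMulVec, h1]; simp)
    (by rw [e2, vecMulVec_mul_vecMulVec, h3]; simp)
    (by rw [e1, e2, rank_vecMulVec_eq_one n1.1 n1.2, rank_vecMulVec_eq_one n2.1 n2.2])
  refine ⟨c, Subtype.ext ?_⟩
  rw [conjSL_coe, hc.eq, Matrix.mul_assoc, Units.mul_inv, mul_one]

theorem IsTv.pCentral [Finite F] {p : ℕ} [Fact p.Prime] [CharP F p]
    {t : Matrix.SpecialLinearGroup ι F} (ht : IsTv t) : PCentral p t := by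
  by_cases h1 : t = 1
  · subst h1
    exact ⟨default, one_mem _, by simp⟩
  · obtain ⟨y, hy1, hy⟩ := exists_pCentral_ne_one p (ht.pow_char (p := p)) h1
    haveI : Nonempty ι := by
      by_contra h
      rw [not_nonempty_iff] at h
      exact h1 (Subsingleton.elim _ _)
    obtain ⟨g, hg⟩ := (isTv_of_pCentral hy).exists_conj ht hy1 h1
    rw [← hg]
    exact hy.map _

theorem isTv_lift [Finite F] [Nonempty ι]
    (β : MulAut (Matrix.SpecialLinearGroup ι F ⧸ center (Matrix.SpecialLinearGroup ι F)))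
    {t : Matrix.SpecialLinearGroup ι F} (ht : IsTv t) :
    ∃ y, IsTv y ∧ β (QuotientGroup.mk t) = QuotientGroup.mk y := by
  obtain ⟨p, hp⟩ := CharP.exists F
  haveI := Fact.mk (CharP.char_is_prime F p)
  obtain ⟨y, hy, hy'⟩ := pCentral_lift (SL_center_pow (p := p)) β (ht.pCentral (p := p))
  exact ⟨y, isTv_of_pCentral hy, hy'⟩

end CfsgH7
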