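import Cfsg.Agent.H7.PSUApi

set_option autoImplicit false

namespace CfsgH7

open Subgroup Matrix

variable {K : Type*} [Field K] {n q : ℕ}

theorem mem_zpowers_of_fix [Finite K] {τ σ : K ≃+* K} (h : ∀ x, τ x = x → σ x = x) :
    σ ∈ zpowers τ := by
  haveI := finite_ringAut (F := K)
  let σ' : K ≃ₐ[fixF τ] K := { σ with commutes' := fun x => h x (mem_fixF.1 x.2) }
  obtain ⟨g, hg⟩ := FixedPoints.toAlgAut_surjective (zpowers τ) K σ'
  have : g.1 = σ := RingEquiv.ext fun x => AlgEquiv.congr_fun hg x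
  exact this ▸ g.2

theorem exists_fixed_ne [Finite K] {τ σ : K ≃+* K} (hτ : Odd (orderOf τ)) (h2 : orderOf σ = 2) :
    ∃ θ, τ θ = θ ∧ θ - σ θ ≠ 0 := by
  by_contra h
  push Not at h
  have := orderOf_dvd_of_mem_zpowers (mem_zpowers_of_fix fun x hx => (sub_eq_zero.1 (h x hx)).symm)
  rw [h2] at this
  exact (Nat.not_even_iff_odd.2 hτ) (even_iff_two_dvd.2 this)

theorem ct_map {ι : Type*} [Finite K] (σ τ : K ≃+* K) (M : Matrix ι ι K) :
    ct σ (M.map τ) = (ct σ M).map τ := by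
  ext i j
  simp [ct_apply, ringAut_comm_apply σ τ]

theorem herm_exists_fixed [Finite K] {ι : Type*} [Fintype ι] [DecidableEq ι] {σ τ : K ≃+* K}
    (h2 : orderOf σ = 2) (hτ : Odd (orderOf τ)) {H : Matrix ι ι K}
    (hu : IsUnit H) (hH : ct σ H = H) (hH' : H.map τ = H) :
    ∃ Q : Matrix ι ι K, IsUnit Q ∧ ct σ Q * Q = H ∧ Q.map τ = Q := by
  obtain ⟨θ, hθ', hθ⟩ := exists_fixed_ne hτ h2
  let S : Set (Matrix ι ι K) := insert H ((fun c : K => c • (1 : Matrix ι ι K)) '' {c | τ c = c})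
  have hcomm : ∀ A : Matrix ι ι K, Commute A H → ∀ b ∈ S, Commute A b := by
    rintro A hA b (rfl | ⟨c, -, rfl⟩)
    · exact hA
    · exact (Commute.one_right A).smul_right c
  obtain ⟨Q, hQ, hQ'⟩ := (exists_norm_of_comm (ct σ) (ct_mul σ) (ct_one σ) S (by
      rintro a (rfl | ⟨c, -, rfl⟩) b hb
      · exact hcomm _ (Commute.refl _) b hb
      · exact ((Commute.one_left b).smul_left c)) (by
      rintro a (rfl | ⟨c, hc, rfl⟩)
      · rw [hH]; exact Subring.subset_closure (Or.inl rfl)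
      · exact Subring.subset_closure (Or.inr ⟨σ c, by
          rw [Set.mem_ofPred_eq, ringAut_comm_apply, show τ c = c from hc],
          by simp only [ct_smul, ct_one]⟩))
    (fun a _ => ct_ct h2 a) (θ • 1) (Subring.subset_closure (Or.inr ⟨θ, hθ', rfl⟩)) (by
      rw [ct_smul, ct_one, ← sub_smul]
      exact isUnit_smul_one hθ)).1 H (Subring.subset_closure (Or.inl rfl)) hu hH
  have hQu : IsUnit Q := isUnit_of_mul_isUnit_left (hQ' ▸ hu)
  refine ⟨Q, hQu, ?_, ?_⟩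
  · have := (commute_of_mem_closure (hcomm H (Commute.refl H)) hQ).eq
    conv_rhs at this => rw [← hQ']
    conv_lhs at this => rw [← hQ', Matrix.mul_assoc]
    rw [hQu.mul_left_cancel this, hQ']
  · have : Subring.closure S ≤ RingHom.eqLocus (τ : K →+* K).mapMatrix (RingHom.id _) := by
      rw [Subring.closure_le]
      rintro a (rfl | ⟨c, hc, rfl⟩)
      · exact hH'
      · change (c • (1 : Matrix ι ι K)).map τ = c • (1 : Matrix ι ι K)
        ext i j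
        simp [one_apply, apply_ite τ, show τ c = c from hc]
    exact this hQ

theorem exists_norm_fixed [Finite K] {σ τ : K ≃+* K} (h2 : orderOf σ = 2) (hτ : Odd (orderOf τ))
    {y : K} (hy0 : y ≠ 0) (hy : σ y = y) (hy' : τ y = y) : ∃ z, τ z = z ∧ σ z * z = y := by
  obtain ⟨Q, -, h1, h3⟩ := herm_exists_fixed (ι := Unit) h2 hτ (isUnit_smul_one hy0)
    (by rw [ct_smul, ct_one, hy]) (by ext; simp [hy'])
  exact ⟨Q () (), congrFun (congrFun h3 ()) (), by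
    simpa [ct_apply, mul_apply] using congrFun (congrFun h1 ()) ()⟩

theorem map_smul_mat {ι : Type*} (τ : K ≃+* K) (c : K) (M : Matrix ι ι K) :
    (c • M).map τ = τ c • M.map τ := by
  ext; simp

theorem map_mul_mat {ι : Type*} [Fintype ι] (τ : K ≃+* K) (M N : Matrix ι ι K) :
    (M * N).map τ = M.map τ * N.map τ := Matrix.map_mul (f := (τ : K →+* K))

theorem gu_hilbert90 [Fintype K] (hK : Fintype.card K = q ^ 2) [Nonempty (Fin n)] {τ : K ≃+* K}
    (hτ : Odd (orderOf τ)) (g : Cfsg.GU n K q) {h₀ : GL (Fin n) K} {a : K} (ha : a ≠ 0)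
    (e : (g.1 : Matrix (Fin n) (Fin n) K) * (h₀ : Matrix (Fin n) (Fin n) K).map τ = a • h₀) :
    ∃ (h : Cfsg.GU n K q) (a' : K), (g.1 : Matrix (Fin n) (Fin n) K) *
      (h.1 : Matrix (Fin n) (Fin n) K).map τ = a' • (h.1 : Matrix (Fin n) (Fin n) K) := by
  obtain ⟨σ, hσ, h2⟩ := exists_qfrob hK
  have hσσ := invol_of_orderOf h2
  have hu := (isUnit_ct σ h₀.isUnit).mul h₀.isUnit
  have hH : (ct σ (h₀ : Matrix (Fin n) (Fin n) K) * h₀).map τ =
      (σ a * a) • (ct σ (h₀ : Matrix (Fin n) (Fin n) K) * h₀) := by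
    have h1 := (mem_GU_iff hσ _).1 g.2
    have h3 : ct σ (a • (h₀ : Matrix (Fin n) (Fin n) K)) * (a • (h₀ : Matrix (Fin n) (Fin n) K)) =
        (ct σ (h₀ : Matrix (Fin n) (Fin n) K) * h₀).map τ := by
      rw [← e, ct_mul, Matrix.mul_assoc, ← Matrix.mul_assoc (ct σ g.1.1), h1, one_mul, ct_map,
        map_mul_mat]
    rw [← h3, ct_smul, Matrix.smul_mul, Matrix.mul_smul, smul_smul]
  obtain ⟨y, hy0, hy1, hy2⟩ : ∃ y, y ≠ 0 ∧ σ y = y ∧ σ a * a * τ y = y := by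
    obtain ⟨y, hy0, hy⟩ := exists_fixed_of_map_eq_smul τ hu.unit hH
    have hy' : σ a * a * τ (σ y) = σ y := by
      conv_rhs => rw [← hy]
      rw [map_mul, map_mul, hσσ, ringAut_comm_apply σ τ, mul_comm a]
    by_cases h0 : y + σ y = 0
    · obtain ⟨θ, hθ', hθ⟩ := exists_fixed_ne hτ h2
      refine ⟨θ * y + σ θ * σ y, ?_, by rw [map_add, map_mul, map_mul, hσσ, hσσ, add_comm], ?_⟩
      · intro h
        exact mul_ne_zero hθ hy0 (by linear_combination h - σ θ * h0)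
      · rw [map_add, map_mul, map_mul, ringAut_comm_apply τ σ θ, hθ']
        linear_combination θ * hy + σ θ * hy'
    · exact ⟨_, h0, by rw [map_add, hσσ, add_comm], by rw [map_add]; linear_combination hy + hy'⟩
  obtain ⟨Q, hQ, hQ1, hQ2⟩ := herm_exists_fixed h2 hτ
    (H := y • (ct σ (h₀ : Matrix (Fin n) (Fin n) K) * (h₀ : Matrix (Fin n) (Fin n) K)))
    (by rw [← one_mul (_ * _), ← Matrix.smul_mul]; exact (isUnit_smul_one hy0).mul hu)
    (by rw [ct_smul, hy1, ct_mul, ct_ct h2]) (by rw [map_smul_mat, hH, smul_smul, mul_comm, hy2])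
  obtain ⟨Q, rfl⟩ := hQ
  obtain ⟨x, hx⟩ := exists_norm_two h2 hy1
  have hx0 : x ≠ 0 := by rintro rfl; exact hy0 (by rw [← hx, zero_mul])
  have hQ3 : ((Q⁻¹ : GL (Fin n) K) : Matrix (Fin n) (Fin n) K).map τ = (Q⁻¹ : GL (Fin n) K) := by
    rw [← mapGL'_inv_coe, show mapGL' τ Q = Q from Units.ext hQ2]
  refine ⟨⟨smulGL x hx0 (h₀ * Q⁻¹), (mem_GU_iff hσ _).2 ?_⟩, τ x * a * x⁻¹, ?_⟩
  · rw [smulGL_coe, ct_smul, Units.val_mul, ct_mul, Matrix.smul_mul, Matrix.mul_smul, smul_smul,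
      mul_comm, hx, Matrix.mul_assoc, ← Matrix.mul_assoc (ct σ h₀.1), ← Matrix.mul_smul,
      ← Matrix.smul_mul, ← hQ1, Matrix.mul_assoc, Units.mul_inv, mul_one, ← ct_mul, Units.mul_inv,
      ct_one]
  · simp only [smulGL_coe, Units.val_mul]
    rw [map_smul_mat, map_mul_mat, hQ3, Matrix.mul_smul, ← Matrix.mul_assoc, e, Matrix.smul_mul,
      smul_smul, smul_smul, inv_mul_cancel_right₀ hx0]

theorem gnorm_mapGU (τ : K ≃+* K) (g : Cfsg.GU n K q) (k : ℕ) :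
    ((gnorm (mapGU τ) g k).1 : Matrix (Fin n) (Fin n) K) =
      mnorm τ (g.1 : Matrix (Fin n) (Fin n) K) k := by
  induction k with
  | zero => rfl
  | succ k ih => rw [gnorm, mnorm, coe_mul, Units.val_mul, mapGU_coe, mapGL'_coe, ih]

theorem field_coset_SU [Fintype K] (hK : Fintype.card K = q ^ 2) (hn : 3 ≤ n) {τ : K ≃+* K}
    (hτ : Odd (orderOf τ)) (g : Cfsg.GU n K q) (h : (diagPSU g * fieldPSU τ) ^ orderOf τ = 1) :
    Cfsg.IsConjUnder (diagPSU : Cfsg.GU n K q →* _).range (fieldPSU τ) (diagPSU g * fieldPSU τ) := by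
  haveI : Nonempty (Fin n) := ⟨⟨0, by omega⟩⟩
  rw [pow_eq_gnorm diagPSU (mapGU τ) _ (fieldPSU_diagPSU τ), ← map_pow, pow_orderOf_eq_one,
    map_one, mul_one, diagPSU_eq_one_iff hK hn] at h
  obtain ⟨c, hc⟩ := h
  have hc0 := GL_smul_one_ne_zero hc
  rw [gnorm_mapGU] at hc
  obtain ⟨h, a, ha, e⟩ := hilbert90_PGL τ g.1 hc0 hc
  obtain ⟨h', a', e'⟩ := gu_hilbert90 hK hτ g ha e
  exact conj_of_twisted diagPSU (mapGU τ) _ (fieldPSU_diagPSU τ) (h := h')
    (diagPSU_eq_of_smul (c := a') e')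

theorem GL_map_mem_GU_iff {K₀ : Type*} [Field K₀] {q₀ : ℕ} (ε : K₀ →+* K)
    {σ : K ≃+* K} (hσ : ∀ x, σ x = x ^ q) {σ₀ : K₀ ≃+* K₀} (hσ₀ : ∀ x, σ₀ x = x ^ q₀)
    (hε : ∀ x, σ (ε x) = ε (σ₀ x)) (g : GL (Fin n) K₀) :
    Matrix.GeneralLinearGroup.map ε g ∈ Cfsg.GU n K q ↔ g ∈ Cfsg.GU n K₀ q₀ := by
  rw [mem_GU_iff hσ, mem_GU_iff hσ₀]
  have : ct σ ((Matrix.GeneralLinearGroup.map ε g : GL (Fin n) K) : Matrix (Fin n) (Fin n) K) *
      (Matrix.GeneralLinearGroup.map ε g : GL (Fin n) K) =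
      (ct σ₀ (g : Matrix (Fin n) (Fin n) K₀) * g).map ε := by
    rw [Matrix.map_mul]
    congr 1
    ext i j
    exact hε _
  rw [this, ← Matrix.map_one ε (map_zero ε) (map_one ε)]
  exact (Matrix.map_injective ε.injective).eq_iff

theorem field_centralizer_SU [Fintype K] (hK : Fintype.card K = q ^ 2) (hn : 3 ≤ n) {τ : K ≃+* K}
    (hτ : Odd (orderOf τ)) :
    (diagPSU : Cfsg.GU n K q →* _).range ⊓ centralizer {fieldPSU τ} =
      ((mapGU τ).eqLocus (MonoidHom.id _)).map diagPSU := by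
  haveI : Nonempty (Fin n) := ⟨⟨0, by omega⟩⟩
  obtain ⟨σ, hσ, h2⟩ := exists_qfrob hK
  ext y
  rw [mem_inf]
  constructor
  · rintro ⟨⟨g, rfl⟩, hg⟩
    rw [mem_centralizer_twisted diagPSU (mapGU τ) _ (fieldPSU_diagPSU τ),
      diagPSU_eq_iff hK hn] at hg
    obtain ⟨c, hc⟩ := hg
    have hc1 := norm_of_smul_GU hK hc
    rw [pow_succ, ← hσ] at hc1
    obtain ⟨x, hx0, hx⟩ := exists_fixed_of_map_eq_smul τ g.1 hc
    obtain ⟨z, hz1, hz2⟩ := exists_norm_fixed h2 hτ (y := σ x * x) (by simp [hx0])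
      (by rw [map_mul, invol_of_orderOf h2, mul_comm]) (by
        conv_rhs => rw [← hx]
        rw [map_mul, map_mul, ringAut_comm_apply σ τ]
        linear_combination -(τ (σ x) * τ x) * hc1)
    have hz0 : z ≠ 0 := by
      rintro rfl
      simp [hx0] at hz2
    refine ⟨⟨smulGL (x / z) (div_ne_zero hx0 hz0) g.1, ?_⟩, ?_, diagPSU_eq_of_smul (c := x / z) rfl⟩
    · rw [smul_mem_GU_iff hσ g.2, pow_succ, ← hσ, map_div₀, div_mul_div_comm, hz2, div_self]
      simp [hx0]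
    · refine Subtype.ext (Units.ext ?_)
      change ((x / z) • (g.1 : Matrix (Fin n) (Fin n) K)).map τ = (x / z) • _
      rw [map_smul_mat, show (g.1 : Matrix (Fin n) (Fin n) K).map τ = _ from hc, smul_smul,
        map_div₀, hz1, div_mul_eq_mul_div, mul_comm, hx]
  · rintro ⟨g, hg, rfl⟩
    refine ⟨⟨_, rfl⟩, ?_⟩
    rw [mem_centralizer_twisted diagPSU (mapGU τ) _ (fieldPSU_diagPSU τ)]
    exact congrArg _ hg

theorem pow_pow_odd {K₀ : Type*} [Field K₀] [Fintype K₀] {q₀ : ℕ} (h : Fintype.card K₀ = q₀ ^ 2)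
    {r : ℕ} (hr : Odd r) (x : K₀) : x ^ q₀ ^ r = x ^ q₀ := by
  obtain ⟨k, rfl⟩ := hr
  rw [pow_succ, pow_mul, pow_mul, ← h, FiniteField.pow_card_pow]

end CfsgH7
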