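import Cfsg.Agent.H7.Cyc

set_option autoImplicit false

namespace CfsgH7

open Matrix Subgroup Module

variable {F : Type*} [Field F]

theorem finite_ringAut [Finite F] : Finite (F ≃+* F) :=
  Finite.of_injective (fun σ : F ≃+* F => (σ : F → F)) DFunLike.coe_injective

theorem ringAut_isOfFinOrder [Finite F] (σ : F ≃+* F) : IsOfFinOrder σ := by
  haveI := finite_ringAut (F := F)
  exact isOfFinOrder_of_finite σ

theorem ringAut_orderOf_pos [Finite F] (σ : F ≃+* F) : 0 < orderOf σ :=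
  (ringAut_isOfFinOrder σ).orderOf_pos

theorem ringAut_structure [Fintype F] {p f : ℕ} [Fact p.Prime] (hF : Fintype.card F = p ^ f) :
    ∃ τ : F ≃+* F, (∀ x, τ x = x ^ p) ∧ orderOf τ = f ∧ ∀ σ : F ≃+* F, ∃ k : ℕ, σ = τ ^ k := by
  haveI : CharP F p := charP_of_card_eq_prime_pow hF
  letI := ZMod.algebra F p
  have hf : finrank (ZMod p) F = f := by
    have := Module.card_eq_pow_finrank (K := ZMod p) (V := F)
    rw [ZMod.card, hF] at this
    exact (Nat.pow_right_injective (Fact.out : p.Prime).two_le this).symm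
  let ψ : (F ≃ₐ[ZMod p] F) →* (F ≃+* F) := MulSemiringAction.toRingAut _ F
  have hψ : Function.Injective ψ := fun a b h => AlgEquiv.ext fun x => RingEquiv.congr_fun h x
  refine ⟨ψ (FiniteField.frobeniusAlgEquivOfAlgebraic (ZMod p) F), fun x => ?_, ?_, fun σ => ?_⟩
  · change FiniteField.frobeniusAlgEquivOfAlgebraic (ZMod p) F x = _
    simp
  · rw [orderOf_injective ψ hψ, FiniteField.orderOf_frobeniusAlgEquivOfAlgebraic, hf]
  · let σ' : F ≃ₐ[ZMod p] F := AlgEquiv.ofRingEquiv (f := σ) (fun x => by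
      exact RingHom.congr_fun (Subsingleton.elim ((σ : F →+* F).comp (algebraMap (ZMod p) F))
        (algebraMap (ZMod p) F)) x)
    obtain ⟨k, hk⟩ := (FiniteField.bijective_frobeniusAlgEquivOfAlgebraic_pow (ZMod p) F).2 σ'
    refine ⟨k, ?_⟩
    rw [← map_pow]
    simp only at hk
    rw [hk]
    rfl

theorem exists_card_eq_pow (F : Type*) [Field F] [Fintype F] :
    ∃ p f : ℕ, p.Prime ∧ 1 ≤ f ∧ Fintype.card F = p ^ f ∧ CharP F p := by
  obtain ⟨p, hp⟩ := CharP.exists F
  obtain ⟨k, hk1, hk⟩ := FiniteField.card F p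
  exact ⟨p, k, hk1, k.pos, hk, hp⟩

theorem ringAut_comm [Finite F] (σ τ : F ≃+* F) : σ * τ = τ * σ := by
  haveI := Fintype.ofFinite F
  obtain ⟨p, f, hp, -, hF, -⟩ := exists_card_eq_pow F
  haveI := Fact.mk hp
  obtain ⟨φ, -, -, h⟩ := ringAut_structure hF
  obtain ⟨k, rfl⟩ := h σ
  obtain ⟨l, rfl⟩ := h τ
  rw [← pow_add, ← pow_add, add_comm]

theorem ringAut_comm_apply [Finite F] (σ τ : F ≃+* F) (x : F) : σ (τ x) = τ (σ x) :=
  RingEquiv.congr_fun (ringAut_comm σ τ) x

theorem ringAut_card [Fintype F] {p f : ℕ} [Fact p.Prime] (hF : Fintype.card F = p ^ f) :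
    Nat.card (F ≃+* F) = f := by
  obtain ⟨φ, -, h1, h⟩ := ringAut_structure hF
  rw [← h1]
  exact (orderOf_eq_card_of_forall_mem_zpowers fun σ => by
    obtain ⟨k, rfl⟩ := h σ
    exact ⟨k, zpow_natCast _ _⟩).symm

theorem ringAut_isCyclic [Finite F] : IsCyclic (F ≃+* F) := by
  haveI := Fintype.ofFinite F
  obtain ⟨p, f, hp, -, hF, -⟩ := exists_card_eq_pow F
  haveI := Fact.mk hp
  obtain ⟨φ, -, -, h⟩ := ringAut_structure hF
  exact ⟨φ, fun σ => by
    obtain ⟨k, rfl⟩ := h σ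
    exact ⟨k, zpow_natCast _ _⟩⟩

theorem ringAut_equiv_zmod [Fintype F] {p f : ℕ} [Fact p.Prime] (hF : Fintype.card F = p ^ f) :
    Nonempty ((F ≃+* F) ≃* Multiplicative (ZMod f)) := by
  have h := ringAut_card hF
  subst h
  exact ⟨(zmodCyclicMulEquiv ringAut_isCyclic).symm⟩

theorem ringAut_orderOf_dvd [Fintype F] {p f : ℕ} [Fact p.Prime] (hF : Fintype.card F = p ^ f)
    (σ : F ≃+* F) : orderOf σ ∣ f := by
  rw [← ringAut_card hF]
  exact orderOf_dvd_natCard σ

/-- The fixed field of an automorphism. -/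
def fixF (σ : F ≃+* F) : Subfield F := FixedPoints.subfield (zpowers σ) F

theorem ringAut_pow_fixed {σ : F ≃+* F} {x : F} (h : σ x = x) (k : ℕ) : (σ ^ k) x = x := by
  induction k with
  | zero => rfl
  | succ k ih =>
    rw [pow_succ]
    change (σ ^ k) (σ x) = x
    rw [h, ih]

theorem mem_fixF [Finite F] {σ : F ≃+* F} {x : F} : x ∈ fixF σ ↔ σ x = x := by
  constructor
  · intro h
    exact h ⟨σ, mem_zpowers σ⟩
  · rintro h ⟨g, hg⟩
    obtain ⟨k, rfl⟩ := (ringAut_isOfFinOrder σ).mem_powers_iff_mem_zpowers.2 hg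
    exact ringAut_pow_fixed h k

theorem finrank_fixF [Finite F] (σ : F ≃+* F) : finrank (fixF σ) F = orderOf σ := by
  haveI := finite_ringAut (F := F)
  haveI := Fintype.ofFinite (zpowers σ)
  have := FixedPoints.finrank_eq_card (zpowers σ) F
  rw [← Nat.card_eq_fintype_card, Nat.card_zpowers] at this
  exact this

theorem card_fixF [Finite F] (σ : F ≃+* F) : Nat.card F = Nat.card (fixF σ) ^ orderOf σ := by
  rw [← finrank_fixF, Module.natCard_eq_pow_finrank (K := fixF σ)]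

theorem card_fixF_eq [Fintype F] (σ : F ≃+* F) {q₀ : ℕ} (h : Fintype.card F = q₀ ^ orderOf σ) :
    Nat.card (fixF σ) = q₀ := by
  have := card_fixF σ
  rw [Nat.card_eq_fintype_card, h] at this
  exact (Nat.pow_left_injective (ringAut_orderOf_pos σ).ne' this).symm

theorem exists_emb_fixF [Finite F] (σ : F ≃+* F) (F₀ : Type*) [Field F₀] [Fintype F₀]
    (h : Fintype.card F₀ = Nat.card (fixF σ)) :
    ∃ ε : F₀ →+* F, ∀ x, σ x = x ↔ ∃ y, ε y = x := by
  haveI := Fintype.ofFinite (fixF σ)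
  rw [Nat.card_eq_fintype_card] at h
  let e := FiniteField.ringEquivOfCardEq h
  refine ⟨(fixF σ).subtype.comp (e : F₀ →+* fixF σ), fun x => ⟨fun hx => ?_, ?_⟩⟩
  · exact ⟨e.symm ⟨x, mem_fixF.2 hx⟩, by simp⟩
  · rintro ⟨y, rfl⟩
    exact mem_fixF.1 (e y).2

theorem exists_norm_eq [Finite F] (σ : F ≃+* F) {c : F} (hc : σ c = c) :
    ∃ x : F, ∏ i ∈ Finset.range (orderOf σ), (σ ^ i) x = c := by
  haveI := finite_ringAut (F := F)
  haveI := Fintype.ofFinite (zpowers σ)
  obtain ⟨x, hx⟩ := FiniteField.norm_surjective (fixF σ) F ⟨c, mem_fixF.2 hc⟩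
  refine ⟨x, ?_⟩
  have h1 := Algebra.norm_eq_prod_automorphisms (fixF σ) x
  rw [hx] at h1
  change c = _ at h1
  rw [h1, Finset.prod_range]
  exact Fintype.prod_equiv ((finEquivZPowers (ringAut_isOfFinOrder σ)).trans
    (FixedPoints.toAlgAutMulEquiv (zpowers σ) F).toEquiv) _ _ (fun i => rfl)

theorem span_fixed_eq_top [Finite F] (σ : F ≃+* F) {V : Type*} [AddCommGroup V] [Module F V]
    (T : V →+ V) (hT : ∀ (a : F) v, T (a • v) = σ a • T v) (hr : ∀ v, T^[orderOf σ] v = v) :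
    Submodule.span F {v | T v = v} = ⊤ := by
  by_contra hne
  obtain ⟨φ, hφ0, hφ⟩ := Submodule.exists_le_ker_of_lt_top _ (lt_top_iff_ne_top.2 hne)
  apply hφ0
  ext v
  have hit : ∀ (k : ℕ) (a : F) (v : V), T^[k] (a • v) = (σ ^ k) a • T^[k] v := by
    intro k
    induction k with
    | zero => intro a v; rfl
    | succ k ih =>
      intro a v
      rw [Function.iterate_succ_apply, Function.iterate_succ_apply, hT, ih, pow_succ]
      rfl
  have hsum : ∀ a : F, ∑ i : Fin (orderOf σ), (σ ^ (i : ℕ)) a * φ (T^[i] v) = 0 := by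
    intro a
    have hfix : T (∑ i ∈ Finset.range (orderOf σ), T^[i] (a • v)) =
        ∑ i ∈ Finset.range (orderOf σ), T^[i] (a • v) := by
      rw [map_sum]
      have e1 := Finset.sum_range_succ (fun i => T^[i] (a • v)) (orderOf σ)
      have e2 := Finset.sum_range_succ' (fun i => T^[i] (a • v)) (orderOf σ)
      rw [e1, hr] at e2
      simp only [Function.iterate_succ_apply', Function.iterate_zero_apply, add_left_inj] at e2
      exact e2.symm
    have := hφ (Submodule.subset_span (s := {v | T v = v}) hfix)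
    rw [LinearMap.mem_ker, map_sum, Finset.sum_range] at this
    simpa [hit] using this
  have hli : LinearIndependent F (fun i : Fin (orderOf σ) =>
      (((σ ^ (i : ℕ) : F ≃+* F) : F →* F) : F → F)) := by
    refine (linearIndependent_monoidHom F F).comp
      (fun i : Fin (orderOf σ) => ((σ ^ (i : ℕ) : F ≃+* F) : F →* F)) ?_
    intro i j hij
    have : σ ^ (i : ℕ) = σ ^ (j : ℕ) := RingEquiv.ext fun x => DFunLike.congr_fun hij x
    exact Fin.ext (pow_injOn_Iio_orderOf i.2 j.2 this)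
  have := Fintype.linearIndependent_iff.1 hli (fun i => φ (T^[i] v)) (by
    ext a
    simp only [Finset.sum_apply, Pi.smul_apply, smul_eq_mul, Pi.zero_apply]
    rw [← hsum a]
    exact Finset.sum_congr rfl fun i _ => mul_comm _ _) ⟨0, ringAut_orderOf_pos σ⟩
  exact this

theorem exists_GL_cols {ι : Type*} [Fintype ι] [DecidableEq ι] (s : Set (ι → F))
    (hs : Submodule.span F s = ⊤) : ∃ h : GL ι F, ∀ j, (h : Matrix ι ι F).col j ∈ s := by
  obtain ⟨b, hb, hspan, hli⟩ := exists_linearIndependent F s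
  let B : Basis b F (ι → F) := Basis.mk hli (by
    rw [Subtype.range_coe_subtype]
    exact (hspan.trans hs).ge)
  haveI : Fintype b := FiniteDimensional.fintypeBasisIndex B
  have hc : Fintype.card ι = Fintype.card b := by
    rw [← finrank_eq_card_basis B, finrank_fintype_fun_eq_card]
  let e := Fintype.equivOfCardEq hc
  let M : Matrix ι ι F := Matrix.of fun i j => (e j : ι → F) i
  have hM : IsUnit M := by
    rw [← Matrix.linearIndependent_cols_iff_isUnit]
    exact hli.comp e e.injective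
  exact ⟨hM.unit, fun j => hb (e j).2⟩

/-- The twisted norm `g σ(g) ⋯ σ^(k-1)(g)` of a matrix. -/
def mnorm {ι : Type*} [Fintype ι] [DecidableEq ι] (σ : F ≃+* F) (g : Matrix ι ι F) :
    ℕ → Matrix ι ι F
  | 0 => 1
  | k + 1 => g * (mnorm σ g k).map σ

/-- The semilinear map `v ↦ g σ(v)`. -/
def semiT {ι : Type*} [Fintype ι] (σ : F ≃+* F) (g : Matrix ι ι F) : (ι → F) →+ (ι → F) where
  toFun v := g *ᵥ (σ ∘ v)
  map_zero' := by
    have : (σ ∘ (0 : ι → F)) = 0 := by ext; simp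
    rw [this, mulVec_zero]
  map_add' u v := by
    have : (σ ∘ (u + v)) = σ ∘ u + σ ∘ v := by ext; simp
    rw [this, mulVec_add]

theorem semiT_apply {ι : Type*} [Fintype ι] (σ : F ≃+* F) (g : Matrix ι ι F) (v : ι → F) :
    semiT σ g v = g *ᵥ (σ ∘ v) := rfl

theorem semiT_smul {ι : Type*} [Fintype ι] (σ : F ≃+* F) (g : Matrix ι ι F) (a : F) (v : ι → F) :
    semiT σ g (a • v) = σ a • semiT σ g v := by
  have : (σ ∘ (a • v)) = σ a • (σ ∘ v) := by ext; simp
  rw [semiT_apply, this, mulVec_smul, semiT_apply]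

theorem map_mulVec_comp {ι : Type*} [Fintype ι] (σ : F ≃+* F) (g : Matrix ι ι F) (v : ι → F) :
    σ ∘ (g *ᵥ v) = g.map σ *ᵥ (σ ∘ v) := by
  ext i
  exact RingHom.map_mulVec (σ : F →+* F) g v i

theorem semiT_iterate {ι : Type*} [Fintype ι] [DecidableEq ι] (σ : F ≃+* F) (g : Matrix ι ι F)
    (k : ℕ) (v : ι → F) : (semiT σ g)^[k] v = mnorm σ g k *ᵥ ((σ ^ k : F ≃+* F) ∘ v) := by
  induction k with
  | zero => simp [mnorm]
  | succ k ih =>
    rw [Function.iterate_succ_apply', ih, semiT_apply, map_mulVec_comp, mulVec_mulVec, pow_succ']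
    rfl

theorem mnorm_smul {ι : Type*} [Fintype ι] [DecidableEq ι] (σ : F ≃+* F) (a : F) (g : Matrix ι ι F)
    (k : ℕ) : mnorm σ (a • g) k = (∏ i ∈ Finset.range k, (σ ^ i) a) • mnorm σ g k := by
  induction k with
  | zero => simp [mnorm]
  | succ k ih =>
    rw [mnorm, ih, Finset.prod_range_succ', mnorm]
    have : ((∏ i ∈ Finset.range k, (σ ^ i) a) • mnorm σ g k).map σ =
        (∏ i ∈ Finset.range k, (σ ^ (i + 1)) a) • (mnorm σ g k).map σ := by
      ext i j
      simp only [map_apply, Matrix.smul_apply, smul_eq_mul, map_mul, map_prod, pow_succ']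
      rfl
    rw [this, Matrix.smul_mul, Matrix.mul_smul, smul_smul, mul_comm a]
    rfl

theorem span_fixed_semiT [Finite F] {ι : Type*} [Fintype ι] [DecidableEq ι] (σ : F ≃+* F)
    (g : Matrix ι ι F) (hg : mnorm σ g (orderOf σ) = 1) :
    Submodule.span F {v : ι → F | g *ᵥ (σ ∘ v) = v} = ⊤ :=
  span_fixed_eq_top σ (semiT σ g) (semiT_smul σ g) (fun v => by
    rw [semiT_iterate, hg, pow_orderOf_eq_one, one_mulVec]; rfl)

/-- Hilbert's theorem 90 for `GL_n`. -/
theorem hilbert90_GL [Finite F] {ι : Type*} [Fintype ι] [DecidableEq ι] (σ : F ≃+* F)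
    (g : Matrix ι ι F) (hg : mnorm σ g (orderOf σ) = 1) :
    ∃ h : GL ι F, g * (h : Matrix ι ι F).map σ = h := by
  obtain ⟨h, hh⟩ := exists_GL_cols _ (span_fixed_semiT σ g hg)
  refine ⟨h, ?_⟩
  ext i j
  exact congrFun (hh j) i

theorem mnorm_scalar_fixed [Finite F] {ι : Type*} [Fintype ι] [DecidableEq ι] [Nonempty ι]
    (σ : F ≃+* F) (g : GL ι F) {c : F} (hg : mnorm σ (g : Matrix ι ι F) (orderOf σ) = c • 1) :
    σ c = c := by
  obtain ⟨i⟩ := ‹Nonempty ι›
  have h1 : ∀ v, (semiT σ (g : Matrix ι ι F))^[orderOf σ] v = c • v := by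
    intro v
    rw [semiT_iterate, hg, pow_orderOf_eq_one, smul_mulVec, one_mulVec]; rfl
  have h2 := Function.iterate_succ_apply (semiT σ (g : Matrix ι ι F)) (orderOf σ) (Pi.single i 1)
  rw [Function.iterate_succ_apply', h1, h1, semiT_smul] at h2
  have h3 : semiT σ (g : Matrix ι ι F) (Pi.single i 1) ≠ 0 := by
    intro h
    rw [semiT_apply] at h
    have h4 := congrArg (fun w => ((g⁻¹ : GL ι F) : Matrix ι ι F) *ᵥ w) h
    simp only [mulVec_mulVec, Units.inv_mul, one_mulVec, mulVec_zero] at h4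
    simpa using congrFun h4 i
  exact smul_left_injective F h3 h2

/-- Projective version of Hilbert 90. -/
theorem hilbert90_PGL [Finite F] {ι : Type*} [Fintype ι] [DecidableEq ι] [Nonempty ι] (σ : F ≃+* F)
    (g : GL ι F) {c : F} (hc : c ≠ 0) (hg : mnorm σ (g : Matrix ι ι F) (orderOf σ) = c • 1) :
    ∃ (h : GL ι F) (a : F), a ≠ 0 ∧ (g : Matrix ι ι F) * (h : Matrix ι ι F).map σ = a • h := by
  obtain ⟨x, hx⟩ := exists_norm_eq σ (c := c⁻¹) (by rw [map_inv₀, mnorm_scalar_fixed σ g hg])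
  have hx0 : x ≠ 0 := by
    rintro rfl
    apply inv_ne_zero hc
    rw [← hx]
    exact Finset.prod_eq_zero (Finset.mem_range.2 (ringAut_orderOf_pos σ)) (map_zero _)
  obtain ⟨h, hh⟩ := hilbert90_GL σ (x • (g : Matrix ι ι F)) (by
    rw [mnorm_smul, hx, hg, smul_smul, inv_mul_cancel₀ hc, one_smul])
  refine ⟨h, x⁻¹, inv_ne_zero hx0, ?_⟩
  conv_rhs => rw [← hh]
  rw [Matrix.smul_mul, smul_smul, inv_mul_cancel₀ hx0, one_smul]

/-- Hilbert 90 for the field. -/
theorem hilbert90_field [Finite F] (σ : F ≃+* F) {c : F}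
    (hc : ∏ i ∈ Finset.range (orderOf σ), (σ ^ i) c = 1) : ∃ x : F, x ≠ 0 ∧ c * σ x = x := by
  obtain ⟨h, hh⟩ := hilbert90_GL σ (c • (1 : Matrix Unit Unit F)) (by
    rw [mnorm_smul, hc, one_smul]
    generalize orderOf σ = k
    induction k with
    | zero => rfl
    | succ k ih => rw [mnorm, ih]; simp)
  refine ⟨(h : Matrix Unit Unit F) () (), ?_, ?_⟩
  · have := h.det_ne_zero
    simpa using this
  · have := congrFun (congrFun hh ()) ()
    simpa using this

end CfsgH7
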