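import Cfsg.Agent.H7.InvRing
import Cfsg.Agent.H7.FldAut
import Cfsg.Prelude.Def_LieClassical

set_option autoImplicit false

namespace CfsgH7

open Matrix Subgroup

variable {K : Type*} [Field K] {ι : Type*} [Fintype ι] [DecidableEq ι]

theorem exists_qfrob [Fintype K] {q : ℕ} (hK : Fintype.card K = q ^ 2) :
    ∃ σ : K ≃+* K, (∀ x, σ x = x ^ q) ∧ orderOf σ = 2 := by
  obtain ⟨p, f, hp, hf, hF, -⟩ := exists_card_eq_pow K
  haveI := Fact.mk hp
  obtain ⟨τ, h1, h2, -⟩ := ringAut_structure hF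
  obtain ⟨k, -, hk⟩ := (Nat.dvd_prime_pow hp).1 (show q ∣ p ^ f from ⟨q, by rw [← hF, hK, sq]⟩)
  have hf2 : f = k * 2 := by
    apply Nat.pow_right_injective hp.two_le
    simp only
    rw [← hF, hK, hk, pow_mul]
  refine ⟨τ ^ k, fun x => ?_, ?_⟩
  · rw [hk]
    clear hk hf2
    induction k with
    | zero => simp
    | succ k ih =>
      rw [pow_succ', pow_succ, pow_mul, ← ih, ← h1]
      rfl
  · rw [orderOf_pow' _ (by rintro rfl; omega), h2, hf2, Nat.gcd_mul_right_left,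
      Nat.mul_div_cancel_left _ (by omega)]

theorem invol_of_orderOf {σ : K ≃+* K} (h : orderOf σ = 2) (x : K) : σ (σ x) = x := by
  have := pow_orderOf_eq_one σ
  rw [h, sq] at this
  exact RingEquiv.congr_fun this x

theorem exists_ne_of_orderOf {σ : K ≃+* K} (h : orderOf σ = 2) : ∃ θ, θ - σ θ ≠ 0 := by
  by_contra hc
  push Not at hc
  have : σ = 1 := RingEquiv.ext fun x => (sub_eq_zero.1 (hc x)).symm
  rw [this, orderOf_one] at h
  omega

theorem exists_norm_two [Finite K] {σ : K ≃+* K} (h : orderOf σ = 2) {c : K} (hc : σ c = c) :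
    ∃ x, x * σ x = c := by
  obtain ⟨x, hx⟩ := exists_norm_eq σ hc
  rw [h] at hx
  exact ⟨x, by simpa [Finset.prod_range_succ] using hx⟩

theorem exists_h90_two [Finite K] {σ : K ≃+* K} (h : orderOf σ = 2) {c : K} (hc : c * σ c = 1) :
    ∃ x, x ≠ 0 ∧ c * σ x = x :=
  hilbert90_field σ (by rw [h]; simpa [Finset.prod_range_succ] using hc)

theorem exists_trace_two {σ : K ≃+* K} (h : orderOf σ = 2) {c : K} (hc : σ c = c) :
    ∃ x, x + σ x = c := by
  obtain ⟨θ, hθ⟩ := exists_ne_of_orderOf h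
  refine ⟨c * θ / (θ - σ θ), ?_⟩
  rw [map_div₀, map_mul, map_sub, invol_of_orderOf h, hc]
  have : σ θ - θ ≠ 0 := fun h => hθ (by linear_combination -h)
  field_simp
  ring

/-- conjugate transpose with respect to a field automorphism -/
def ct (σ : K ≃+* K) : Matrix ι ι K →+ Matrix ι ι K where
  toFun M := (M.map σ)ᵀ
  map_zero' := by ext; simp
  map_add' M N := by ext; simp

omit [Fintype ι] [DecidableEq ι] in
theorem ct_apply (σ : K ≃+* K) (M : Matrix ι ι K) : ct σ M = (M.map σ)ᵀ := rfl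

omit [DecidableEq ι] in
theorem ct_mul (σ : K ≃+* K) (M N : Matrix ι ι K) : ct σ (M * N) = ct σ N * ct σ M := by
  rw [ct_apply, ct_apply, ct_apply, ← transpose_mul]
  congr 1
  exact Matrix.map_mul (f := (σ : K →+* K))

omit [Fintype ι] in
theorem ct_one (σ : K ≃+* K) : ct σ (1 : Matrix ι ι K) = 1 := by
  rw [ct_apply, Matrix.map_one _ (map_zero σ) (map_one σ), transpose_one]

omit [Fintype ι] [DecidableEq ι] in
theorem ct_smul (σ : K ≃+* K) (c : K) (M : Matrix ι ι K) : ct σ (c • M) = σ c • ct σ M := by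
  ext; simp [ct_apply]

omit [Fintype ι] [DecidableEq ι] in
theorem ct_ct {σ : K ≃+* K} (h : orderOf σ = 2) (M : Matrix ι ι K) : ct σ (ct σ M) = M := by
  ext; simp [ct_apply, invol_of_orderOf h]

theorem det_ct (σ : K ≃+* K) (M : Matrix ι ι K) : (ct σ M).det = σ M.det := by
  rw [ct_apply, det_transpose]
  exact (RingHom.map_det (σ : K →+* K) M).symm

theorem isUnit_ct (σ : K ≃+* K) {M : Matrix ι ι K} (h : IsUnit M) : IsUnit (ct σ M) := by
  rw [Matrix.isUnit_iff_isUnit_det] at h ⊢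
  rw [det_ct]
  exact h.map σ

theorem isUnit_smul_one {c : K} (hc : c ≠ 0) : IsUnit (c • (1 : Matrix ι ι K)) :=
  IsUnit.of_mul_eq_one (c⁻¹ • 1) (by simp [smul_smul, hc])

/-- A Hermitian invertible matrix is `Q Q*` with `Q` a polynomial in `H`. -/
theorem herm_exists [Finite K] {σ : K ≃+* K} (h2 : orderOf σ = 2) {H : Matrix ι ι K}
    (hu : IsUnit H) (hH : ct σ H = H) :
    ∃ Q : Matrix ι ι K, IsUnit Q ∧ Q * ct σ Q = H ∧ ct σ Q * Q = H ∧
      ∀ A : Matrix ι ι K, Commute A H → Commute A Q := by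
  obtain ⟨θ, hθ⟩ := exists_ne_of_orderOf h2
  let S : Set (Matrix ι ι K) := insert H (Set.range fun c : K => c • (1 : Matrix ι ι K))
  have hcomm : ∀ A : Matrix ι ι K, Commute A H → ∀ b ∈ S, Commute A b := by
    rintro A hA b (rfl | ⟨c, rfl⟩)
    · exact hA
    · exact (Commute.one_right A).smul_right c
  obtain ⟨Q, hQ, hQ'⟩ := (exists_norm_of_comm (ct σ) (ct_mul σ) (ct_one σ) S (by
      rintro a (rfl | ⟨c, rfl⟩) b hb
      · exact hcomm _ (Commute.refl _) b hb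
      · exact ((Commute.one_left b).smul_left c)) (by
      rintro a (rfl | ⟨c, rfl⟩)
      · rw [hH]; exact Subring.subset_closure (Or.inl rfl)
      · exact Subring.subset_closure (Or.inr ⟨σ c, by simp only [ct_smul, ct_one]⟩))
    (fun a _ => ct_ct h2 a) (θ • 1) (Subring.subset_closure (Or.inr ⟨θ, rfl⟩)) (by
      rw [ct_smul, ct_one, ← sub_smul]
      exact isUnit_smul_one hθ)).1 H (Subring.subset_closure (Or.inl rfl)) hu hH
  have hQu : IsUnit Q := isUnit_of_mul_isUnit_left (hQ' ▸ hu)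
  have hc : ∀ A : Matrix ι ι K, Commute A H → Commute A Q :=
    fun A hA => commute_of_mem_closure (hcomm A hA) hQ
  refine ⟨Q, hQu, hQ', ?_, hc⟩
  have := (hc H (Commute.refl H)).eq
  conv_rhs at this => rw [← hQ']
  conv_lhs at this => rw [← hQ', Matrix.mul_assoc]
  rw [hQu.mul_left_cancel this, hQ']

theorem hermForm_eq {n q : ℕ} {σ : K ≃+* K} (hσ : ∀ x, σ x = x ^ q) (u v : Fin n → K) :
    Cfsg.hermForm n K q u v = u ⬝ᵥ (σ ∘ v) := by
  simp [Cfsg.hermForm, dotProduct, hσ]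

theorem preserves_herm_iff (σ : K ≃+* K) (g : Matrix ι ι K) :
    (∀ u v, (g *ᵥ u) ⬝ᵥ (σ ∘ (g *ᵥ v)) = u ⬝ᵥ (σ ∘ v)) ↔ ct σ g * g = 1 := by
  have e : ∀ u v, (g *ᵥ u) ⬝ᵥ (σ ∘ (g *ᵥ v)) = (σ ∘ v) ⬝ᵥ ((ct σ g * g) *ᵥ u) := by
    intro u v
    rw [map_mulVec_comp, ← mulVec_mulVec, ct_apply, mulVec_transpose, dotProduct_comm,
      dotProduct_comm (σ ∘ v), ← dotProduct_mulVec, dotProduct_comm]
  constructor
  · intro h
    ext i j
    have := h (Pi.single j 1) (Pi.single i 1)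
    rw [e] at this
    have e2 : (σ ∘ (Pi.single i 1 : ι → K)) = Pi.single i 1 := by
      ext k; simp [Pi.single_apply, apply_ite σ]
    rw [e2] at this
    simpa [one_apply, Pi.single_apply, eq_comm] using this
  · intro h u v
    rw [e, h, one_mulVec, dotProduct_comm]

theorem mem_GU_iff {n q : ℕ} {σ : K ≃+* K} (hσ : ∀ x, σ x = x ^ q) (g : GL (Fin n) K) :
    g ∈ Cfsg.GU n K q ↔ ct σ (g : Matrix (Fin n) (Fin n) K) * g = 1 := by
  rw [← preserves_herm_iff]
  simp only [← hermForm_eq hσ]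
  rfl

theorem mem_GU_iff' {n q : ℕ} {σ : K ≃+* K} (hσ : ∀ x, σ x = x ^ q) (g : GL (Fin n) K) :
    g ∈ Cfsg.GU n K q ↔ (g : Matrix (Fin n) (Fin n) K) * ct σ (g : Matrix (Fin n) (Fin n) K) = 1 := by
  rw [mem_GU_iff hσ, mul_eq_one_comm]

theorem mem_SU_iff {n q : ℕ} {σ : K ≃+* K} (hσ : ∀ x, σ x = x ^ q)
    (g : Matrix.SpecialLinearGroup (Fin n) K) :
    g ∈ Cfsg.SU n K q ↔ ct σ (g : Matrix (Fin n) (Fin n) K) * g = 1 := by
  rw [← preserves_herm_iff]
  simp only [← hermForm_eq hσ]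
  rfl

/-- conjugacy in `GU` is the same as conjugacy in `GL` -/
theorem GU_isConj_iff [Fintype K] {q n : ℕ} (hK : Fintype.card K = q ^ 2)
    (A B : Cfsg.GU n K q) : IsConj A B ↔ IsConj (A : GL (Fin n) K) (B : GL (Fin n) K) := by
  refine ⟨fun h => (Cfsg.GU n K q).subtype.map_isConj h, fun h => ?_⟩
  obtain ⟨σ, hσ, h2⟩ := exists_qfrob hK
  obtain ⟨P, hP⟩ := isConj_iff.1 h
  have hA := (mem_GU_iff' hσ _).1 A.2
  have hB := (mem_GU_iff hσ _).1 B.2
  rw [mul_inv_eq_iff_eq_mul] at hP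
  have hP' : (P : Matrix (Fin n) (Fin n) K) * ((A : GL (Fin n) K) : Matrix (Fin n) (Fin n) K) =
      ((B : GL (Fin n) K) : Matrix (Fin n) (Fin n) K) * (P : Matrix (Fin n) (Fin n) K) :=
    congrArg Units.val hP
  obtain ⟨Q, hQ, -, hQ2, hQ3⟩ := herm_exists h2
    (H := ct σ (P : Matrix (Fin n) (Fin n) K) * (P : Matrix (Fin n) (Fin n) K))
    ((isUnit_ct σ P.isUnit).mul P.isUnit) (by rw [ct_mul, ct_ct h2])
  have hc := hQ3 (A : GL (Fin n) K) (by
    have e : ct σ ((P : Matrix (Fin n) (Fin n) K) * ((A : GL (Fin n) K) : Matrix (Fin n) (Fin n) K)) *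
        (P * ((A : GL (Fin n) K) : Matrix (Fin n) (Fin n) K)) =
        ct σ (P : Matrix (Fin n) (Fin n) K) * P := by
      rw [hP', ct_mul, Matrix.mul_assoc, ← Matrix.mul_assoc _ _ (P : Matrix (Fin n) (Fin n) K), hB,
        one_mul]
    change _ * _ = _ * _
    conv_lhs => rw [← e, ct_mul]
    simp only [← Matrix.mul_assoc, hA, one_mul])
  obtain ⟨Q, rfl⟩ := hQ
  have hmem : P * Q⁻¹ ∈ Cfsg.GU n K q := by
    rw [mem_GU_iff hσ, Units.val_mul, ct_mul, Matrix.mul_assoc,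
      ← Matrix.mul_assoc (ct σ (P : Matrix (Fin n) (Fin n) K)), ← hQ2, Matrix.mul_assoc,
      Units.mul_inv, mul_one, ← ct_mul, Units.mul_inv, ct_one]
  refine isConj_iff.2 ⟨⟨P * Q⁻¹, hmem⟩, Subtype.ext ?_⟩
  change P * Q⁻¹ * A * (P * Q⁻¹)⁻¹ = B
  have hc' : (A : GL (Fin n) K) * Q = Q * A := Units.ext hc.eq
  calc P * Q⁻¹ * A * (P * Q⁻¹)⁻¹ = P * Q⁻¹ * (A * Q) * P⁻¹ := by group
    _ = P * A * P⁻¹ := by rw [hc']; group
    _ = B := by rw [hP]; group

/-- criterion for being similar to a unitary matrix -/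
theorem exists_unitary_of_form [Finite K] {σ : K ≃+* K} (h2 : orderOf σ = 2) (A P : GL ι K)
    (hP : ct σ (A : Matrix ι ι K) * P * A = P) :
    ∃ Q : GL ι K, ct σ ((Q * A * Q⁻¹ : GL ι K) : Matrix ι ι K) * (Q * A * Q⁻¹ : GL ι K) = 1 := by
  obtain ⟨θ, hθ⟩ := exists_ne_of_orderOf h2
  let s : Matrix ι ι K →+ Matrix ι ι K :=
    { toFun := fun M => ((P⁻¹ : GL ι K) : Matrix ι ι K) * ct σ M * P
      map_zero' := by simp
      map_add' := fun M N => by simp [mul_add, add_mul] }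
  have hs : ∀ M, s M = ((P⁻¹ : GL ι K) : Matrix ι ι K) * ct σ M * P := fun M => rfl
  have hmul : ∀ M N, s (M * N) = s N * s M := by
    intro M N
    simp only [hs, ct_mul, Matrix.mul_assoc, Units.mul_inv_cancel_left]
  have hone : s 1 = 1 := by rw [hs, ct_one, mul_one, Units.inv_mul]
  have hsm : ∀ c : K, s (c • 1) = σ c • 1 := by
    intro c
    rw [hs, ct_smul, ct_one, Matrix.mul_smul, mul_one, Matrix.smul_mul, Units.inv_mul]
  let U : Matrix ι ι K := ((P⁻¹ : GL ι K) : Matrix ι ι K) * ct σ (P : Matrix ι ι K)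
  have e1 : ct σ (P : Matrix ι ι K) * ct σ ((P⁻¹ : GL ι K) : Matrix ι ι K) = 1 := by
    rw [← ct_mul, Units.inv_mul, ct_one]
  have e2 : ct σ ((P⁻¹ : GL ι K) : Matrix ι ι K) * ct σ (P : Matrix ι ι K) = 1 := by
    rw [← ct_mul, Units.mul_inv, ct_one]
  have hsU : s U = ct σ ((P⁻¹ : GL ι K) : Matrix ι ι K) * P := by
    rw [hs, ct_mul, ct_ct h2, ← Matrix.mul_assoc, Units.inv_mul, one_mul]
  have hU1 : U * s U = 1 := by
    rw [hsU, Matrix.mul_assoc, ← Matrix.mul_assoc (ct σ _), e1, one_mul, Units.inv_mul]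
  have hU2 : s U * U = 1 := mul_eq_one_comm.1 hU1
  have hssU : s (s U) = U := by
    rw [hsU, hs, ct_mul, ct_ct h2, ← Matrix.mul_assoc, Matrix.mul_assoc, Units.inv_mul, mul_one]
  have hAU : Commute (A : Matrix ι ι K) U := by
    have h1 := congrArg (ct σ) hP
    rw [ct_mul, ct_mul, ct_ct h2, ← Matrix.mul_assoc] at h1
    have h3 : ct σ (A : Matrix ι ι K) = P * ((A⁻¹ : GL ι K) : Matrix ι ι K) * (P⁻¹ : GL ι K) := by
      rw [Units.eq_mul_inv_iff_mul_eq, Units.eq_mul_inv_iff_mul_eq, hP]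
    change _ * _ = _ * _
    simp only [U]
    conv_lhs => rw [← h1, h3]
    simp only [Matrix.mul_assoc, Units.inv_mul_cancel_left, Units.mul_inv_cancel_left]
  let S : Set (Matrix ι ι K) :=
    insert U (insert (s U) (Set.range fun c : K => c • (1 : Matrix ι ι K)))
  have hcomm : ∀ M : Matrix ι ι K, Commute M U → ∀ b ∈ S, Commute M b := by
    rintro M hM b (rfl | rfl | ⟨c, rfl⟩)
    · exact hM
    · change _ * _ = _ * _
      calc M * s U = (s U * U) * M * s U := by rw [hU2, one_mul]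
        _ = s U * M * (U * s U) := by rw [Matrix.mul_assoc (s U), ← hM.eq]; simp only [Matrix.mul_assoc]
        _ = _ := by rw [hU1, mul_one]
    · exact (Commute.one_right M).smul_right c
  obtain ⟨y, hy, hyu, hy'⟩ := (exists_norm_of_comm s hmul hone S (by
      rintro a (rfl | rfl | ⟨c, rfl⟩) b hb
      · exact hcomm _ (Commute.refl _) b hb
      · exact hcomm _ (hU2.trans hU1.symm) b hb
      · exact ((Commute.one_left b).smul_left c)) (by
      rintro a (rfl | rfl | ⟨c, rfl⟩)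
      · exact Subring.subset_closure (Or.inr (Or.inl rfl))
      · rw [hssU]; exact Subring.subset_closure (Or.inl rfl)
      · exact Subring.subset_closure (Or.inr (Or.inr ⟨σ c, by simp only [hsm]⟩))) (by
      rintro a (rfl | rfl | ⟨c, rfl⟩)
      · exact hssU
      · rw [hssU]
      · simp only [hsm, invol_of_orderOf h2])
    (θ • 1) (Subring.subset_closure (Or.inr (Or.inr ⟨θ, rfl⟩))) (by
      rw [hsm, ← sub_smul]
      exact isUnit_smul_one hθ)).2 U (Subring.subset_closure (Or.inl rfl)) hU1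
  have hAy : Commute (A : Matrix ι ι K) y := commute_of_mem_closure (hcomm _ hAU) hy
  have hUy : Commute U y := commute_of_mem_closure (hcomm _ (Commute.refl U)) hy
  have hUsy : Commute U (s y) := by
    have : s y = s U * y := by
      conv_rhs => rw [hy', ← Matrix.mul_assoc, hU2, one_mul]
    rw [this]
    exact Commute.mul_right (hU1.trans hU2.symm) hUy
  have hH : ct σ ((P : Matrix ι ι K) * y) = P * y := by
    conv_rhs => rw [hy', hUsy.eq, hs]
    simp only [U, ct_mul, Matrix.mul_assoc, Units.mul_inv_cancel_left]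
  obtain ⟨Q, hQ, -, hQ2, -⟩ := herm_exists h2 (P.isUnit.mul hyu) hH
  obtain ⟨Q, rfl⟩ := hQ
  refine ⟨Q, ?_⟩
  have e3 : ct σ (A : Matrix ι ι K) * (P * y) * A = P * y := by
    rw [Matrix.mul_assoc, Matrix.mul_assoc, ← hAy.eq, ← Matrix.mul_assoc, ← Matrix.mul_assoc, hP]
  rw [← hQ2] at e3
  rw [Units.val_mul, Units.val_mul, ct_mul, ct_mul]
  calc ct σ ((Q⁻¹ : GL ι K) : Matrix ι ι K) * (ct σ (A : Matrix ι ι K) * ct σ (Q : Matrix ι ι K)) *
        (Q * A * (Q⁻¹ : GL ι K)) = ct σ ((Q⁻¹ : GL ι K) : Matrix ι ι K) *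
        (ct σ (A : Matrix ι ι K) * (ct σ (Q : Matrix ι ι K) * Q) * A) * (Q⁻¹ : GL ι K) := by
        simp only [Matrix.mul_assoc]
    _ = 1 := by
        rw [e3, ← Matrix.mul_assoc, ← ct_mul, Units.mul_inv, ct_one, one_mul, Units.mul_inv]

end CfsgH7
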