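import Cfsg.Agent.H7.PSLField
import Cfsg.Prelude.Def_ClassicalGeometry

set_option autoImplicit false

namespace CfsgH7

open Matrix

section abstract

variable {F V : Type*} [Field F] [AddCommGroup V] [Module F V]

theorem exists_perp_family [Module.Finite F V] (B : LinearMap.BilinForm F V) {κ : Type*} [Fintype κ]
    (s : κ → V) (h : Fintype.card κ < Module.finrank F V) : ∃ x, x ≠ 0 ∧ ∀ i, B x (s i) = 0 := by
  let φ : V →ₗ[F] (κ → F) :=
    { toFun := fun x i => B x (s i)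
      map_add' := fun x y => by ext; simp
      map_smul' := fun c x => by ext; simp }
  obtain ⟨x, hx, hx0⟩ := (Submodule.ne_bot_iff _).1
    (LinearMap.ker_ne_bot_of_finrank_lt (f := φ) (by simpa using h))
  exact ⟨x, hx0, fun i => congrFun hx i⟩

/-- a symplectic family -/
def SympFam (B : LinearMap.BilinForm F V) {κ : Type*} [DecidableEq κ] (u v : κ → V) : Prop :=
  (∀ i j, B (u i) (u j) = 0) ∧ (∀ i j, B (v i) (v j) = 0) ∧
    ∀ i j, B (u i) (v j) = if i = j then 1 else 0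

theorem exists_B_eq_one {B : LinearMap.BilinForm F V} (hnd : ∀ x, (∀ y, B x y = 0) → x = 0)
    {x : V} (hx : x ≠ 0) : ∃ y, B x y = 1 := by
  obtain ⟨y, hy⟩ : ∃ y, B x y ≠ 0 := by
    by_contra h
    push Not at h
    exact hx (hnd x h)
  exact ⟨(B x y)⁻¹ • y, by simp [hy]⟩

/-- project a vector to the orthogonal complement of a symplectic family -/
theorem SympFam.exists_proj {B : LinearMap.BilinForm F V} (halt : B.IsAlt) {κ : Type*} [Fintype κ]
    [DecidableEq κ] {u v : κ → V} (h : SympFam B u v) (y : V) :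
    ∃ y', (∀ i, B y' (u i) = 0) ∧ (∀ i, B y' (v i) = 0) ∧
      ∀ x, (∀ i, B x (u i) = 0) → (∀ i, B x (v i) = 0) → B x y' = B x y := by
  refine ⟨y - ∑ i, (B y (v i) • u i - B y (u i) • v i), fun j => ?_, fun j => ?_, fun x h1 h2 => ?_⟩
  · simp [h.1, ← halt.neg_eq (u j), h.2.2]
  · simp [h.2.1, h.2.2]
  · simp [h1, h2]

theorem SympFam.cons {B : LinearMap.BilinForm F V} (halt : B.IsAlt) {m : ℕ} {u v : Fin m → V}
    (h : SympFam B u v) {x y : V} (hxu : ∀ i, B x (u i) = 0) (hxv : ∀ i, B x (v i) = 0)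
    (hyu : ∀ i, B y (u i) = 0) (hyv : ∀ i, B y (v i) = 0) (hxy : B x y = 1) :
    SympFam B (Fin.cons x u : Fin (m + 1) → V) (Fin.cons y v) := by
  refine ⟨fun i j => ?_, fun i j => ?_, fun i j => ?_⟩
  · refine Fin.cases ?_ (fun i => ?_) i <;> refine Fin.cases ?_ (fun j => ?_) j <;>
      simp [halt.self_eq_zero, hxu, h.1, ← halt.neg_eq x]
  · refine Fin.cases ?_ (fun i => ?_) i <;> refine Fin.cases ?_ (fun j => ?_) j <;>
      simp [halt.self_eq_zero, hyv, h.2.1, ← halt.neg_eq y]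
  · refine Fin.cases ?_ (fun i => ?_) i <;> refine Fin.cases ?_ (fun j => ?_) j <;>
      simp [hxy, hxv, h.2.2, ← halt.neg_eq y, hyu, (Fin.succ_ne_zero _).symm]

theorem exists_sympFam [Module.Finite F V] {B : LinearMap.BilinForm F V} (halt : B.IsAlt)
    (hnd : ∀ x, (∀ y, B x y = 0) → x = 0) (m : ℕ) (hm : 2 * m ≤ Module.finrank F V + 1) :
    ∃ u v : Fin m → V, SympFam B u v := by
  induction m with
  | zero => exact ⟨Fin.elim0, Fin.elim0, fun i => i.elim0, fun i => i.elim0, fun i => i.elim0⟩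
  | succ m ih =>
    obtain ⟨u, v, h⟩ := ih (by omega)
    obtain ⟨x, hx0, hx⟩ := exists_perp_family B (Sum.elim u v) (by simp; omega)
    obtain ⟨y, hy⟩ := exists_B_eq_one hnd hx0
    obtain ⟨y', h1, h2, h3⟩ := h.exists_proj halt y
    exact ⟨_, _, h.cons halt (fun i => hx (.inl i)) (fun i => hx (.inr i)) h1 h2
      (by rw [h3 x (fun i => hx (.inl i)) (fun i => hx (.inr i)), hy])⟩

end abstract

variable {F : Type*} [Field F] {m : ℕ}

theorem toBilin'_nondeg {ι : Type*} [Fintype ι] [DecidableEq ι] {H : Matrix ι ι F} (hH : IsUnit H)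
    (x : ι → F) (h : ∀ y, Matrix.toBilin' H x y = 0) : x = 0 := by
  obtain ⟨H, rfl⟩ := hH
  ext i
  have := h (((H⁻¹ : GL ι F) : Matrix ι ι F) *ᵥ Pi.single i 1)
  rwa [Matrix.toBilin'_apply', mulVec_mulVec, Units.mul_inv, one_mulVec, dotProduct_single,
    mul_one] at this

theorem transpose_mul_mul_apply {ι κ : Type*} [Fintype ι] (k : Matrix ι κ F) (H : Matrix ι ι F)
    (a b : κ) : (kᵀ * H * k) a b = (fun i => k i a) ⬝ᵥ H *ᵥ (fun i => k i b) := by
  rw [Matrix.mul_assoc]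
  rfl

theorem isUnit_J : IsUnit (J (Fin m) F) := (Matrix.isUnit_iff_isUnit_det _).2 (isUnit_det_J _ _)

/-- invertible alternating matrices are congruent to `J` -/
theorem alt_congr_J {H : Matrix (Fin m ⊕ Fin m) (Fin m ⊕ Fin m) F} (hH : IsUnit H)
    (halt : ∀ v, v ⬝ᵥ H *ᵥ v = 0) : ∃ k : GL (Fin m ⊕ Fin m) F,
      k.1ᵀ * H * k.1 = J (Fin m) F := by
  obtain ⟨u, v, h⟩ := exists_sympFam (B := Matrix.toBilin' H)
    (fun v => by rw [Matrix.toBilin'_apply', halt]) (toBilin'_nondeg hH) m (by simp; omega)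
  have hsk : ∀ x y, Matrix.toBilin' H y x = -Matrix.toBilin' H x y := fun x y =>
    (LinearMap.IsAlt.neg (fun v => by rw [Matrix.toBilin'_apply', halt]) x y).symm
  let k : Matrix (Fin m ⊕ Fin m) (Fin m ⊕ Fin m) F := Matrix.of fun i j => Sum.elim v u j i
  have e : kᵀ * H * k = J (Fin m) F := by
    ext a b
    rw [transpose_mul_mul_apply, ← Matrix.toBilin'_apply']
    rcases a with a | a <;> rcases b with b | b
    · exact h.2.1 a b
    · exact (hsk (u b) (v a)).trans (by rw [h.2.2]; simp [J, one_apply, eq_comm])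
    · exact (h.2.2 a b).trans (by simp [J, one_apply])
    · exact h.1 a b
  have hk : IsUnit k := isUnit_of_mul_isUnit_right (e ▸ isUnit_J)
  exact ⟨hk.unit, e⟩

theorem form_eq_iff {ι : Type*} [Fintype ι] [DecidableEq ι] (A B : Matrix ι ι F) :
    (∀ u v, u ⬝ᵥ A *ᵥ v = u ⬝ᵥ B *ᵥ v) ↔ A = B := by
  refine ⟨fun h => ?_, fun h u v => by rw [h]⟩
  ext i j
  simpa using h (Pi.single i 1) (Pi.single j 1)

theorem dot_mulVec_mulVec {ι : Type*} [Fintype ι] (A H : Matrix ι ι F) (u v : ι → F) :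
    (A *ᵥ u) ⬝ᵥ H *ᵥ (A *ᵥ v) = u ⬝ᵥ (Aᵀ * H * A) *ᵥ v := by
  rw [← mulVec_mulVec, ← mulVec_mulVec, dotProduct_mulVec u, vecMul_transpose]

theorem sympForm_sim_iff (A : Matrix (Fin m ⊕ Fin m) (Fin m ⊕ Fin m) F) (c : F) :
    (∀ u v, Cfsg.sympForm m F (A *ᵥ u) (A *ᵥ v) = c * Cfsg.sympForm m F u v) ↔
      Aᵀ * J (Fin m) F * A = c • J (Fin m) F := by
  rw [← form_eq_iff]
  simp only [Cfsg.sympForm, dot_mulVec_mulVec, smul_mulVec, dotProduct_smul, smul_eq_mul]

theorem mem_Sp_iff_form (A : Matrix (Fin m ⊕ Fin m) (Fin m ⊕ Fin m) F) :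
    A ∈ symplecticGroup (Fin m) F ↔
      ∀ u v, Cfsg.sympForm m F (A *ᵥ u) (A *ᵥ v) = Cfsg.sympForm m F u v := by
  simpa [SymplecticGroup.mem_iff'] using (sympForm_sim_iff A 1).symm

theorem mem_GSp_iff (g : GL (Fin m ⊕ Fin m) F) : g ∈ Cfsg.GSp m F ↔
    ∃ c : Fˣ, g.1ᵀ * J (Fin m) F * g.1 = (c : F) • J (Fin m) F :=
  exists_congr fun c => sympForm_sim_iff _ _

theorem sympForm_self (v : Fin m ⊕ Fin m → F) : Cfsg.sympForm m F v v = 0 := by
  simp [Cfsg.sympForm, J, dotProduct, mulVec, Fintype.sum_sum_type, one_apply, mul_comm]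

theorem sympForm_skew (u v : Fin m ⊕ Fin m → F) :
    Cfsg.sympForm m F v u = -Cfsg.sympForm m F u v := by
  rw [Cfsg.sympForm, Cfsg.sympForm, dotProduct_mulVec, ← mulVec_transpose, J_transpose,
    neg_mulVec, neg_dotProduct, dotProduct_comm]

theorem sympForm_map (τ : F ≃+* F) (u v : Fin m ⊕ Fin m → F) :
    Cfsg.sympForm m F (τ ∘ u) (τ ∘ v) = τ (Cfsg.sympForm m F u v) := by
  simp [Cfsg.sympForm, J, dotProduct, mulVec, Fintype.sum_sum_type, one_apply]

theorem smul_J_inj [Nonempty (Fin m)] {a b : F} (h : a • J (Fin m) F = b • J (Fin m) F) : a = b := by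
  obtain ⟨i⟩ := ‹Nonempty (Fin m)›
  simpa [J] using congrFun (congrFun h (.inr i)) (.inl i)

end CfsgH7
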