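import Cfsg.Prelude.Def_LieTypeDatum

set_option autoImplicit false

namespace CfsgH7

open Subgroup

variable {A : Type*} [Group A]

theorem nonempty_equiv_quot {Γ : Type*} [Group Γ] (f : Γ →* A) (H : Subgroup A) (hr : f.range = H)
    (N : Subgroup Γ) [N.Normal] (hk : f.ker = N) : Nonempty (H ≃* Γ ⧸ N) :=
  ⟨(MulEquiv.subgroupCongr hr.symm).trans
    ((QuotientGroup.quotientKerEquivRange f).symm.trans (QuotientGroup.quotientMulEquivOfEq hk))⟩

theorem inf_centralizer_conj (D : Subgroup A) [hD : D.Normal] (α x : A) :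
    Nonempty (↥(D ⊓ centralizer {x}) ≃* ↥(D ⊓ centralizer {α * x * α⁻¹})) := by
  refine ⟨((MulAut.conj α).subgroupMap (D ⊓ centralizer {x})).trans (MulEquiv.subgroupCongr ?_)⟩
  ext y
  simp only [mem_map, mem_inf, mem_centralizer_singleton_iff]
  constructor
  · rintro ⟨z, ⟨h1, h2⟩, rfl⟩
    refine ⟨hD.conj_mem z h1 α, ?_⟩
    change α * z * α⁻¹ * (α * x * α⁻¹) = α * x * α⁻¹ * (α * z * α⁻¹)
    calc α * z * α⁻¹ * (α * x * α⁻¹) = α * (z * x) * α⁻¹ := by group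
      _ = α * (x * z) * α⁻¹ := by rw [h2]
      _ = _ := by group
  · rintro ⟨h1, h2⟩
    refine ⟨α⁻¹ * y * α, ⟨by simpa using hD.conj_mem y h1 α⁻¹, ?_⟩, ?_⟩
    · calc α⁻¹ * y * α * x = α⁻¹ * (y * (α * x * α⁻¹)) * α := by group
        _ = α⁻¹ * ((α * x * α⁻¹) * y) * α := by rw [h2]
        _ = _ := by group
    · change α * (α⁻¹ * y * α) * α⁻¹ = y
      group

theorem isConjUnder_conj_iff (D : Subgroup A) [hD : D.Normal] (α x y : A) :
    Cfsg.IsConjUnder D (α * x * α⁻¹) (α * y * α⁻¹) ↔ Cfsg.IsConjUnder D x y := by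
  constructor
  · rintro ⟨h, hh, e⟩
    refine ⟨α⁻¹ * h * α, by simpa using hD.conj_mem h hh α⁻¹, ?_⟩
    calc y = α⁻¹ * (α * y * α⁻¹) * α := by group
      _ = _ := by rw [e]; group
  · rintro ⟨h, hh, e⟩
    refine ⟨α * h * α⁻¹, hD.conj_mem h hh α, ?_⟩
    rw [e]; group

theorem isConjUnder_refl (D : Subgroup A) (x : A) : Cfsg.IsConjUnder D x x :=
  ⟨1, D.one_mem, by simp⟩

theorem isConjUnder_symm {D : Subgroup A} {x y : A} (h : Cfsg.IsConjUnder D x y) :
    Cfsg.IsConjUnder D y x := by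
  obtain ⟨h, hh, rfl⟩ := h
  exact ⟨h⁻¹, D.inv_mem hh, by group⟩

theorem isConjUnder_trans {D : Subgroup A} {x y z : A} (h : Cfsg.IsConjUnder D x y)
    (h' : Cfsg.IsConjUnder D y z) : Cfsg.IsConjUnder D x z := by
  obtain ⟨h, hh, rfl⟩ := h
  obtain ⟨k, hk, rfl⟩ := h'
  exact ⟨k * h, D.mul_mem hk hh, by group⟩

theorem isConjUnder_orderOf {D : Subgroup A} {x y : A} (h : Cfsg.IsConjUnder D x y) :
    orderOf y = orderOf x := by
  obtain ⟨h, -, rfl⟩ := h
  exact (MulAut.conj h).orderOf_eq x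

theorem mem_sup_normal_iff (K L : Subgroup A) [K.Normal] (y : A) :
    y ∈ K ⊔ L ↔ ∃ k ∈ K, ∃ l ∈ L, k * l = y := by
  rw [← SetLike.mem_coe, normal_mul]
  rfl

theorem splitClassCount_eq_relIndex (H K : Subgroup A) [hK : K.Normal] (hKH : K ≤ H) (x : A) :
    Cfsg.splitClassCount H K x = (K ⊔ (H ⊓ centralizer {x})).relIndex H := by
  unfold Cfsg.splitClassCount relIndex index
  have hequiv : Equivalence (fun y z : {y : A // Cfsg.IsConjUnder H x y} =>
      Cfsg.IsConjUnder K y.1 z.1) :=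
    ⟨fun y => isConjUnder_refl _ _, isConjUnder_symm, isConjUnder_trans⟩
  let f : H → Quot (fun y z : {y : A // Cfsg.IsConjUnder H x y} => Cfsg.IsConjUnder K y.1 z.1) :=
    fun h => Quot.mk _ ⟨h * x * h⁻¹, h, h.2, rfl⟩
  have hf : ∀ a b : H, f a = f b ↔ (a⁻¹ * b) ∈ (K ⊔ (H ⊓ centralizer {x})).subgroupOf H := by
    intro a b
    have e0 : f a = f b ↔ Cfsg.IsConjUnder K (a * x * a⁻¹) (b * x * b⁻¹) :=
      Quot.eq.trans hequiv.eqvGen_iff
    rw [e0, mem_subgroupOf, mem_sup_normal_iff]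
    simp only [coe_mul, coe_inv]
    constructor
    · rintro ⟨k, hk, e⟩
      refine ⟨(a : A)⁻¹ * k * a, by simpa using hK.conj_mem k hk (a : A)⁻¹,
        (a : A)⁻¹ * k⁻¹ * b, ⟨?_, ?_⟩, by group⟩
      · exact H.mul_mem (H.mul_mem (H.inv_mem a.2) (H.inv_mem (hKH hk))) b.2
      · apply mem_centralizer_singleton_iff.2
        calc (a : A)⁻¹ * k⁻¹ * b * x = (a : A)⁻¹ * k⁻¹ * (b * x * (b : A)⁻¹) * b := by group
          _ = _ := by rw [e]; group
    · rintro ⟨k, hk, l, ⟨-, hl⟩, e⟩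
      replace hl := mem_centralizer_singleton_iff.1 hl
      refine ⟨a * k * (a : A)⁻¹, hK.conj_mem k hk a, ?_⟩
      have hb : (b : A) = a * (k * l) := by rw [e]; group
      calc (b : A) * x * (b : A)⁻¹ = a * k * (l * x) * l⁻¹ * k⁻¹ * (a : A)⁻¹ := by rw [hb]; group
        _ = _ := by rw [hl]; group
  symm
  refine Nat.card_congr (Equiv.ofBijective (Quotient.lift f fun a b hab =>
    (hf a b).2 (QuotientGroup.leftRel_apply.1 hab)) ⟨?_, ?_⟩)
  · intro a b
    obtain ⟨a, rfl⟩ := QuotientGroup.mk_surjective a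
    obtain ⟨b, rfl⟩ := QuotientGroup.mk_surjective b
    intro h
    exact QuotientGroup.eq.2 ((hf a b).1 h)
  · rintro ⟨y, h, hh, rfl⟩
    exact ⟨QuotientGroup.mk ⟨h, hh⟩, rfl⟩

theorem splitClassCount_conj (H K : Subgroup A) [hH : H.Normal] [hK : K.Normal] (α x : A) :
    Cfsg.splitClassCount H K (α * x * α⁻¹) = Cfsg.splitClassCount H K x := by
  unfold Cfsg.splitClassCount
  symm
  refine Nat.card_congr (Quot.congr (Equiv.subtypeEquiv (MulAut.conj α).toEquiv fun y =>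
    (isConjUnder_conj_iff H α x y).symm) fun y z => (isConjUnder_conj_iff K α y.1 z.1).symm)

theorem relIndex_eq_index_of_maps {Γ Q : Type*} [Group Γ] [Group Q] (Φ : Γ →* A) (π : Γ →* Q)
    (hπ : Function.Surjective π) (L : Subgroup A) (M : Subgroup Q)
    (h : ∀ g, Φ g ∈ L ↔ π g ∈ M) : L.relIndex Φ.range = M.index := by
  rw [← index_comap, ← index_comap_of_surjective M hπ]
  congr 1
  ext g
  exact h g

/-- twisted norm in a group -/
def gnorm {Γ : Type*} [Group Γ] (s : Γ → Γ) (g : Γ) : ℕ → Γ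
  | 0 => 1
  | k + 1 => g * s (gnorm s g k)

theorem pow_eq_gnorm {Γ : Type*} [Group Γ] (Φ : Γ →* A) (s : Γ → Γ) (φ : A)
    (h : ∀ g, φ * Φ g = Φ (s g) * φ) (g : Γ) (k : ℕ) :
    (Φ g * φ) ^ k = Φ (gnorm s g k) * φ ^ k := by
  induction k with
  | zero => simp [gnorm]
  | succ k ih =>
    rw [pow_succ', ih, gnorm, map_mul, mul_assoc, ← mul_assoc φ, h, pow_succ']
    simp only [mul_assoc]

/-- Reduction for the coset conjugacy statements. -/
theorem coset_conj_of_std (D : Subgroup A) [hD : D.Normal] {x φ α : A} (e : α * x * α⁻¹ = φ)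
    (hφ : ∀ δ ∈ D, (δ * φ) ^ orderOf φ = 1 → Cfsg.IsConjUnder D φ (δ * φ)) {δ : A} (hδ : δ ∈ D) :
    orderOf (δ * x) = orderOf x ↔ Cfsg.IsConjUnder D x (δ * x) := by
  refine ⟨fun h => ?_, isConjUnder_orderOf⟩
  rw [← isConjUnder_conj_iff D α, e]
  have e2 : α * (δ * x) * α⁻¹ = (α * δ * α⁻¹) * φ := by rw [← e]; group
  rw [e2]
  apply hφ _ (hD.conj_mem δ hδ α)
  have e3 : orderOf φ = orderOf x := by rw [← e]; exact (MulAut.conj α).orderOf_eq x
  rw [← e2, e3, ← h, conj_pow, pow_orderOf_eq_one]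
  group

theorem cyc_index_sup {G : Type*} [CommGroup G] [Finite G] [IsCyclic G] (a b : ℕ) :
    ((powMonoidHom a : G →* G).range ⊔ (powMonoidHom b : G →* G).range).index =
      Nat.gcd (Nat.card G) (Nat.gcd a b) := by
  rw [← IsCyclic.index_powMonoidHom_range]
  congr 1
  apply le_antisymm
  · apply sup_le
    · rintro _ ⟨x, rfl⟩
      obtain ⟨k, hk⟩ := Nat.gcd_dvd_left a b
      exact ⟨x ^ k, by rw [powMonoidHom_apply, powMonoidHom_apply, ← pow_mul, mul_comm, ← hk]⟩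
    · rintro _ ⟨x, rfl⟩
      obtain ⟨k, hk⟩ := Nat.gcd_dvd_right a b
      exact ⟨x ^ k, by rw [powMonoidHom_apply, powMonoidHom_apply, ← pow_mul, mul_comm, ← hk]⟩
  · rintro _ ⟨x, rfl⟩
    rw [powMonoidHom_apply, ← zpow_natCast, Nat.gcd_eq_gcd_ab, zpow_add]
    refine mul_mem (mem_sup_left ⟨x ^ (Nat.gcdA a b), ?_⟩) (mem_sup_right ⟨x ^ (Nat.gcdB a b), ?_⟩)
    · rw [powMonoidHom_apply, ← zpow_natCast, ← zpow_mul, mul_comm]
    · rw [powMonoidHom_apply, ← zpow_natCast, ← zpow_mul, mul_comm]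

theorem cyc_subgroup_eq_range {G : Type*} [CommGroup G] [Finite G] [IsCyclic G] (H : Subgroup G) :
    H = (powMonoidHom H.index : G →* G).range := by
  symm
  apply eq_of_le_of_card_ge
  · rintro _ ⟨x, rfl⟩
    exact H.pow_index_mem x
  · rw [IsCyclic.card_powMonoidHom_range, Nat.gcd_eq_right H.index_dvd_card, ← H.card_mul_index,
      Nat.mul_div_cancel _ (Nat.pos_of_ne_zero H.index_ne_zero_of_finite)]

end CfsgH7
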