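import Cfsg.Agent.H7.AutAbs

set_option autoImplicit false

namespace CfsgH7

open Subgroup

variable {A : Type*} [Group A]

theorem conj_of_twisted {Γ : Type*} [Group Γ] (Φ : Γ →* A) (s : Γ → Γ) (φ : A)
    (hs : ∀ g, φ * Φ g = Φ (s g) * φ) {g h : Γ} (e : Φ (g * s h) = Φ h) :
    Cfsg.IsConjUnder Φ.range φ (Φ g * φ) := by
  refine ⟨Φ h, ⟨h, rfl⟩, ?_⟩
  rw [eq_mul_inv_iff_mul_eq, mul_assoc, hs, ← mul_assoc, ← map_mul, e]

theorem mem_centralizer_twisted {Γ : Type*} [Group Γ] (Φ : Γ →* A) (s : Γ → Γ) (φ : A)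
    (hs : ∀ g, φ * Φ g = Φ (s g) * φ) (g : Γ) :
    Φ g ∈ centralizer {φ} ↔ Φ (s g) = Φ g := by
  rw [mem_centralizer_singleton_iff, hs, mul_left_inj, eq_comm]

theorem split_abstract {Γ Q : Type*} [Group Γ] [Group Q] (Φ : Γ →* A) (π : Γ →* Q)
    (hπ : Function.Surjective π) (K : Subgroup A) [K.Normal] (hK : K ≤ Φ.range) (N : Subgroup Q)
    [N.Normal] (hN : ∀ g, Φ g ∈ K ↔ π g ∈ N) (Γ₀ : Subgroup Γ) (x : A)
    (hL : Φ.range ⊓ centralizer {x} = Γ₀.map Φ) :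
    Cfsg.splitClassCount Φ.range K x = (N ⊔ Γ₀.map π).index := by
  rw [splitClassCount_eq_relIndex _ _ hK, hL]
  apply relIndex_eq_index_of_maps Φ π hπ
  intro g
  rw [mem_sup_normal_iff, mem_sup_normal_iff]
  constructor
  · rintro ⟨k, hk, _, ⟨l, hl, rfl⟩, e⟩
    refine ⟨π (g * l⁻¹), (hN _).1 ?_, π l, ⟨l, hl, rfl⟩, by simp⟩
    rw [map_mul, map_inv, ← e, mul_inv_cancel_right]
    exact hk
  · rintro ⟨k, hk, _, ⟨l, hl, rfl⟩, e⟩
    refine ⟨Φ (g * l⁻¹), (hN _).2 ?_, Φ l, ⟨l, hl, rfl⟩, by simp⟩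
    rw [map_mul, map_inv, ← e, mul_inv_cancel_right]
    exact hk

theorem eq_of_orderOf_two {G : Type*} [Group G] [Finite G] [IsCyclic G] {a b : G}
    (ha : orderOf a = 2) (hb : orderOf b = 2) : a = b := by
  classical
  haveI := Fintype.ofFinite G
  have h := IsCyclic.card_orderOf_eq_totient (α := G) (d := 2) (ha ▸ orderOf_dvd_card)
  rw [Nat.totient_two, Finset.card_eq_one] at h
  obtain ⟨c, hc⟩ := h
  have h1 : a ∈ ({c} : Finset G) := by rw [← hc]; simp [ha]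
  have h2 : b ∈ ({c} : Finset G) := by rw [← hc]; simp [hb]
  rw [Finset.mem_singleton] at h1 h2
  rw [h1, h2]

/-- a subgroup of order `d` of a finite cyclic group is the group of `N / d`-th powers -/
theorem cyc_subgroup_eq_range' {G : Type*} [CommGroup G] [Finite G] [IsCyclic G] (H : Subgroup G)
    {N d : ℕ} (hN : Nat.card G = N) (hd : Nat.card H = d) :
    H = (powMonoidHom (N / d) : G →* G).range ∧ N / d ∣ N := by
  have : H.index = N / d := by
    rw [← hN, ← hd, ← H.card_mul_index, Nat.mul_div_cancel_left _ Nat.card_pos]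
  rw [← this, ← hN]
  exact ⟨cyc_subgroup_eq_range H, H.index_dvd_card⟩

theorem cyc_index_sup' {G : Type*} [CommGroup G] [Finite G] [IsCyclic G] (H : Subgroup G)
    {N d : ℕ} (hN : Nat.card G = N) (hd : Nat.card H = d) (a : ℕ) :
    ((powMonoidHom a : G →* G).range ⊔ H).index = Nat.gcd a (N / d) := by
  obtain ⟨h1, h2⟩ := cyc_subgroup_eq_range' H hN hd
  rw [h1, cyc_index_sup, hN]
  exact Nat.gcd_eq_right ((Nat.gcd_dvd_right _ _).trans h2)

end CfsgH7
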