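import Cfsg.Agent.H7.AutPSL3b

set_option autoImplicit false

namespace CfsgH7

open Matrix Subgroup

variable {F : Type*} [Field F]

theorem mul_of_sq_mul [Finite F] (f : F → F) (hadd : ∀ a b, f (a + b) = f a + f b)
    (h1 : f 1 = 1) (hsq : ∀ a b, f (a ^ 2 * b) = f a ^ 2 * f b) (a b : F) :
    f (a * b) = f a * f b := by
  have hs : ∀ a b, f (a ^ 2 * b) = f (a ^ 2) * f b := by
    intro a b
    have := hsq a 1
    rw [mul_one, h1, mul_one] at this
    rw [hsq, this]
  by_cases h2 : ringChar F = 2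
  · obtain ⟨c, hc⟩ := FiniteField.isSquare_of_char_two h2 a
    rw [hc, ← sq, hs]
  · have h2' : (2 : F) ≠ 0 := Ring.two_ne_zero h2
    have e : a + ((a - 1) / 2) ^ 2 = ((a + 1) / 2) ^ 2 := by field_simp; ring
    have e1 := hs ((a + 1) / 2) b
    rw [← e, add_mul, hadd, hadd, hs] at e1
    linear_combination e1

theorem tv01_coe (a : F) : (Matrix.SpecialLinearGroup.transvection (zero_ne_one : (0 : Fin 2) ≠ 1) a :
    Matrix (Fin 2) (Fin 2) F) = !![1, a; 0, 1] := by
  ext i j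
  fin_cases i <;> fin_cases j <;> simp [Matrix.SpecialLinearGroup.transvection_coe]

theorem tv10_coe (a : F) : (Matrix.SpecialLinearGroup.transvection (one_ne_zero : (1 : Fin 2) ≠ 0) a :
    Matrix (Fin 2) (Fin 2) F) = !![1, 0; a, 1] := by
  ext i j
  fin_cases i <;> fin_cases j <;> simp [Matrix.SpecialLinearGroup.transvection_coe]

theorem aut_psl2_case0 [Finite F] (β : MulAut (Matrix.ProjectiveSpecialLinearGroup (Fin 2) F))
    (f f' : F → F)
    (hf : ∀ a, β (QuotientGroup.mk (Matrix.SpecialLinearGroup.transvection zero_ne_one a)) =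
        QuotientGroup.mk (Matrix.SpecialLinearGroup.transvection zero_ne_one (f a)))
    (hf' : ∀ a, β (QuotientGroup.mk (Matrix.SpecialLinearGroup.transvection one_ne_zero a)) =
        QuotientGroup.mk (Matrix.SpecialLinearGroup.transvection one_ne_zero (f' a)))
    (h1 : f 1 = 1) : ∃ σ : F ≃+* F, β = fieldPSL σ := by
  have hadd : ∀ a b, f (a + b) = f a + f b := by
    intro a b
    apply mk_transvection_inj (zero_ne_one : (0 : Fin 2) ≠ 1)
    rw [← hf, Matrix.SpecialLinearGroup.transvection_add, Matrix.SpecialLinearGroup.transvection_add,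
      QuotientGroup.mk_mul, QuotientGroup.mk_mul, map_mul, hf, hf]
  have hadd' : ∀ a b, f' (a + b) = f' a + f' b := by
    intro a b
    apply mk_transvection_inj (one_ne_zero : (1 : Fin 2) ≠ 0)
    rw [← hf', Matrix.SpecialLinearGroup.transvection_add,
      Matrix.SpecialLinearGroup.transvection_add,
      QuotientGroup.mk_mul, QuotientGroup.mk_mul, map_mul, hf', hf']
  have h0 : f 0 = 0 := by have := hadd 0 0; simpa using this
  have h0' : f' 0 = 0 := by have := hadd' 0 0; simpa using this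
  have hneg : ∀ a, f (-a) = - f a := by
    intro a
    have := hadd a (-a)
    rw [add_neg_cancel, h0] at this
    linear_combination -this
  have hneg' : ∀ a, f' (-a) = - f' a := by
    intro a
    have := hadd' a (-a)
    rw [add_neg_cancel, h0'] at this
    linear_combination -this
  have hinj : ∀ a, f a = 0 → a = 0 := by
    intro a ha
    have := hf a
    rw [ha, Matrix.SpecialLinearGroup.transvection_coeff_zero, QuotientGroup.mk_one,
      map_eq_one_iff _ β.injective, QuotientGroup.eq_one_iff,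
      Matrix.SpecialLinearGroup.transvection_mem_center_iff] at this
    exact this
  have hbraid : ∀ a, a ≠ 0 → f a * f' a⁻¹ = 1 := by
    intro a ha
    have e : Matrix.SpecialLinearGroup.transvection (zero_ne_one : (0 : Fin 2) ≠ 1) a *
        Matrix.SpecialLinearGroup.transvection one_ne_zero (-a⁻¹) *
        Matrix.SpecialLinearGroup.transvection zero_ne_one a =
        Matrix.SpecialLinearGroup.transvection one_ne_zero (-a⁻¹) *
        Matrix.SpecialLinearGroup.transvection zero_ne_one a *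
        Matrix.SpecialLinearGroup.transvection one_ne_zero (-a⁻¹) := by
      apply Subtype.ext
      simp only [Matrix.SpecialLinearGroup.coe_mul, tv01_coe, tv10_coe]
      ext i j
      fin_cases i <;> fin_cases j <;> simp [ha]
    have e2 := congrArg (fun s => β (QuotientGroup.mk s)) e
    simp only [QuotientGroup.mk_mul, map_mul, hf, hf'] at e2
    simp only [← QuotientGroup.mk_mul] at e2
    obtain ⟨c, hc⟩ := SL_mk_eq_iff.1 e2
    simp only [Matrix.SpecialLinearGroup.coe_mul, tv01_coe, tv10_coe, hneg'] at hc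
    have e00 := congrFun (congrFun hc 0) 0
    have e01 := congrFun (congrFun hc 0) 1
    simp [Matrix.mul_apply, Fin.sum_univ_two] at e00 e01
    have hfa : f a ≠ 0 := fun h => ha (hinj a h)
    by_contra hne
    have h2 : 1 + -(f a * f' a⁻¹) ≠ 0 := fun h => hne (by linear_combination -h)
    have hc1 : c = 1 := by
      apply mul_right_cancel₀ h2
      rw [one_mul, ← e00]
    rw [hc1, one_mul] at e01
    apply mul_ne_zero hfa h2
    linear_combination -e01
  have h1' : f' 1 = 1 := by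
    have := hbraid 1 one_ne_zero
    rwa [h1, inv_one, one_mul] at this
  have hsq : ∀ a b, f (a ^ 2 * b) = f a ^ 2 * f b := by
    intro a b
    by_cases ha : a = 0
    · subst ha; simp [h0]
    have hfa : f a ≠ 0 := fun h => ha (hinj a h)
    have e : ∀ (a : F) (ha : a ≠ 0) (b : F), Matrix.SpecialLinearGroup.diag2n zero_ne_one a ha *
        Matrix.SpecialLinearGroup.transvection (zero_ne_one : (0 : Fin 2) ≠ 1) b *
        (Matrix.SpecialLinearGroup.diag2n zero_ne_one a ha)⁻¹ =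
        Matrix.SpecialLinearGroup.transvection zero_ne_one (a ^ 2 * b) := by
      intro a ha b
      rw [mul_inv_eq_iff_eq_mul]
      apply Subtype.ext
      simp only [Matrix.SpecialLinearGroup.coe_mul, tv01_coe,
        Matrix.SpecialLinearGroup.diag2_coe' ha]
      ext i j
      fin_cases i <;> fin_cases j <;> simp [ha]
      field_simp
    have e2 : β (QuotientGroup.mk (Matrix.SpecialLinearGroup.diag2n zero_ne_one a ha)) =
        QuotientGroup.mk (Matrix.SpecialLinearGroup.diag2n zero_ne_one (f a) hfa) := by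
      rw [diag2n_decompose, diag2n_decompose]
      simp only [QuotientGroup.mk_mul, map_mul, hf, hf', hneg, hneg', h1, h1']
      rw [eq_inv_of_mul_eq_one_right (hbraid a ha)]
    apply mk_transvection_inj (zero_ne_one : (0 : Fin 2) ≠ 1)
    rw [← hf, ← e a ha, ← e (f a) hfa]
    simp only [QuotientGroup.mk_mul, QuotientGroup.mk_inv, map_mul, map_inv, hf, e2]
  have hmul := mul_of_sq_mul f hadd h1 hsq
  let σ0 : F →+* F := RingHom.mk' ⟨⟨f, h1⟩, hmul⟩ hadd
  have hσ0 : Function.Bijective σ0 := Finite.injective_iff_bijective.1 σ0.injective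
  have hff : ∀ a, f' a = f a := by
    intro a
    by_cases ha : a = 0
    · rw [ha, h0, h0']
    · have e1 := hbraid a⁻¹ (inv_ne_zero ha)
      rw [inv_inv] at e1
      have e2 := hmul a⁻¹ a
      rw [inv_mul_cancel₀ ha, h1] at e2
      apply mul_left_cancel₀ (left_ne_zero_of_mul_eq_one e1)
      rw [e1, ← e2]
  refine ⟨RingEquiv.ofBijective σ0 hσ0, psl_aut_ext fun i j hij a => ?_⟩
  rw [fieldPSL_mk, mapSL_transvection]
  fin_cases i <;> fin_cases j
  · exact absurd rfl hij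
  · exact hf a
  · rw [show (RingEquiv.ofBijective σ0 hσ0) a = f' a from (hff a).symm]
    exact hf' a
  · exact absurd rfl hij

theorem par_of_dot_two {φ v w : Fin 2 → F} (hφ : φ ≠ 0) (hv : v ≠ 0) (hw : w ≠ 0)
    (h1 : φ ⬝ᵥ v = 0) (h2 : φ ⬝ᵥ w = 0) : Par v w := by
  have key : ∀ u : Fin 2 → F, u ≠ 0 → φ ⬝ᵥ u = 0 → Par ![φ 1, -φ 0] u := by
    intro u hu h
    have hne : (![φ 1, -φ 0] : Fin 2 → F) ≠ 0 := by
      intro h
      apply hφ
      have a0 := congrFun h 0
      have a1 := congrFun h 1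
      ext i
      fin_cases i <;> simp_all
    obtain ⟨c, hc⟩ := exists_smul_of_dot (φ := u) hne (fun x hx => by
      simp only [dotProduct, Fin.sum_univ_two, cons_val_zero, cons_val_one] at h hx ⊢
      by_cases h0 : φ 0 = 0
      · have h1 : φ 1 ≠ 0 := by
          intro h1; apply hφ; ext i; fin_cases i <;> simp_all
        apply mul_left_cancel₀ h1
        rw [h0] at h hx
        linear_combination u 0 * hx + x 1 * h
      · apply mul_left_cancel₀ h0
        linear_combination x 0 * h - u 1 * hx)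
    exact par_of_eq_smul hu hc
  exact (key v hv h1).symm.trans (key w hw h2)

/-- Automorphisms of `PSL_2`. -/
theorem aut_psl_two [Finite F] (β : MulAut (Matrix.ProjectiveSpecialLinearGroup (Fin 2) F)) :
    ∃ (g : GL (Fin 2) F) (σ : F ≃+* F), β = diagPSL g * fieldPSL σ := by
  have hex : ∀ (i j : Fin 2) (hij : i ≠ j) (a : F), ∃ y, IsTv y ∧
      β (QuotientGroup.mk (Matrix.SpecialLinearGroup.transvection hij a)) = QuotientGroup.mk y :=
    fun i j hij a => isTv_lift β (isTv_transvection hij a)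
  choose y hy hβ using hex
  choose V Φ h0 hy' using hy
  have hne : ∀ i j hij a, a ≠ 0 → V i j hij a ≠ 0 ∧ Φ i j hij a ≠ 0 := by
    intro i j hij a ha
    rw [← not_or, ← vecMulVec_eq_zero]
    intro h
    have h1 : y i j hij a = 1 := Subtype.ext (by rw [hy', h, add_zero]; rfl)
    have h2 := hβ i j hij a
    rw [h1, QuotientGroup.mk_one, map_eq_one_iff _ β.injective, QuotientGroup.eq_one_iff,
      Matrix.SpecialLinearGroup.transvection_mem_center_iff] at h2
    exact ha h2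
  have hcomm : ∀ i j hij a k l hkl b, a ≠ 0 → b ≠ 0 →
      ((Φ i j hij a ⬝ᵥ V k l hkl b = 0 ∧ Φ k l hkl b ⬝ᵥ V i j hij a = 0) ↔ (j ≠ k ∧ l ≠ i)) := by
    intro i j hij a k l hkl b ha hb
    rw [← transvection_commute_iff hij hkl ha hb, SL_commute_iff β (isTv_transvection _ _)
      ⟨_, _, h0 i j hij a, hy' i j hij a⟩ (hβ i j hij a) (hβ k l hkl b), commute_SL_iff, hy', hy',
      tv_commute_iff (hne _ _ _ _ ha).1 (hne _ _ _ _ ha).2 (hne _ _ _ _ hb).1 (hne _ _ _ _ hb).2
      (h0 _ _ _ _) (h0 _ _ _ _)]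
  -- common centre and axis
  have hsame : ∀ i j hij a, a ≠ 0 → ∃ c : F, c ≠ 0 ∧ (y i j hij a : Matrix (Fin 2) (Fin 2) F) =
      1 + vecMulVec (V i j hij 1) (c • Φ i j hij 1) := by
    intro i j hij a ha
    have h := (hcomm i j hij 1 i j hij a one_ne_zero ha).2 ⟨hij.symm, hij.symm⟩
    obtain ⟨c, hc, hc'⟩ := par_of_dot_two (hne _ _ _ _ one_ne_zero).2 (hne _ _ _ _ one_ne_zero).1
      (hne _ _ _ _ ha).1 (h0 i j hij 1) h.1
    obtain ⟨d, hd, hd'⟩ := par_of_dot_two (hne i j hij 1 one_ne_zero).1 (hne _ _ _ _ one_ne_zero).2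
      (hne _ _ _ _ ha).2 (by rw [dotProduct_comm]; exact h0 i j hij 1)
      (by rw [dotProduct_comm]; exact h.2)
    refine ⟨c * d, mul_ne_zero hc hd, ?_⟩
    rw [hy', hc', hd', smul_vecMulVec, vecMulVec_smul, vecMulVec_smul, smul_smul]
  set v := V 0 1 zero_ne_one 1 with hv
  set φ := Φ 0 1 zero_ne_one 1 with hφ
  set w := V 1 0 one_ne_zero 1 with hw
  set ψ := Φ 1 0 one_ne_zero 1 with hψ
  have hv0 : v ≠ 0 := (hne _ _ _ _ one_ne_zero).1
  have hφ0 : φ ≠ 0 := (hne _ _ _ _ one_ne_zero).2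
  have hw0 : w ≠ 0 := (hne _ _ _ _ one_ne_zero).1
  have hψ0 : ψ ≠ 0 := (hne _ _ _ _ one_ne_zero).2
  have hφv : φ ⬝ᵥ v = 0 := h0 _ _ _ _
  have hψw : ψ ⬝ᵥ w = 0 := h0 _ _ _ _
  have hnc : ¬ (φ ⬝ᵥ w = 0 ∧ ψ ⬝ᵥ v = 0) := by
    rw [hcomm _ _ _ _ _ _ _ _ one_ne_zero one_ne_zero]
    simp
  have hφw : φ ⬝ᵥ w ≠ 0 := fun h =>
    hnc ⟨h, (par_of_dot_two hφ0 hv0 hw0 hφv h).symm.dot_right hψw⟩
  have hψv : ψ ⬝ᵥ v ≠ 0 := fun h =>
    hnc ⟨(par_of_dot_two hψ0 hv0 hw0 h hψw).dot_right hφv, h⟩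
  obtain ⟨c1, hc1, hc1'⟩ := hsame 0 1 zero_ne_one 1 one_ne_zero
  let κ : F := c1 * (φ ⬝ᵥ w)
  have hκ : κ ≠ 0 := mul_ne_zero hc1 hφw
  let P : Matrix (Fin 2) (Fin 2) F := Matrix.of fun r c => (![κ • v, w] : Fin 2 → Fin 2 → F) c r
  let P' : Matrix (Fin 2) (Fin 2) F :=
    Matrix.of (![(κ * (ψ ⬝ᵥ v))⁻¹ • ψ, (φ ⬝ᵥ w)⁻¹ • φ] : Fin 2 → Fin 2 → F)
  have hP : P' * P = 1 := by
    ext r c
    change (![(κ * (ψ ⬝ᵥ v))⁻¹ • ψ, (φ ⬝ᵥ w)⁻¹ • φ] : Fin 2 → Fin 2 → F) r ⬝ᵥ
      (![κ • v, w] : Fin 2 → Fin 2 → F) c = _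
    fin_cases r <;> fin_cases c
    · change ((κ * (ψ ⬝ᵥ v))⁻¹ • ψ) ⬝ᵥ (κ • v) = 1
      rw [smul_dotProduct, dotProduct_smul, smul_eq_mul, smul_eq_mul,
        inv_mul_cancel₀ (mul_ne_zero hκ hψv)]
    · change ((κ * (ψ ⬝ᵥ v))⁻¹ • ψ) ⬝ᵥ w = 0
      rw [smul_dotProduct, hψw, smul_zero]
    · change ((φ ⬝ᵥ w)⁻¹ • φ) ⬝ᵥ (κ • v) = 0
      rw [smul_dotProduct, dotProduct_smul, hφv, smul_zero, smul_zero]
    · change ((φ ⬝ᵥ w)⁻¹ • φ) ⬝ᵥ w = 1
      rw [smul_dotProduct, smul_eq_mul, inv_mul_cancel₀ hφw]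
  let g : GL (Fin 2) F := ⟨P, P', mul_eq_one_comm.1 hP, hP⟩
  have key0 : ∀ (c : F) (z : Matrix.SpecialLinearGroup (Fin 2) F),
      (z : Matrix (Fin 2) (Fin 2) F) = 1 + vecMulVec v (c • φ) →
      (diagPSL g)⁻¹ (QuotientGroup.mk z) =
        QuotientGroup.mk (Matrix.SpecialLinearGroup.transvection zero_ne_one (c / c1)) := by
    intro c z hz
    rw [MulAut.inv_apply, MulEquiv.symm_apply_eq, diagPSL_mk]
    congr 1
    apply Subtype.ext
    rw [hz, conjSL_coe, transvection_coe', mul_add, add_mul, mul_one, Units.mul_inv,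
      mul_vecMulVec, vecMulVec_mul]
    congr 1
    have e1 : (g : Matrix (Fin 2) (Fin 2) F) *ᵥ Pi.single 0 1 = κ • v := by
      ext r; simp [g, P]
    have e2 : Pi.single 1 (c / c1) ᵥ* ((g⁻¹ : GL (Fin 2) F) : Matrix (Fin 2) (Fin 2) F) =
        (c / c1 * (φ ⬝ᵥ w)⁻¹) • φ := by
      change Pi.single 1 (c / c1) ᵥ* P' = _
      ext r; simp [P', mul_assoc]
    rw [e1, e2, smul_vecMulVec, vecMulVec_smul, vecMulVec_smul, smul_smul]
    congr 1
    simp only [κ]
    field_simp
  have key1 : ∀ (c : F) (z : Matrix.SpecialLinearGroup (Fin 2) F),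
      (z : Matrix (Fin 2) (Fin 2) F) = 1 + vecMulVec w (c • ψ) →
      (diagPSL g)⁻¹ (QuotientGroup.mk z) = QuotientGroup.mk
        (Matrix.SpecialLinearGroup.transvection one_ne_zero (c * (κ * (ψ ⬝ᵥ v)))) := by
    intro c z hz
    rw [MulAut.inv_apply, MulEquiv.symm_apply_eq, diagPSL_mk]
    congr 1
    apply Subtype.ext
    rw [hz, conjSL_coe, transvection_coe', mul_add, add_mul, mul_one, Units.mul_inv,
      mul_vecMulVec, vecMulVec_mul]
    congr 1
    have e1 : (g : Matrix (Fin 2) (Fin 2) F) *ᵥ Pi.single 1 1 = w := by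
      ext r; simp [g, P]
    have e2 : Pi.single 0 (c * (κ * (ψ ⬝ᵥ v))) ᵥ*
        ((g⁻¹ : GL (Fin 2) F) : Matrix (Fin 2) (Fin 2) F) = c • ψ := by
      change Pi.single 0 _ ᵥ* P' = _
      ext r
      simp only [P', single_vecMul, Matrix.row, of_apply, cons_val_zero, Pi.smul_apply, smul_eq_mul]
      field_simp
    rw [e1, e2]
  have hf : ∀ a : F, ∃ c : F, ((diagPSL g)⁻¹ * β)
      (QuotientGroup.mk (Matrix.SpecialLinearGroup.transvection zero_ne_one a)) =
        QuotientGroup.mk (Matrix.SpecialLinearGroup.transvection zero_ne_one c) := by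
    intro a
    by_cases ha : a = 0
    · exact ⟨0, by subst ha; simp⟩
    obtain ⟨c, -, hc⟩ := hsame 0 1 zero_ne_one a ha
    exact ⟨_, by rw [MulAut.mul_apply, hβ, key0 c _ hc]⟩
  have hf' : ∀ a : F, ∃ c : F, ((diagPSL g)⁻¹ * β)
      (QuotientGroup.mk (Matrix.SpecialLinearGroup.transvection one_ne_zero a)) =
        QuotientGroup.mk (Matrix.SpecialLinearGroup.transvection one_ne_zero c) := by
    intro a
    by_cases ha : a = 0
    · exact ⟨0, by subst ha; simp⟩
    obtain ⟨c, -, hc⟩ := hsame 1 0 one_ne_zero a ha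
    exact ⟨_, by rw [MulAut.mul_apply, hβ, key1 c _ hc]⟩
  choose f hf using hf
  choose f' hf' using hf'
  obtain ⟨σ, hσ⟩ := aut_psl2_case0 _ f f' hf hf' (by
    apply mk_transvection_inj (zero_ne_one : (0 : Fin 2) ≠ 1)
    rw [← hf, MulAut.mul_apply, hβ, key0 c1 _ hc1', div_self hc1])
  exact ⟨g, σ, by rw [← hσ, mul_inv_cancel_left]⟩

end CfsgH7
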