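import Cfsg.Agent.H7.Tv

set_option autoImplicit false

namespace CfsgH7

open Matrix Subgroup

variable {F : Type*} [Field F] {ι : Type*} [Fintype ι] [DecidableEq ι]

/-- inner-diagonal automorphism of `PSL` -/
def diagPSL : GL ι F →* MulAut (Matrix.ProjectiveSpecialLinearGroup ι F) :=
  (autQuot (Matrix.SpecialLinearGroup ι F)).comp conjSL

/-- field automorphism of `PSL` -/
def fieldPSL : (F ≃+* F) →* MulAut (Matrix.ProjectiveSpecialLinearGroup ι F) :=
  (autQuot (Matrix.SpecialLinearGroup ι F)).comp mapSL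

/-- inverse transpose automorphism of `PSL` -/
def graphPSL : MulAut (Matrix.ProjectiveSpecialLinearGroup ι F) :=
  autQuot (Matrix.SpecialLinearGroup ι F) invTSL

theorem diagPSL_mk (g : GL ι F) (s : Matrix.SpecialLinearGroup ι F) :
    diagPSL g (QuotientGroup.mk s) = QuotientGroup.mk (conjSL g s) := rfl

theorem fieldPSL_mk (σ : F ≃+* F) (s : Matrix.SpecialLinearGroup ι F) :
    fieldPSL σ (QuotientGroup.mk s) = QuotientGroup.mk (mapSL σ s) := rfl

theorem graphPSL_mk (s : Matrix.SpecialLinearGroup ι F) :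
    graphPSL (QuotientGroup.mk s) = QuotientGroup.mk (invTSL s) := rfl

theorem graphPSL_mul_self :
    (graphPSL : MulAut (Matrix.ProjectiveSpecialLinearGroup ι F)) * graphPSL = 1 := by
  unfold graphPSL
  rw [← map_mul, invTSL_mul_self, map_one]

theorem psl_aut_ext [Nontrivial ι] {β γ : MulAut (Matrix.ProjectiveSpecialLinearGroup ι F)}
    (h : ∀ (i j : ι) (hij : i ≠ j) (a : F),
      β (QuotientGroup.mk (Matrix.SpecialLinearGroup.transvection hij a)) =
      γ (QuotientGroup.mk (Matrix.SpecialLinearGroup.transvection hij a))) : β = γ := by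
  apply mulAut_quot_ext
  exact SL_hom_ext (β.toMonoidHom.comp (QuotientGroup.mk' _))
    (γ.toMonoidHom.comp (QuotientGroup.mk' _)) h

theorem mk_transvection_inj {i j : ι} (hij : i ≠ j) {a b : F}
    (h : (QuotientGroup.mk (Matrix.SpecialLinearGroup.transvection hij a) :
      Matrix.ProjectiveSpecialLinearGroup ι F) =
      QuotientGroup.mk (Matrix.SpecialLinearGroup.transvection hij b)) : a = b := by
  rw [QuotientGroup.eq, Matrix.SpecialLinearGroup.transvection_inv,
    ← Matrix.SpecialLinearGroup.transvection_add,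
    Matrix.SpecialLinearGroup.transvection_mem_center_iff] at h
  linear_combination -h

theorem mapSL_transvection (σ : F ≃+* F) {i j : ι} (hij : i ≠ j) (a : F) :
    mapSL σ (Matrix.SpecialLinearGroup.transvection hij a) =
      Matrix.SpecialLinearGroup.transvection hij (σ a) := by
  ext k l
  change σ ((Matrix.SpecialLinearGroup.transvection hij a : Matrix ι ι F) k l) = _
  simp only [Matrix.SpecialLinearGroup.transvection_coe, Matrix.add_apply, one_apply, single_apply]
  split_ifs <;> simp

/-- invertible diagonal matrix -/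
def diagGL (d : ι → F) (hd : ∀ i, d i ≠ 0) : GL ι F :=
  ⟨diagonal d, diagonal (fun i => (d i)⁻¹), by
    rw [diagonal_mul_diagonal, ← diagonal_one]; congr 1; ext i; exact mul_inv_cancel₀ (hd i), by
    rw [diagonal_mul_diagonal, ← diagonal_one]; congr 1; ext i; exact inv_mul_cancel₀ (hd i)⟩

theorem conjSL_diag_transvection (d : ι → F) (hd : ∀ i, d i ≠ 0) {i j : ι} (hij : i ≠ j) (a : F) :
    conjSL (diagGL d hd) (Matrix.SpecialLinearGroup.transvection hij a) =
      Matrix.SpecialLinearGroup.transvection hij (d i * a * (d j)⁻¹) := by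
  apply Subtype.ext
  change diagonal d * (1 + single i j a) * diagonal (fun i => (d i)⁻¹) = 1 + single i j _
  ext k l
  simp only [diagonal_mul, mul_diagonal, Matrix.add_apply, one_apply, single_apply]
  by_cases h1 : k = l
  · subst h1
    have : ¬ (i = k ∧ j = k) := fun h => hij (h.1.trans h.2.symm)
    simp [this, hd k]
  · by_cases h2 : i = k ∧ j = l
    · obtain ⟨rfl, rfl⟩ := h2
      simp [h1]
    · simp [h1, h2]

theorem aut_psl_case0 [Finite F] (h3 : ∀ i j : ι, ∃ k, k ≠ i ∧ k ≠ j) [Nonempty ι]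
    (β : MulAut (Matrix.ProjectiveSpecialLinearGroup ι F))
    (hβ : ∀ (i j : ι) (hij : i ≠ j) (a : F), ∃ c : F,
      β (QuotientGroup.mk (Matrix.SpecialLinearGroup.transvection hij a)) =
        QuotientGroup.mk (Matrix.SpecialLinearGroup.transvection hij c)) :
    ∃ (g : GL ι F) (σ : F ≃+* F), β = diagPSL g * fieldPSL σ := by
  choose f hf using hβ
  obtain ⟨i0⟩ := ‹Nonempty ι›
  obtain ⟨j0, hj0, -⟩ := h3 i0 i0
  haveI : Nontrivial ι := ⟨⟨j0, i0, hj0⟩⟩
  have hadd : ∀ i j hij a b, f i j hij (a + b) = f i j hij a + f i j hij b := by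
    intro i j hij a b
    apply mk_transvection_inj hij
    rw [← hf, Matrix.SpecialLinearGroup.transvection_add, Matrix.SpecialLinearGroup.transvection_add,
      QuotientGroup.mk_mul, QuotientGroup.mk_mul, map_mul, hf, hf]
  have hmul : ∀ i j k (hij : i ≠ j) (hjk : j ≠ k) (hik : i ≠ k) a b,
      f i k hik (a * b) = f i j hij a * f j k hjk b := by
    intro i j k hij hjk hik a b
    apply mk_transvection_inj hik
    rw [← hf, ← transvection_commutator hij hjk hik, ← transvection_commutator hij hjk hik]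
    simp only [QuotientGroup.mk_mul, QuotientGroup.mk_inv, map_mul, map_inv, hf]
  have hinj : ∀ i j hij a, f i j hij a = 0 → a = 0 := by
    intro i j hij a ha
    have := hf i j hij a
    rw [ha, Matrix.SpecialLinearGroup.transvection_coeff_zero, QuotientGroup.mk_one,
      map_eq_one_iff _ β.injective, QuotientGroup.eq_one_iff,
      Matrix.SpecialLinearGroup.transvection_mem_center_iff] at this
    exact this
  have hc : ∀ i j hij, f i j hij 1 ≠ 0 := fun i j hij h => one_ne_zero (hinj i j hij 1 h)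
  let s : ∀ i j, i ≠ j → F → F := fun i j hij a => f i j hij a / f i j hij 1
  have hrow : ∀ i j k (hij : i ≠ j) (hik : i ≠ k), s i j hij = s i k hik := by
    intro i j k hij hik
    by_cases hjk : j = k
    · subst hjk; rfl
    · ext a
      have h1 := hmul i j k hij hjk hik a 1
      have h2 := hmul i j k hij hjk hik 1 1
      rw [mul_one] at h1 h2
      simp only [s]
      rw [h1, h2, mul_div_mul_right _ _ (hc j k hjk)]
  have hcol : ∀ i j k (hik : i ≠ k) (hjk : j ≠ k), s i k hik = s j k hjk := by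
    intro i j k hik hjk
    by_cases hij : i = j
    · subst hij; rfl
    · ext a
      have h1 := hmul i j k hij hjk hik 1 a
      have h2 := hmul i j k hij hjk hik 1 1
      rw [one_mul] at h1 h2
      simp only [s]
      rw [h1, h2, mul_div_mul_left _ _ (hc i j hij)]
  have hall : ∀ i j k l (hij : i ≠ j) (hkl : k ≠ l), s i j hij = s k l hkl := by
    intro i j k l hij hkl
    obtain ⟨m, hm1, hm2⟩ := h3 i k
    rw [hrow i j m hij hm1.symm, hcol i k m hm1.symm hm2.symm, hrow k m l hm2.symm hkl]
  have hfs : ∀ i j hij a, f i j hij a = f i j hij 1 * s j0 i0 hj0 a := by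
    intro i j hij a
    rw [← hall i j j0 i0 hij hj0]
    simp only [s]
    rw [mul_div_cancel₀ _ (hc i j hij)]
  have hs0 : ∀ a b, s j0 i0 hj0 (a + b) = s j0 i0 hj0 a + s j0 i0 hj0 b := by
    intro a b
    simp only [s]
    rw [hadd, add_div]
  have hs1 : s j0 i0 hj0 1 = 1 := div_self (hc _ _ _)
  have hs2 : ∀ a b, s j0 i0 hj0 (a * b) = s j0 i0 hj0 a * s j0 i0 hj0 b := by
    intro a b
    obtain ⟨m, hm1, hm2⟩ := h3 j0 i0
    have h1 := hmul j0 m i0 hm1.symm hm2 hj0 a b
    have h2 := hmul j0 m i0 hm1.symm hm2 hj0 1 1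
    rw [mul_one] at h2
    rw [hfs _ _ _ (a * b), hfs _ _ _ a, hfs _ _ _ b, h2] at h1
    apply mul_left_cancel₀ (mul_ne_zero (hc j0 m hm1.symm) (hc m i0 hm2))
    rw [h1]; ring
  let σ0 : F →+* F := RingHom.mk' ⟨⟨s j0 i0 hj0, hs1⟩, hs2⟩ hs0
  have hσ0 : Function.Bijective σ0 := Finite.injective_iff_bijective.1 σ0.injective
  let d : ι → F := fun i => if h : i = i0 then 1 else f i i0 h 1
  have hd : ∀ i, d i ≠ 0 := by
    intro i
    simp only [d]
    split_ifs with h
    · exact one_ne_zero
    · exact hc _ _ _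
  have hcd : ∀ i j hij, f i j hij 1 * d j = d i := by
    intro i j hij
    simp only [d]
    split_ifs with h1 h2 h2
    · exact absurd (h2.trans h1.symm) hij
    · subst h1; rw [mul_one]
    · subst h2
      obtain ⟨m, hm1, hm2⟩ := h3 i j
      have e1 := hmul i j m hij hm2.symm hm1.symm 1 1
      have e2 := hmul j i m h1 hm1.symm hm2.symm 1 1
      rw [mul_one] at e1 e2
      rw [e2, ← mul_assoc] at e1
      exact (mul_eq_right₀ (hc _ _ _)).1 e1.symm
    · have e1 := hmul i j i0 hij h1 h2 1 1
      rw [mul_one] at e1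
      exact e1.symm
  refine ⟨diagGL d hd, RingEquiv.ofBijective σ0 hσ0, psl_aut_ext fun i j hij a => ?_⟩
  rw [hf, MulAut.mul_apply, fieldPSL_mk, diagPSL_mk, mapSL_transvection, conjSL_diag_transvection,
    hfs, ← hcd i j hij]
  congr 2
  have : (RingEquiv.ofBijective σ0 hσ0) a = s j0 i0 hj0 a := rfl
  rw [this]
  field_simp [hd j]

end CfsgH7
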