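import Cfsg.Agent.H7.AutPSL3

set_option autoImplicit false

namespace CfsgH7

open Matrix Subgroup

variable {F : Type*} [Field F] {ι : Type*} [Fintype ι] [DecidableEq ι]

theorem clique_lemma {I : Type*} (V Φ : I → ι → F)
    (h : ∀ s t, Par (V s) (V t) ∨ Par (Φ s) (Φ t)) :
    (∀ s t, Par (V s) (V t)) ∨ (∀ s t, Par (Φ s) (Φ t)) := by
  by_contra hc
  push Not at hc
  obtain ⟨⟨s, t, h1⟩, ⟨s', t', h2⟩⟩ := hc
  have h3 := (h s t).resolve_left h1
  have key : ∀ u, Par (Φ s) (Φ u) := by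
    intro u
    rcases h s u with h4 | h4
    · rcases h t u with h5 | h5
      · exact absurd (h4.trans h5.symm) h1
      · exact h3.trans h5
    · exact h4
  exact h2 ((key s').symm.trans (key t'))

theorem SL_commute_iff [Finite F] (β : MulAut (Matrix.ProjectiveSpecialLinearGroup ι F))
    {s t y z : Matrix.SpecialLinearGroup ι F} (hs : IsTv s) (hy : IsTv y)
    (h1 : β (QuotientGroup.mk s) = QuotientGroup.mk y)
    (h2 : β (QuotientGroup.mk t) = QuotientGroup.mk z) : Commute s t ↔ Commute y z := by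
  obtain ⟨p, hp⟩ := CharP.exists F
  haveI := Fact.mk (CharP.char_is_prime F p)
  constructor
  · intro h
    refine commute_of_mk_commute (SL_center_pow (p := p)) (k := 1)
      (by rw [pow_one]; exact hy.pow_char) ?_
    rw [← h1, ← h2]
    exact (h.map (QuotientGroup.mk' _)).map β
  · intro h
    refine commute_of_mk_commute (SL_center_pow (p := p)) (k := 1)
      (by rw [pow_one]; exact hs.pow_char) ?_
    have := (h.map (QuotientGroup.mk' _)).map β.symm
    simp only [QuotientGroup.mk'_apply] at this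
    rwa [← h1, ← h2, MulEquiv.symm_apply_apply, MulEquiv.symm_apply_apply] at this

theorem commute_SL_iff {s t : Matrix.SpecialLinearGroup ι F} :
    Commute s t ↔ (s : Matrix ι ι F) * t = t * s :=
  ⟨fun h => congrArg Subtype.val h, fun h => Subtype.ext h⟩

theorem transvection_coe' {i j : ι} (hij : i ≠ j) (a : F) :
    (Matrix.SpecialLinearGroup.transvection hij a : Matrix ι ι F) =
      1 + vecMulVec (Pi.single i 1) (Pi.single j a) := by
  rw [Matrix.SpecialLinearGroup.transvection_coe, single_eq_vecMulVec]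

theorem transvection_commute_iff {i j k l : ι} (hij : i ≠ j) (hkl : k ≠ l) {a b : F} (ha : a ≠ 0)
    (hb : b ≠ 0) : Commute (Matrix.SpecialLinearGroup.transvection hij a)
      (Matrix.SpecialLinearGroup.transvection hkl b) ↔ (j ≠ k ∧ l ≠ i) := by
  rw [commute_SL_iff, transvection_coe', transvection_coe', tv_commute_iff (by simp) (by simp [ha])
    (by simp) (by simp [hb]) (by simp [hij]) (by simp [hkl])]
  simp [Pi.single_apply, ha, hb, eq_comm]

theorem aut_psl_case1 [Finite F] (h3 : ∀ i j : ι, ∃ k, k ≠ i ∧ k ≠ j) [Nonempty ι]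
    (β : MulAut (Matrix.ProjectiveSpecialLinearGroup ι F)) (v φ : ι → ι → F)
    (hv : ∀ i, v i ≠ 0) (hφ : ∀ i, φ i ≠ 0) (h0 : ∀ i j, i ≠ j → φ j ⬝ᵥ v i = 0)
    (hβ : ∀ (i j : ι) (hij : i ≠ j) (a : F), a ≠ 0 → ∃ c : F, c ≠ 0 ∧
      ∃ y : Matrix.SpecialLinearGroup ι F, (y : Matrix ι ι F) = 1 + vecMulVec (v i) (c • φ j) ∧
      β (QuotientGroup.mk (Matrix.SpecialLinearGroup.transvection hij a)) = QuotientGroup.mk y) :
    ∃ (g : GL ι F) (σ : F ≃+* F), β = diagPSL g * fieldPSL σ := by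
  have hd : ∀ j, φ j ⬝ᵥ v j ≠ 0 := by
    intro j hj
    obtain ⟨i, hi, -⟩ := h3 j j
    obtain ⟨k, hk1, hk2⟩ := h3 i j
    obtain ⟨c, hc, y, hy, hy'⟩ := hβ i j hi 1 one_ne_zero
    obtain ⟨d, hd, z, hz, hz'⟩ := hβ j k hk2.symm 1 one_ne_zero
    have e1 : (c • φ j) ⬝ᵥ v i = 0 := by rw [smul_dotProduct, h0 i j hi, smul_zero]
    have e2 : (d • φ k) ⬝ᵥ v j = 0 := by rw [smul_dotProduct, h0 j k hk2.symm, smul_zero]
    have := (SL_commute_iff β (isTv_transvection _ _) ⟨_, _, e1, hy⟩ hy' hz').2 (by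
      rw [commute_SL_iff, hy, hz, tv_commute_iff (hv _) (smul_ne_zero hc (hφ _)) (hv _)
        (smul_ne_zero hd (hφ _)) e1 e2]
      rw [smul_dotProduct, smul_dotProduct, hj, h0 i k hk1.symm]
      simp)
    rw [transvection_commute_iff _ _ one_ne_zero one_ne_zero] at this
    exact this.1 rfl
  let P : Matrix ι ι F := Matrix.of fun r c => v c r
  let P' : Matrix ι ι F := Matrix.of fun r c => (φ r ⬝ᵥ v r)⁻¹ * φ r c
  have hP : P' * P = 1 := by
    ext r c
    simp only [P, P', mul_apply, of_apply, mul_assoc, ← Finset.mul_sum]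
    change _ * (φ r ⬝ᵥ v c) = _
    by_cases h : r = c
    · subst h
      rw [inv_mul_cancel₀ (hd r), one_apply_eq]
    · rw [h0 c r (Ne.symm h), mul_zero, one_apply_ne h]
  let g : GL ι F := ⟨P, P', mul_eq_one_comm.1 hP, hP⟩
  obtain ⟨g', σ, h⟩ := aut_psl_case0 h3 ((diagPSL g)⁻¹ * β) (by
    intro i j hij a
    by_cases ha : a = 0
    · exact ⟨0, by subst ha; simp⟩
    obtain ⟨c, hc, y, hy, hy'⟩ := hβ i j hij a ha
    refine ⟨c * (φ j ⬝ᵥ v j), ?_⟩
    rw [MulAut.mul_apply, hy', MulAut.inv_apply, MulEquiv.symm_apply_eq, diagPSL_mk]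
    congr 1
    apply Subtype.ext
    rw [hy, conjSL_coe, transvection_coe', mul_add, add_mul, mul_one, Units.mul_inv,
      mul_vecMulVec, vecMulVec_mul]
    congr 2
    · ext r
      simp [g, P]
    · ext r
      change _ = (Pi.single j (c * (φ j ⬝ᵥ v j)) ᵥ* P') r
      simp only [single_vecMul, P', Pi.smul_apply, smul_eq_mul, Matrix.row_apply, of_apply]
      field_simp [hd j])
  refine ⟨g * g', σ, ?_⟩
  rw [map_mul, mul_assoc, ← h, mul_inv_cancel_left]

theorem invTSL_tv {y : Matrix.SpecialLinearGroup ι F} {v φ : ι → F} (h : φ ⬝ᵥ v = 0)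
    (hy : (y : Matrix ι ι F) = 1 + vecMulVec v φ) :
    (invTSL y : Matrix ι ι F) = 1 + vecMulVec φ (-v) := by
  have : y⁻¹ = tvSL v (-φ) (by rw [neg_dotProduct, h, neg_zero]) := by
    apply inv_eq_of_mul_eq_one_right
    apply Subtype.ext
    rw [Matrix.SpecialLinearGroup.coe_mul, hy, tvSL_coe, tv_mul, h]
    simp
  rw [invTSL_coe, this, tvSL_coe]
  simp

/-- Automorphisms of `PSL_n`, `n ≥ 3`. -/
theorem aut_psl_three [Finite F] (h3 : ∀ i j : ι, ∃ k, k ≠ i ∧ k ≠ j) [Nonempty ι]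
    (β : MulAut (Matrix.ProjectiveSpecialLinearGroup ι F)) :
    ∃ (g : GL ι F) (σ : F ≃+* F), β = diagPSL g * fieldPSL σ ∨
      graphPSL * β = diagPSL g * fieldPSL σ := by
  obtain ⟨p, hp⟩ := CharP.exists F
  haveI := Fact.mk (CharP.char_is_prime F p)
  have hex : ∀ (i j : ι) (hij : i ≠ j) (a : F), ∃ y, IsTv y ∧
      β (QuotientGroup.mk (Matrix.SpecialLinearGroup.transvection hij a)) = QuotientGroup.mk y :=
    fun i j hij a => isTv_lift β (isTv_transvection hij a)
  choose y hy hβ using hex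
  choose V Φ h0 hy' using hy
  have hne : ∀ i j hij a, a ≠ 0 → V i j hij a ≠ 0 ∧ Φ i j hij a ≠ 0 := by
    intro i j hij a ha
    rw [← not_or, ← vecMulVec_eq_zero]
    intro h
    have h1 : y i j hij a = 1 := Subtype.ext (by rw [hy', h, add_zero]; rfl)
    have h2 := hβ i j hij a
    rw [h1, QuotientGroup.mk_one, map_eq_one_iff _ β.injective, QuotientGroup.eq_one_iff,
      Matrix.SpecialLinearGroup.transvection_mem_center_iff] at h2
    exact ha h2
  have hcomm : ∀ i j hij a k l hkl b, a ≠ 0 → b ≠ 0 →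
      ((Φ i j hij a ⬝ᵥ V k l hkl b = 0 ∧ Φ k l hkl b ⬝ᵥ V i j hij a = 0) ↔ (j ≠ k ∧ l ≠ i)) := by
    intro i j hij a k l hkl b ha hb
    rw [← transvection_commute_iff hij hkl ha hb, SL_commute_iff β (isTv_transvection _ _)
      ⟨_, _, h0 i j hij a, hy' i j hij a⟩ (hβ i j hij a) (hβ k l hkl b), commute_SL_iff, hy', hy',
      tv_commute_iff (hne _ _ _ _ ha).1 (hne _ _ _ _ ha).2 (hne _ _ _ _ hb).1 (hne _ _ _ _ hb).2
      (h0 _ _ _ _) (h0 _ _ _ _)]
  have hpar : ∀ i j hij a k l hkl b, a ≠ 0 → b ≠ 0 → (i = k ∨ j = l) →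
      Par (V i j hij a) (V k l hkl b) ∨ Par (Φ i j hij a) (Φ k l hkl b) := by
    intro i j hij a k l hkl b ha hb h
    have hjk : j ≠ k ∧ l ≠ i := by
      rcases h with rfl | rfl
      · exact ⟨hij.symm, hkl.symm⟩
      · exact ⟨hkl.symm, hij.symm⟩
    have hc := (hcomm i j hij a k l hkl b ha hb).2 hjk
    have ht : IsTv (Matrix.SpecialLinearGroup.transvection hij a *
        Matrix.SpecialLinearGroup.transvection hkl b) := by
      rcases h with rfl | rfl
      · refine ⟨Pi.single i 1, Pi.single j a + Pi.single l b, by simp [hij, hkl], ?_⟩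
        rw [Matrix.SpecialLinearGroup.coe_mul, transvection_coe', transvection_coe', tv_mul,
          vecMulVec_add]
        simp [hij, add_assoc]
      · refine ⟨Pi.single i a + Pi.single k b, Pi.single j 1, by simp [hij.symm, hkl.symm], ?_⟩
        rw [Matrix.SpecialLinearGroup.coe_mul, Matrix.SpecialLinearGroup.transvection_coe,
          Matrix.SpecialLinearGroup.transvection_coe, add_vecMulVec]
        have e : ∀ (m : ι) (c : F), vecMulVec (Pi.single m c) (Pi.single j (1 : F)) =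
            single m j c := by
          intro m c
          ext r s
          simp only [single_apply, vecMulVec_apply, Pi.single_apply]
          by_cases h1 : m = r <;> by_cases h2 : j = s <;> simp_all [eq_comm]
        rw [e, e, mul_add, add_mul, add_mul, single_mul_single_of_ne _ _ _ _ hkl.symm]
        simp [add_assoc]
    obtain ⟨z, hz, hz'⟩ := isTv_lift β ht
    rw [QuotientGroup.mk_mul, map_mul, hβ, hβ, ← QuotientGroup.mk_mul] at hz'
    have hcm : Commute (y i j hij a) (y k l hkl b) := by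
      rw [commute_SL_iff, hy', hy', tv_commute_iff (hne _ _ _ _ ha).1 (hne _ _ _ _ ha).2
        (hne _ _ _ _ hb).1 (hne _ _ _ _ hb).2 (h0 _ _ _ _) (h0 _ _ _ _)]
      exact hc
    have e := eq_of_mk_eq_of_pow (SL_center_pow (p := p)) (k := 1) (by
      rw [pow_one, hcm.mul_pow, IsTv.pow_char ⟨_, _, h0 i j hij a, hy' i j hij a⟩,
        IsTv.pow_char ⟨_, _, h0 k l hkl b, hy' k l hkl b⟩, mul_one])
      (by rw [pow_one]; exact hz.pow_char) hz'
    obtain ⟨u, χ, -, hu⟩ := hz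
    rw [← e, Matrix.SpecialLinearGroup.coe_mul, hy', hy', tv_mul, hc.1, zero_smul, add_zero,
      add_assoc, add_right_inj] at hu
    exact par_or_par_of_add (hne _ _ _ _ ha).1 (hne _ _ _ _ ha).2 (hne _ _ _ _ hb).1
      (hne _ _ _ _ hb).2 hu
  -- the four kinds of cliques
  let Cr : ι → Prop := fun i => ∀ j hij a k hik b, a ≠ 0 → b ≠ 0 → Par (V i j hij a) (V i k hik b)
  let Ar : ι → Prop := fun i => ∀ j hij a k hik b, a ≠ 0 → b ≠ 0 → Par (Φ i j hij a) (Φ i k hik b)
  let Cc : ι → Prop := fun j => ∀ i hij a k hkj b, a ≠ 0 → b ≠ 0 → Par (V i j hij a) (V k j hkj b)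
  let Ac : ι → Prop := fun j => ∀ i hij a k hkj b, a ≠ 0 → b ≠ 0 → Par (Φ i j hij a) (Φ k j hkj b)
  have hr : ∀ i, Cr i ∨ Ar i := by
    intro i
    rcases clique_lemma (I := {x : ι × F // i ≠ x.1 ∧ x.2 ≠ 0})
      (fun x => V i x.1.1 x.2.1 x.1.2) (fun x => Φ i x.1.1 x.2.1 x.1.2)
      (fun s t => hpar _ _ _ _ _ _ _ _ s.2.2 t.2.2 (Or.inl rfl)) with h | h
    · exact Or.inl fun j hij a k hik b ha hb => h ⟨(j, a), hij, ha⟩ ⟨(k, b), hik, hb⟩
    · exact Or.inr fun j hij a k hik b ha hb => h ⟨(j, a), hij, ha⟩ ⟨(k, b), hik, hb⟩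
  have hcl : ∀ j, Cc j ∨ Ac j := by
    intro j
    rcases clique_lemma (I := {x : ι × F // x.1 ≠ j ∧ x.2 ≠ 0})
      (fun x => V x.1.1 j x.2.1 x.1.2) (fun x => Φ x.1.1 j x.2.1 x.1.2)
      (fun s t => hpar _ _ _ _ _ _ _ _ s.2.2 t.2.2 (Or.inr rfl)) with h | h
    · exact Or.inl fun i hij a k hik b ha hb => h ⟨(i, a), hij, ha⟩ ⟨(k, b), hik, hb⟩
    · exact Or.inr fun i hij a k hik b ha hb => h ⟨(i, a), hij, ha⟩ ⟨(k, b), hik, hb⟩
  have hCC : ∀ i j, i ≠ j → Cr i → ¬ Cc j := by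
    intro i j hij h1 h2
    obtain ⟨k, hk1, hk2⟩ := h3 i j
    have e : Par (V i k hk1.symm 1) (V k j hk2 1) :=
      (h1 k hk1.symm 1 j hij 1 one_ne_zero one_ne_zero).trans
        (h2 i hij 1 k hk2 1 one_ne_zero one_ne_zero)
    exact ((hcomm i k hk1.symm 1 k j hk2 1 one_ne_zero one_ne_zero).1
      ⟨e.dot_right (h0 _ _ _ _), e.symm.dot_right (h0 _ _ _ _)⟩).1 rfl
  have hAA : ∀ i j, i ≠ j → Ar i → ¬ Ac j := by
    intro i j hij h1 h2
    obtain ⟨k, hk1, hk2⟩ := h3 i j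
    have e : Par (Φ i k hk1.symm 1) (Φ k j hk2 1) :=
      (h1 k hk1.symm 1 j hij 1 one_ne_zero one_ne_zero).trans
        (h2 i hij 1 k hk2 1 one_ne_zero one_ne_zero)
    exact ((hcomm i k hk1.symm 1 k j hk2 1 one_ne_zero one_ne_zero).1
      ⟨e.symm.dot_left (h0 _ _ _ _), e.dot_left (h0 _ _ _ _)⟩).1 rfl
  have hcases : ((∀ i, Cr i) ∧ ∀ j, Ac j) ∨ ((∀ i, Ar i) ∧ ∀ j, Cc j) := by
    obtain ⟨i0⟩ := ‹Nonempty ι›
    rcases hr i0 with h | h
    · left
      have h1 : ∀ i, Cr i := by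
        intro i
        obtain ⟨k, hk1, hk2⟩ := h3 i i0
        exact (hr i).resolve_right fun h' =>
          hAA i k hk1.symm h' ((hcl k).resolve_left (hCC i0 k hk2.symm h))
      refine ⟨h1, fun j => ?_⟩
      obtain ⟨k, hk1, -⟩ := h3 j j
      exact (hcl j).resolve_left (hCC k j hk1 (h1 k))
    · right
      have h1 : ∀ i, Ar i := by
        intro i
        obtain ⟨k, hk1, hk2⟩ := h3 i i0
        exact (hr i).resolve_left fun h' =>
          hCC i k hk1.symm h' ((hcl k).resolve_right (hAA i0 k hk2.symm h))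
      refine ⟨h1, fun j => ?_⟩
      obtain ⟨k, hk1, -⟩ := h3 j j
      exact (hcl j).resolve_right (hAA k j hk1 (h1 k))
  choose o ho ho' using fun i => h3 i i
  rcases hcases with ⟨h1, h2⟩ | ⟨h1, h2⟩
  · obtain ⟨g, σ, h⟩ := aut_psl_case1 h3 β (fun i => V i (o i) (ho i).symm 1)
      (fun j => Φ (o j) j (ho j) 1) (fun i => (hne _ _ _ _ one_ne_zero).1)
      (fun i => (hne _ _ _ _ one_ne_zero).2) (by
        intro i j hij
        exact (h1 i j hij 1 _ _ 1 one_ne_zero one_ne_zero).dot_right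
          ((h2 j i hij 1 _ _ 1 one_ne_zero one_ne_zero).dot_left (h0 _ _ _ _))) (by
        intro i j hij a ha
        obtain ⟨c, hc, hc'⟩ := h1 i _ (ho i).symm 1 j hij a one_ne_zero ha
        obtain ⟨d, hd, hd'⟩ := h2 j _ (ho j) 1 i hij a one_ne_zero ha
        refine ⟨c * d, mul_ne_zero hc hd, y i j hij a, ?_, hβ _ _ _ _⟩
        rw [hy', hc', hd', smul_vecMulVec, vecMulVec_smul, vecMulVec_smul, smul_smul])
    exact ⟨g, σ, Or.inl h⟩
  · obtain ⟨g, σ, h⟩ := aut_psl_case1 h3 (graphPSL * β) (fun i => Φ i (o i) (ho i).symm 1)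
      (fun j => V (o j) j (ho j) 1) (fun i => (hne _ _ _ _ one_ne_zero).2)
      (fun i => (hne _ _ _ _ one_ne_zero).1) (by
        intro i j hij
        rw [dotProduct_comm]
        exact (h2 j i hij 1 _ _ 1 one_ne_zero one_ne_zero).dot_right
          ((h1 i j hij 1 _ _ 1 one_ne_zero one_ne_zero).dot_left (h0 _ _ _ _))) (by
        intro i j hij a ha
        obtain ⟨c, hc, hc'⟩ := h1 i _ (ho i).symm 1 j hij a one_ne_zero ha
        obtain ⟨d, hd, hd'⟩ := h2 j _ (ho j) 1 i hij a one_ne_zero ha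
        refine ⟨-(c * d), neg_ne_zero.2 (mul_ne_zero hc hd), invTSL (y i j hij a), ?_, ?_⟩
        · rw [invTSL_tv (h0 i j hij a) (hy' i j hij a), hc', hd', smul_vecMulVec, vecMulVec_neg,
            vecMulVec_smul, vecMulVec_smul, smul_neg, smul_smul, neg_smul]
        · rw [MulAut.mul_apply, hβ, graphPSL_mk])
    exact ⟨g, σ, Or.inr h⟩

end CfsgH7
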