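import Mathlib

set_option autoImplicit false

namespace CfsgH7

theorem cyc_range_eq_ker {G : Type*} [CommGroup G] [Finite G] [IsCyclic G] (n : ℕ) :
    (powMonoidHom n : G →* G).range =
      (powMonoidHom (Nat.card G / Nat.gcd (Nat.card G) n) : G →* G).ker := by
  apply Subgroup.eq_of_le_of_card_ge
  · rintro _ ⟨c, rfl⟩
    simp only [MonoidHom.mem_ker, powMonoidHom_apply]
    rw [← pow_mul]
    apply (orderOf_dvd_iff_pow_eq_one).1
    refine (orderOf_dvd_natCard c).trans ?_
    obtain ⟨k, hk⟩ := Nat.gcd_dvd_right (Nat.card G) n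
    have h2 := Nat.mul_div_cancel' (Nat.gcd_dvd_left (Nat.card G) n)
    generalize Nat.gcd (Nat.card G) n = g at hk h2
    refine ⟨k, ?_⟩
    rw [hk, mul_right_comm, h2]
  · rw [IsCyclic.card_powMonoidHom_range, IsCyclic.card_powMonoidHom_ker]
    rw [Nat.gcd_eq_right (Nat.div_dvd_of_dvd (Nat.gcd_dvd_left _ _))]

theorem cyc_exists_pow_iff {G : Type*} [CommGroup G] [Finite G] [IsCyclic G] (n : ℕ) (a : G) :
    (∃ c : G, c ^ n = a) ↔ a ^ (Nat.card G / Nat.gcd (Nat.card G) n) = 1 := by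
  have := cyc_range_eq_ker (G := G) n
  have h2 := SetLike.ext_iff.1 this a
  simpa using h2

theorem field_exists_pow_iff {F : Type*} [Field F] [Fintype F] (n : ℕ) (a : F) (ha : a ≠ 0) :
    (∃ c : F, c ≠ 0 ∧ c ^ n = a) ↔
      a ^ ((Fintype.card F - 1) / Nat.gcd (Fintype.card F - 1) n) = 1 := by
  classical
  have h := cyc_exists_pow_iff (G := Fˣ) n (Units.mk0 a ha)
  rw [Nat.card_eq_fintype_card, Fintype.card_units] at h
  constructor
  · rintro ⟨c, hc, hca⟩
    have := h.1 ⟨Units.mk0 c hc, by ext; simpa using hca⟩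
    simpa [Units.ext_iff] using this
  · intro h1
    obtain ⟨c, hc⟩ := h.2 (by ext; simpa using h1)
    exact ⟨c, c.ne_zero, by simpa [Units.ext_iff] using hc⟩

end CfsgH7
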