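import Mathlib

set_option autoImplicit false

namespace CfsgH7

open Polynomial

theorem field_binary_form_surj {L : Type*} [Field L] [Finite L] (τ ν h : L)
    (hΔ : τ ^ 2 - 4 * ν ≠ 0) : ∃ a b : L, a ^ 2 + τ * a * b + ν * b ^ 2 = h := by
  haveI := Fintype.ofFinite L
  by_cases h2 : ringChar L = 2
  · obtain ⟨a, ha⟩ := FiniteField.isSquare_of_char_two h2 h
    exact ⟨a, 0, by rw [ha]; ring⟩
  · have h2' : (2 : L) ≠ 0 := Ring.two_ne_zero h2
    obtain ⟨a, b, hab⟩ := FiniteField.exists_root_sum_quadratic (R := L) (f := X ^ 2)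
      (g := C (-(τ ^ 2 - 4 * ν)) * X ^ 2 - C (4 * h)) (by simp) (by
        rw [degree_sub_C] <;> rw [degree_C_mul_X_pow _ (neg_ne_zero.2 hΔ)]
        · rfl
        · norm_num) (FiniteField.odd_card_of_char_ne_two h2)
    simp only [eval_pow, eval_X, eval_sub, eval_mul, eval_C] at hab
    refine ⟨(a - τ * b) / 2, b, ?_⟩
    field_simp
    linear_combination hab

theorem ring_binary_form_surj {D : Type*} [CommRing D] [Finite D] (τ ν h : D)
    (hΔ : IsUnit (τ ^ 2 - 4 * ν)) :
    ∃ a b : D, IsNilpotent (h - (a ^ 2 + τ * a * b + ν * b ^ 2)) := by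
  classical
  haveI : Finite (Ideal D) :=
    Finite.of_injective (fun K : Ideal D => (K : Set D)) SetLike.coe_injective
  have key : ∀ m : {m : Ideal D // m.IsMaximal}, ∃ a b : D ⧸ m.1,
      a ^ 2 + Ideal.Quotient.mk m.1 τ * a * b + Ideal.Quotient.mk m.1 ν * b ^ 2 =
        Ideal.Quotient.mk m.1 h := by
    rintro ⟨m, hm⟩
    letI := Ideal.Quotient.field m
    haveI : Finite (D ⧸ m) := Finite.of_surjective _ Ideal.Quotient.mk_surjective
    apply field_binary_form_surj
    have := (hΔ.map (Ideal.Quotient.mk m)).ne_zero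
    simpa [map_ofNat] using this
  choose a b hab using key
  have hco : Pairwise (Function.onFun IsCoprime fun m : {m : Ideal D // m.IsMaximal} => m.1) := by
    intro m m' hne
    exact Ideal.isCoprime_iff_sup_eq.2 (m.2.coprime_of_ne m'.2 fun h => hne (Subtype.ext h))
  obtain ⟨a', ha'⟩ := Ideal.pi_quotient_surjective hco a
  obtain ⟨b', hb'⟩ := Ideal.pi_quotient_surjective hco b
  refine ⟨a', b', ?_⟩
  rw [← mem_nilradical, nilradical, ← IsArtinianRing.jacobson_eq_radical, Ideal.jacobson,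
    Ideal.mem_sInf]
  rintro m ⟨-, hm⟩
  rw [← Ideal.Quotient.eq_zero_iff_mem]
  have := hab ⟨m, hm⟩
  rw [← ha', ← hb'] at this
  simp only [map_sub, map_add, map_mul, map_pow]
  exact sub_eq_zero.2 this.symm

theorem nilpotent_quad_surj {D : Type*} [CommRing D] [Finite D] (c j : D) (hj : IsNilpotent j) :
    ∃ y : D, y + c * y ^ 2 = j := by
  let f : nilradical D → nilradical D := fun y => ⟨y + c * y ^ 2,
    add_mem y.2 (Ideal.mul_mem_left _ _ (Ideal.pow_mem_of_mem _ y.2 2 two_pos))⟩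
  have hf : Function.Injective f := by
    intro y z h
    have h1 : (y : D) + c * y ^ 2 = z + c * z ^ 2 := congrArg Subtype.val h
    have h2 : IsUnit (1 + c * (y + z) : D) :=
      IsNilpotent.isUnit_one_add (mem_nilradical.1 (Ideal.mul_mem_left _ _ (add_mem y.2 z.2)))
    apply Subtype.ext
    rw [← sub_eq_zero]
    apply h2.mul_right_eq_zero.1
    linear_combination h1
  obtain ⟨y, hy⟩ := Finite.injective_iff_surjective.1 hf ⟨j, mem_nilradical.2 hj⟩
  exact ⟨y, congrArg Subtype.val hy⟩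

/-- Norms are surjective on symmetric units in a finite commutative ring with an involution
admitting `θ` with `θ - s θ` invertible. -/
theorem comm_exists_norm {D : Type*} [CommRing D] [Finite D] (s : D →+* D) (hs : ∀ x, s (s x) = x)
    (θ : D) (hθ : IsUnit (θ - s θ)) (h : D) (hu : IsUnit h) (hh : s h = h) :
    ∃ x : D, x * s x = h := by
  let D₀ : Subring D := s.eqLocus (RingHom.id D)
  have hm : ∀ x, x ∈ D₀ ↔ s x = x := fun x => Iff.rfl
  have unit0 : ∀ x : D₀, IsUnit (x : D) → IsUnit x := by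
    rintro ⟨x, hx⟩ ⟨u, rfl⟩
    have : s (u⁻¹ : Dˣ) = (u⁻¹ : Dˣ) := by
      have h1 : s (u⁻¹ : Dˣ) * u = 1 := by
        rw [← (hm _).1 hx, ← map_mul, Units.inv_mul, map_one]
      exact Units.eq_inv_of_mul_eq_one_right h1
    exact IsUnit.of_mul_eq_one ⟨(u⁻¹ : Dˣ), (hm _).2 this⟩ (Subtype.ext u.mul_inv)
  let τ : D₀ := ⟨θ + s θ, by rw [hm, map_add, hs, add_comm]⟩
  let ν : D₀ := ⟨θ * s θ, by rw [hm, map_mul, hs, mul_comm]⟩
  obtain ⟨a, b, hab⟩ := ring_binary_form_surj τ ν ⟨h, hh⟩ (unit0 _ (by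
    have : ((τ ^ 2 - 4 * ν : D₀) : D) = (θ - s θ) ^ 2 := by
      change (θ + s θ) ^ 2 - 4 * (θ * s θ) = _
      ring
    rw [this]
    exact hθ.pow 2))
  have hx : ((a ^ 2 + τ * a * b + ν * b ^ 2 : D₀) : D) = (a + θ * b) * s (a + θ * b) := by
    rw [map_add, map_mul, (hm _).1 a.2, (hm _).1 b.2]
    change (a : D) ^ 2 + (θ + s θ) * a * b + θ * s θ * b ^ 2 = _
    ring
  set N := a ^ 2 + τ * a * b + ν * b ^ 2 with hN
  have hNu : IsUnit N := by
    have : N = ⟨h, hh⟩ + -(⟨h, hh⟩ - N) := by ring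
    rw [this]
    exact hab.neg.isUnit_add_left_of_commute (unit0 _ hu) (Commute.all _ _)
  obtain ⟨u, hu'⟩ := hθ
  let l : D := θ * (u⁻¹ : Dˣ)
  have hl : l + s l = 1 := by
    have h1 : s u = -u := by rw [hu', map_sub, hs]; ring
    have h2 : s (u⁻¹ : Dˣ) = -(u⁻¹ : Dˣ) := by
      have h3 : -s (u⁻¹ : Dˣ) * u = 1 := by
        rw [neg_mul_comm, ← h1, ← map_mul, Units.inv_mul, map_one]
      exact neg_eq_iff_eq_neg.1 (Units.eq_inv_of_mul_eq_one_right h3)
    simp only [l, map_mul, h2]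
    rw [mul_neg, ← sub_eq_add_neg, ← sub_mul, ← hu', Units.mul_inv]
  obtain ⟨N', hN'⟩ := hNu
  obtain ⟨y, hy⟩ := nilpotent_quad_surj (⟨l * s l, by rw [hm, map_mul, hs, mul_comm]⟩ : D₀)
    ((⟨h, hh⟩ - N) * (N'⁻¹ : D₀ˣ)) ((Commute.all _ _).isNilpotent_mul_right hab)
  refine ⟨(a + θ * b) * (1 + l * y), ?_⟩
  have hy2 := congrArg (fun z => ((z * N : D₀) : D)) hy
  simp only [← hN', mul_assoc, Units.inv_mul, mul_one] at hy2
  rw [hN'] at hy2
  change ((y : D) + l * s l * y ^ 2) * N = h - N at hy2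
  rw [map_mul, mul_mul_mul_comm, ← hx, map_add, map_mul, map_one, (hm _).1 y.2]
  linear_combination hy2 + N * y * hl

/-- Hilbert 90 in a finite commutative ring with an involution. -/
theorem comm_hilbert90 {D : Type*} [CommRing D] [Finite D] (s : D →+* D) (hs : ∀ x, s (s x) = x)
    (θ : D) (hθ : IsUnit (θ - s θ)) (u : D) (hu : u * s u = 1) :
    ∃ y : D, IsUnit y ∧ y = u * s y := by
  let s' : Dˣ →* Dˣ := Units.map s.toMonoidHom
  have hs' : ∀ x, s' (s' x) = x := fun x => Units.ext (hs x)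
  let N : Dˣ →* Dˣ := MonoidHom.id _ * s'
  let δ : Dˣ →* Dˣ := MonoidHom.id _ / s'
  have h1 : N.range = δ.ker := by
    ext x
    constructor
    · rintro ⟨y, rfl⟩
      change (y * s' y) / s' (y * s' y) = 1
      rw [map_mul, hs', mul_comm, div_self']
    · intro hx
      have : x / s' x = 1 := hx
      rw [div_eq_one] at this
      obtain ⟨y, hy⟩ := comm_exists_norm s hs θ hθ x x.isUnit (congrArg Units.val this).symm
      have hyu : IsUnit y := isUnit_of_mul_isUnit_left (hy ▸ x.isUnit)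
      exact ⟨hyu.unit, Units.ext hy⟩
  have h2 : δ.range = N.ker := by
    apply Subgroup.eq_of_le_of_card_ge
    · rintro _ ⟨y, rfl⟩
      change (y / s' y) * s' (y / s' y) = 1
      rw [_root_.map_div, hs', div_mul_div_cancel, div_self']
    · have e1 := Subgroup.card_mul_index N.ker
      have e2 := Subgroup.card_mul_index δ.ker
      rw [Subgroup.index_ker, h1] at e1
      rw [Subgroup.index_ker, ← e1, mul_comm] at e2
      exact (Nat.eq_of_mul_eq_mul_right Nat.card_pos e2).ge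
  have h3 : (IsUnit.of_mul_eq_one _ hu).unit ∈ N.ker := Units.ext hu
  rw [← h2] at h3
  obtain ⟨y, hy⟩ := h3
  refine ⟨y, y.isUnit, ?_⟩
  have : y / s' y = (IsUnit.of_mul_eq_one _ hu).unit := hy
  rw [div_eq_iff_eq_mul] at this
  exact congrArg Units.val this

section noncomm

variable {R : Type*} [Ring R] [Finite R]

theorem isUnit_subring_of_finite (D : Subring R) (x : D) (hx : IsUnit (x : R)) : IsUnit x := by
  obtain ⟨u, hu⟩ := hx
  have hk := (isOfFinOrder_of_finite u).orderOf_pos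
  refine IsUnit.of_pow_eq_one (n := orderOf u) (Subtype.ext ?_) hk.ne'
  rw [SubmonoidClass.coe_pow, ← hu, ← Units.val_pow_eq_pow_val, pow_orderOf_eq_one]
  rfl

omit [Finite R] in
theorem closure_star_mem (s : R →+ R) (hmul : ∀ x y, s (x * y) = s y * s x) (hone : s 1 = 1)
    (S : Set R) (hS : ∀ a ∈ S, s a ∈ Subring.closure S) (hss : ∀ a ∈ S, s (s a) = a) :
    ∀ x ∈ Subring.closure S, s x ∈ Subring.closure S ∧ s (s x) = x := by
  intro x hx
  induction hx using Subring.closure_induction with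
  | mem x hx => exact ⟨hS x hx, hss x hx⟩
  | zero => simp
  | one => simp [hone]
  | add x y _ _ hx hy => exact ⟨by rw [map_add]; exact add_mem hx.1 hy.1, by simp [hx.2, hy.2]⟩
  | neg x _ hx => exact ⟨by rw [map_neg]; exact neg_mem hx.1, by simp [hx.2]⟩
  | mul x y _ _ hx hy => exact ⟨by rw [hmul]; exact mul_mem hy.1 hx.1, by simp [hmul, hx.2, hy.2]⟩

theorem exists_norm_of_comm (s : R →+ R) (hmul : ∀ x y, s (x * y) = s y * s x) (hone : s 1 = 1)
    (S : Set R) (hcomm : ∀ a ∈ S, ∀ b ∈ S, a * b = b * a)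
    (hS : ∀ a ∈ S, s a ∈ Subring.closure S) (hss : ∀ a ∈ S, s (s a) = a)
    (θ : R) (hθS : θ ∈ Subring.closure S) (hθ : IsUnit (θ - s θ)) :
    (∀ h ∈ Subring.closure S, IsUnit h → s h = h → ∃ x ∈ Subring.closure S, x * s x = h) ∧
    (∀ u ∈ Subring.closure S, u * s u = 1 →
      ∃ y ∈ Subring.closure S, IsUnit y ∧ y = u * s y) := by
  have hcl := closure_star_mem s hmul hone S hS hss
  haveI := Subring.isMulCommutative_closure hcomm
  letI : CommRing (Subring.closure S) := { (inferInstance : Ring (Subring.closure S)) with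
    mul_comm := fun a b => mul_comm' a b }
  let s' : Subring.closure S →+* Subring.closure S :=
    { toFun := fun x => ⟨s x, (hcl x x.2).1⟩
      map_one' := Subtype.ext hone
      map_mul' := fun x y => by
        rw [mul_comm (⟨s x, _⟩ : Subring.closure S)]
        exact Subtype.ext (hmul x y)
      map_zero' := Subtype.ext (map_zero s)
      map_add' := fun x y => Subtype.ext (map_add s (x : R) (y : R)) }
  have hs' : ∀ x, s' (s' x) = x := fun x => Subtype.ext (hcl x x.2).2
  have hθ' : IsUnit ((⟨θ, hθS⟩ : Subring.closure S) - s' ⟨θ, hθS⟩) :=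
    isUnit_subring_of_finite _ _ hθ
  constructor
  · intro h hh hu e
    obtain ⟨x, hx⟩ := comm_exists_norm s' hs' _ hθ' ⟨h, hh⟩ (isUnit_subring_of_finite _ _ hu)
      (Subtype.ext e)
    exact ⟨x, x.2, congrArg Subtype.val hx⟩
  · intro u hu e
    obtain ⟨y, hy1, hy2⟩ := comm_hilbert90 s' hs' _ hθ' ⟨u, hu⟩ (Subtype.ext e)
    exact ⟨y, y.2, hy1.map (Subring.closure S).subtype, congrArg Subtype.val hy2⟩

omit [Finite R] in
theorem commute_of_mem_closure {S : Set R} {a x : R} (ha : ∀ b ∈ S, Commute a b)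
    (hx : x ∈ Subring.closure S) : Commute a x := by
  have : Subring.closure S ≤ Subring.centralizer {a} := by
    rw [Subring.closure_le]
    intro b hb
    rw [SetLike.mem_coe, Subring.mem_centralizer_iff]
    rintro _ rfl
    exact ha b hb
  exact (Subring.mem_centralizer_iff.1 (this hx)) a rfl

end noncomm

end CfsgH7
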