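import Mathlib

set_option autoImplicit false

namespace CfsgH7

open Subgroup
open scoped Pointwise

/-- `x` lies in the centre of a Sylow `p`-subgroup. -/
def PCentral (p : ℕ) {G : Type*} [Group G] (x : G) : Prop :=
  ∃ S : Sylow p G, x ∈ (S : Subgroup G) ∧ ∀ y ∈ (S : Subgroup G), x * y = y * x

theorem PCentral.map {p : ℕ} {G : Type*} [Group G] {x : G} (hx : PCentral p x) (α : MulAut G) :
    PCentral p (α x) := by
  obtain ⟨S, hS, hc⟩ := hx
  refine ⟨α • S, ?_, ?_⟩
  · rw [Sylow.pointwise_smul_def]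
    exact Subgroup.smul_mem_pointwise_smul _ _ _ hS
  · intro y hy
    rw [Sylow.pointwise_smul_def, Subgroup.mem_pointwise_smul_iff_inv_smul_mem] at hy
    have := congrArg α (hc _ hy)
    simpa using this

theorem exists_pCentral_ne_one (p : ℕ) [Fact p.Prime] {G : Type*} [Group G] [Finite G] {x : G}
    (hx : x ^ p = 1) (hx1 : x ≠ 1) : ∃ y : G, y ≠ 1 ∧ PCentral p y := by
  have hP : IsPGroup p (zpowers x) := by
    apply IsPGroup.of_card (n := 1)
    rw [Nat.card_zpowers, orderOf_eq_prime hx hx1, pow_one]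
  obtain ⟨S, hS⟩ := hP.exists_le_sylow
  haveI : Nontrivial (S : Subgroup G) :=
    ⟨⟨⟨x, hS (mem_zpowers x)⟩, 1, fun h => hx1 (congrArg Subtype.val h)⟩⟩
  haveI := S.isPGroup'.center_nontrivial
  obtain ⟨⟨y, hy⟩, hy1⟩ := exists_ne (1 : center (S : Subgroup G))
  refine ⟨y, fun h => hy1 (Subtype.ext (Subtype.ext h)), S, y.2, fun z hz => ?_⟩
  exact (congrArg Subtype.val (mem_center_iff.1 hy ⟨z, hz⟩)).symm

section center

variable {G : Type*} [Group G] {p : ℕ}

theorem center_eq_one_of_pow (hZ : ∀ z ∈ center G, z ^ p = 1 → z = 1) {z : G} (hz : z ∈ center G)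
    {k : ℕ} (hk : z ^ p ^ k = 1) : z = 1 := by
  induction k generalizing z with
  | zero => simpa using hk
  | succ k ih =>
    apply hZ z hz
    apply ih (pow_mem hz p)
    rw [← pow_mul, ← pow_succ', hk]

theorem eq_of_mk_eq_of_pow (hZ : ∀ z ∈ center G, z ^ p = 1 → z = 1) {a b : G} {k : ℕ}
    (ha : a ^ p ^ k = 1) (hb : b ^ p ^ k = 1)
    (h : (QuotientGroup.mk a : G ⧸ center G) = QuotientGroup.mk b) : a = b := by
  rw [QuotientGroup.eq] at h
  have hc : Commute a (a⁻¹ * b) := mem_center_iff.1 h a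
  have h1 : (a⁻¹ * b) ^ p ^ k = 1 := by
    have : b = a * (a⁻¹ * b) := by group
    rw [this, hc.mul_pow, ha, one_mul] at hb
    exact hb
  have := center_eq_one_of_pow hZ h h1
  rwa [inv_mul_eq_one] at this

theorem commute_of_mk_commute (hZ : ∀ z ∈ center G, z ^ p = 1 → z = 1) {a b : G} {k : ℕ}
    (ha : a ^ p ^ k = 1)
    (h : Commute (QuotientGroup.mk a : G ⧸ center G) (QuotientGroup.mk b)) : Commute a b := by
  have h1 : (QuotientGroup.mk a : G ⧸ center G) = QuotientGroup.mk (b * a * b⁻¹) := by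
    rw [QuotientGroup.mk_mul, QuotientGroup.mk_mul, QuotientGroup.mk_inv, ← h.eq]
    group
  have h2 := eq_of_mk_eq_of_pow hZ ha (by rw [conj_pow, ha]; group) h1
  change a * b = b * a
  conv_lhs => rw [h2]
  group

theorem sylow_lift [Finite G] [Fact p.Prime] (β : MulAut (G ⧸ center G)) (S : Sylow p G) :
    ∃ S' : Sylow p G, ((S : Subgroup G).map (QuotientGroup.mk' (center G))).map β.toMonoidHom =
      (S' : Subgroup G).map (QuotientGroup.mk' (center G)) := by
  have hs := QuotientGroup.mk'_surjective (center G)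
  obtain ⟨S', hS'⟩ := Sylow.mapSurjective_surjective hs p (β • S.mapSurjective hs)
  refine ⟨S', ?_⟩
  rw [← Sylow.coe_mapSurjective hs S', hS', Sylow.pointwise_smul_def, Sylow.coe_mapSurjective]
  rfl

theorem pCentral_lift [Finite G] [Fact p.Prime] (hZ : ∀ z ∈ center G, z ^ p = 1 → z = 1)
    (β : MulAut (G ⧸ center G)) {x : G} (hx : PCentral p x) :
    ∃ y : G, PCentral p y ∧ β (QuotientGroup.mk x) = QuotientGroup.mk y := by
  obtain ⟨S, hS, hc⟩ := hx
  obtain ⟨S', hS'⟩ := sylow_lift β S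
  have h1 : β (QuotientGroup.mk x) ∈ (S' : Subgroup G).map (QuotientGroup.mk' (center G)) := by
    rw [← hS']
    exact ⟨_, ⟨x, hS, rfl⟩, rfl⟩
  obtain ⟨y, hy, hy'⟩ := h1
  refine ⟨y, ⟨S', hy, fun z hz => ?_⟩, hy'.symm⟩
  have h2 : (QuotientGroup.mk z : G ⧸ center G) ∈
      (S' : Subgroup G).map (QuotientGroup.mk' (center G)) := ⟨z, hz, rfl⟩
  rw [← hS'] at h2
  obtain ⟨_, ⟨w, hw, rfl⟩, hw'⟩ := h2
  obtain ⟨k, hk⟩ := S'.isPGroup' ⟨y, hy⟩
  refine commute_of_mk_commute hZ (k := k) (congrArg Subtype.val hk) ?_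
  have e1 : (QuotientGroup.mk y : G ⧸ center G) = β (QuotientGroup.mk x) := hy'
  have e2 : (QuotientGroup.mk z : G ⧸ center G) = β (QuotientGroup.mk w) := hw'.symm
  rw [e1, e2]
  apply Commute.map
  exact Commute.map (hc w hw) (QuotientGroup.mk' (center G))

end center

/-- The automorphism of `G / Z(G)` induced by an automorphism of `G`. -/
def autQuot (G : Type*) [Group G] : MulAut G →* MulAut (G ⧸ center G) where
  toFun α := QuotientGroup.congr (center G) (center G) α (by
    ext x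
    simp only [mem_map]
    constructor
    · rintro ⟨y, hy, rfl⟩
      exact (MulEquivClass.apply_mem_center_iff α).2 hy
    · intro hx
      exact ⟨α.symm x, (MulEquivClass.apply_mem_center_iff α.symm).2 hx, by simp⟩)
  map_one' := by
    ext x
    obtain ⟨x, rfl⟩ := QuotientGroup.mk_surjective x
    rfl
  map_mul' α β := by
    ext x
    obtain ⟨x, rfl⟩ := QuotientGroup.mk_surjective x
    rfl

@[simp] theorem autQuot_mk {G : Type*} [Group G] (α : MulAut G) (x : G) :
    autQuot G α (QuotientGroup.mk x) = QuotientGroup.mk (α x) := rfl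

theorem mulAut_quot_ext {G : Type*} [Group G] {β γ : MulAut (G ⧸ center G)}
    (h : ∀ x : G, β (QuotientGroup.mk x) = γ (QuotientGroup.mk x)) : β = γ := by
  ext x
  obtain ⟨x, rfl⟩ := QuotientGroup.mk_surjective x
  exact h x

/-- A Sylow subgroup normalising a `p`-subgroup contains it. -/
theorem le_sylow_of_normalizes {G : Type*} [Group G] {p : ℕ} (S : Sylow p G) (Q : Subgroup G)
    (hQ : IsPGroup p Q) (hn : ∀ s ∈ (S : Subgroup G), ∀ x ∈ Q, s * x * s⁻¹ ∈ Q) :
    Q ≤ (S : Subgroup G) := by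
  have h1 : (S : Subgroup G) ≤ normalizer Q := by
    intro s hs
    rw [mem_normalizer_iff]
    intro x
    refine ⟨hn s hs x, fun h => ?_⟩
    have := hn s⁻¹ (inv_mem hs) _ h
    simpa [mul_assoc] using this
  have h2 : IsPGroup p ((S : Subgroup G) ⊔ Q : Subgroup G) :=
    IsPGroup.to_sup_of_normal_right' S.isPGroup' hQ h1
  have h3 := S.is_maximal' h2 le_sup_left
  rw [← h3]
  exact le_sup_right

/-- A finite `p`-group of matrices over a finite field of characteristic `p` fixes a vector in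
every nonzero invariant subspace. -/
theorem exists_fixed_vec {G : Type*} [Group G] {p : ℕ} [Fact p.Prime] {F : Type*} [Field F]
    [Finite F] [CharP F p] {ι : Type*} [Fintype ι] [DecidableEq ι] (ρ : G →* Matrix ι ι F)
    (S : Subgroup G) (hS : IsPGroup p S) (W : Submodule F (ι → F)) (hW : W ≠ ⊥)
    (hinv : ∀ s ∈ S, ∀ w ∈ W, (ρ s).mulVec w ∈ W) :
    ∃ e ∈ W, e ≠ 0 ∧ ∀ s ∈ S, (ρ s).mulVec e = e := by
  letI : MulAction S W :=
    { smul := fun s w => ⟨(ρ s).mulVec w, hinv s s.2 w w.2⟩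
      one_smul := fun w => Subtype.ext (by
        change (ρ (1 : S)).mulVec w = w
        simp)
      mul_smul := fun s t w => Subtype.ext (by
        change (ρ (s * t : S)).mulVec w = (ρ s).mulVec ((ρ t).mulVec w)
        simp) }
  have hcard : p ∣ Nat.card W := by
    haveI := Fintype.ofFinite F
    obtain ⟨k, _, hk⟩ := FiniteField.card F p
    rw [Module.natCard_eq_pow_finrank (K := F), Nat.card_eq_fintype_card, hk]
    apply dvd_pow (dvd_pow_self p k.ne_zero)
    intro h
    exact hW (Submodule.finrank_eq_zero.1 h)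
  have h0 : (0 : W) ∈ MulAction.fixedPoints S W := by
    intro s
    apply Subtype.ext
    change (ρ s).mulVec 0 = 0
    simp
  obtain ⟨e, he, he0⟩ := hS.exists_fixed_point_of_prime_dvd_card_of_fixed_point W hcard h0
  refine ⟨e, e.2, fun h => he0 (Subtype.ext h.symm), fun s hs => ?_⟩
  exact congrArg Subtype.val (he ⟨s, hs⟩)

end CfsgH7
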