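import Cfsg.Agent.H7.AutAbs
import Cfsg.Agent.H7.AutPSL2
import Cfsg.Agent.H7.FldAut

set_option autoImplicit false

namespace CfsgH7

open Matrix Subgroup

variable {F : Type*} [Field F]

section general

variable {ι : Type*} [Fintype ι] [DecidableEq ι]

/-- entrywise action of a field automorphism on `GL` -/
def mapGL' (σ : F ≃+* F) : GL ι F →* GL ι F := Matrix.GeneralLinearGroup.map (σ : F →+* F)

@[simp] theorem mapGL'_coe (σ : F ≃+* F) (g : GL ι F) :
    (mapGL' σ g : Matrix ι ι F) = (g : Matrix ι ι F).map σ := rfl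

theorem mapGL'_inv_coe (σ : F ≃+* F) (g : GL ι F) :
    (((mapGL' σ g)⁻¹ : GL ι F) : Matrix ι ι F) = ((g⁻¹ : GL ι F) : Matrix ι ι F).map σ := rfl

/-- inverse transpose on `GL` -/
def invTGL : GL ι F →* GL ι F where
  toFun g := ⟨((g⁻¹ : GL ι F) : Matrix ι ι F)ᵀ, (g : Matrix ι ι F)ᵀ, by
    rw [← transpose_mul, Units.mul_inv, transpose_one], by
    rw [← transpose_mul, Units.inv_mul, transpose_one]⟩
  map_one' := by apply Units.ext; simp
  map_mul' g h := by
    apply Units.ext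
    change (((g * h)⁻¹ : GL ι F) : Matrix ι ι F)ᵀ =
      ((g⁻¹ : GL ι F) : Matrix ι ι F)ᵀ * ((h⁻¹ : GL ι F) : Matrix ι ι F)ᵀ
    rw [_root_.mul_inv_rev, Units.val_mul, transpose_mul]

theorem invTGL_coe (g : GL ι F) :
    (invTGL g : Matrix ι ι F) = ((g⁻¹ : GL ι F) : Matrix ι ι F)ᵀ := rfl

theorem invTGL_inv_coe (g : GL ι F) :
    (((invTGL g)⁻¹ : GL ι F) : Matrix ι ι F) = (g : Matrix ι ι F)ᵀ := rfl

theorem invTGL_invTGL (g : GL ι F) : invTGL (invTGL g) = g := by
  apply Units.ext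
  rw [invTGL_coe, invTGL_inv_coe, transpose_transpose]

theorem conjSL_toGL (s t : Matrix.SpecialLinearGroup ι F) :
    conjSL (Matrix.SpecialLinearGroup.toGL s) t = s * t * s⁻¹ := by
  apply Subtype.ext
  rw [conjSL_coe, ← map_inv]
  rfl

theorem mapSL_conjSL (σ : F ≃+* F) (g : GL ι F) :
    mapSL σ * conjSL g = conjSL (mapGL' σ g) * mapSL σ := by
  refine MulEquiv.ext fun s => Subtype.ext ?_
  change ((g : Matrix ι ι F) * s * (g⁻¹ : GL ι F)).map (σ : F →+* F) =
    (g : Matrix ι ι F).map (σ : F →+* F) * (s : Matrix ι ι F).map (σ : F →+* F) *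
      ((g⁻¹ : GL ι F) : Matrix ι ι F).map (σ : F →+* F)
  rw [Matrix.map_mul, Matrix.map_mul]

theorem invTSL_conjSL (g : GL ι F) :
    invTSL * conjSL g = conjSL (invTGL g) * invTSL := by
  refine MulEquiv.ext fun s => Subtype.ext ?_
  rw [MulAut.mul_apply, MulAut.mul_apply, invTSL_coe, ← map_inv, conjSL_coe, conjSL_coe, invTSL_coe,
    invTGL_coe, invTGL_inv_coe, transpose_mul, transpose_mul, Matrix.mul_assoc]

theorem invTSL_mapSL (σ : F ≃+* F) :
    (invTSL : MulAut (Matrix.SpecialLinearGroup ι F)) * mapSL σ = mapSL σ * invTSL := by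
  refine MulEquiv.ext fun s => Subtype.ext ?_
  rw [MulAut.mul_apply, MulAut.mul_apply, invTSL_coe, ← map_inv, mapSL_coe, mapSL_coe, invTSL_coe]
  rfl

theorem fieldPSL_diagPSL (σ : F ≃+* F) (g : GL ι F) :
    fieldPSL σ * diagPSL g = diagPSL (mapGL' σ g) * fieldPSL σ := by
  simp only [fieldPSL, diagPSL, MonoidHom.comp_apply, ← map_mul, mapSL_conjSL]

theorem graphPSL_diagPSL (g : GL ι F) :
    graphPSL * diagPSL g = diagPSL (invTGL g) * graphPSL := by
  simp only [graphPSL, diagPSL, MonoidHom.comp_apply, ← map_mul, invTSL_conjSL]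

theorem graphPSL_fieldPSL (σ : F ≃+* F) :
    (graphPSL : MulAut (Matrix.ProjectiveSpecialLinearGroup ι F)) * fieldPSL σ =
      fieldPSL σ * graphPSL := by
  simp only [graphPSL, fieldPSL, MonoidHom.comp_apply, ← map_mul, invTSL_mapSL]

theorem graphPSL_inv : (graphPSL : MulAut (Matrix.ProjectiveSpecialLinearGroup ι F))⁻¹ = graphPSL :=
  inv_eq_of_mul_eq_one_right graphPSL_mul_self

theorem diagPSL_toGL (s : Matrix.SpecialLinearGroup ι F) :
    diagPSL (Matrix.SpecialLinearGroup.toGL s) =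
      MulAut.conj (QuotientGroup.mk s : Matrix.ProjectiveSpecialLinearGroup ι F) := by
  apply mulAut_quot_ext
  intro t
  rw [diagPSL_mk, conjSL_toGL]
  rfl

theorem GL_mem_center_iff {g : GL ι F} :
    g ∈ center (GL ι F) ↔ ∃ c : F, (g : Matrix ι ι F) = c • 1 := by
  rw [Matrix.GeneralLinearGroup.mem_center_iff_val_mem_range_scalar]
  simp only [Set.mem_range, scalar_apply, smul_one_eq_diagonal, eq_comm]

theorem GL_smul_ne_zero [Nonempty ι] {g h : GL ι F} {c : F}
    (e : (g : Matrix ι ι F) = c • (h : Matrix ι ι F)) : c ≠ 0 := by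
  rintro rfl
  apply g.det_ne_zero
  rw [e, zero_smul, det_zero]

theorem GL_smul_one_ne_zero [Nonempty ι] {g : GL ι F} {c : F}
    (e : (g : Matrix ι ι F) = c • (1 : Matrix ι ι F)) : c ≠ 0 :=
  GL_smul_ne_zero (h := 1) e

theorem diagPSL_scalar {g : GL ι F} {c : F} (e : (g : Matrix ι ι F) = c • 1) : diagPSL g = 1 := by
  apply mulAut_quot_ext
  intro s
  rw [diagPSL_mk]
  congr 1
  apply Subtype.ext
  rw [conjSL_coe, e, Matrix.smul_mul, one_mul, Matrix.smul_mul, ← Matrix.mul_smul, ← one_mul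
    ((g⁻¹ : GL ι F) : Matrix ι ι F), ← Matrix.smul_mul, ← e, Units.mul_inv, mul_one]

theorem diagPSL_eq_of_smul {g h : GL ι F} {c : F}
    (e : (g : Matrix ι ι F) = c • (h : Matrix ι ι F)) : diagPSL g = diagPSL h := by
  have : diagPSL (g * h⁻¹) = 1 := diagPSL_scalar (c := c) (by
    rw [Units.val_mul, e, Matrix.smul_mul, Units.mul_inv])
  rwa [map_mul, map_inv, mul_inv_eq_one] at this

/-- Rigidity: comparing images of elementary transvections. -/
theorem eq_of_mk_eq_isTv [Finite F] {s t : Matrix.SpecialLinearGroup ι F} (hs : IsTv s)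
    (ht : IsTv t) (h : (QuotientGroup.mk s : Matrix.ProjectiveSpecialLinearGroup ι F) =
      QuotientGroup.mk t) : s = t := by
  obtain ⟨p, hp⟩ := CharP.exists F
  haveI := Fact.mk (CharP.char_is_prime F p)
  exact eq_of_mk_eq_of_pow (SL_center_pow (p := p)) (k := 1) (by rw [pow_one]; exact hs.pow_char)
    (by rw [pow_one]; exact ht.pow_char) h

theorem IsTv.conj {s : Matrix.SpecialLinearGroup ι F} (hs : IsTv s) (g : GL ι F) :
    IsTv (conjSL g s) := by
  obtain ⟨v, φ, h1, h2⟩ := hs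
  refine ⟨(g : Matrix ι ι F) *ᵥ v, φ ᵥ* ((g⁻¹ : GL ι F) : Matrix ι ι F), ?_, ?_⟩
  · rw [← dotProduct_mulVec, mulVec_mulVec, Units.inv_mul, one_mulVec, h1]
  · rw [conjSL_coe, h2, mul_add, add_mul, mul_one, Units.mul_inv, mul_vecMulVec, vecMulVec_mul]

theorem diag_field_eq_one [Finite F] [Nontrivial ι] {g : GL ι F} {σ : F ≃+* F}
    (h : diagPSL g * fieldPSL σ = 1) : σ = 1 ∧ ∃ c : F, (g : Matrix ι ι F) = c • 1 := by
  have key : ∀ (i j : ι) (hij : i ≠ j) (a : F),
      (g : Matrix ι ι F) * single i j (σ a) = single i j a * g := by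
    intro i j hij a
    have h1 := MulEquiv.congr_fun h (QuotientGroup.mk (Matrix.SpecialLinearGroup.transvection hij a))
    rw [MulAut.mul_apply, fieldPSL_mk, mapSL_transvection, diagPSL_mk] at h1
    have h2 := congrArg Subtype.val
      (eq_of_mk_eq_isTv ((isTv_transvection _ _).conj g) (isTv_transvection _ _) h1)
    change (g : Matrix ι ι F) * (1 + single i j (σ a)) * (g⁻¹ : GL ι F) = 1 + single i j a at h2
    rw [mul_add, add_mul, mul_one, Units.mul_inv, add_right_inj, Units.mul_inv_eq_iff_eq_mul] at h2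
    exact h2
  have hc : ∃ c : F, (g : Matrix ι ι F) = c • 1 := by
    obtain ⟨c, hc⟩ := Matrix.mem_range_scalar_of_commute_single (M := (g : Matrix ι ι F))
      (fun i j hij => by
        have := key i j hij 1
        rw [map_one] at this
        exact this.symm)
    exact ⟨c, by rw [← hc, scalar_apply, smul_one_eq_diagonal]⟩
  refine ⟨?_, hc⟩
  obtain ⟨c, hc⟩ := hc
  obtain ⟨i, j, hij⟩ := exists_pair_ne ι
  ext a
  have := congrFun (congrFun (key i j hij a) i) j
  rw [hc] at this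
  simp only [Matrix.smul_mul, Matrix.mul_smul, one_mul, mul_one, Matrix.smul_apply,
    single_apply_same, smul_eq_mul] at this
  exact mul_left_cancel₀ (GL_smul_one_ne_zero hc) this

theorem diagPSL_eq_one_iff [Finite F] [Nontrivial ι] {g : GL ι F} :
    diagPSL g = 1 ↔ ∃ c : F, (g : Matrix ι ι F) = c • 1 :=
  ⟨fun h => (diag_field_eq_one (σ := 1) (by rw [map_one, mul_one, h])).2,
    fun ⟨_, hc⟩ => diagPSL_scalar hc⟩

theorem diagPSL_ker [Finite F] [Nontrivial ι] :
    (diagPSL : GL ι F →* _).ker = center (GL ι F) := by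
  ext g
  rw [MonoidHom.mem_ker, diagPSL_eq_one_iff, GL_mem_center_iff]

theorem diagPSL_eq_iff [Finite F] [Nontrivial ι] {g h : GL ι F} :
    diagPSL g = diagPSL h ↔ ∃ c : F, (g : Matrix ι ι F) = c • (h : Matrix ι ι F) := by
  refine ⟨fun e => ?_, fun ⟨_, hc⟩ => diagPSL_eq_of_smul hc⟩
  rw [← mul_inv_eq_one, ← map_inv, ← map_mul, diagPSL_eq_one_iff] at e
  obtain ⟨c, hc⟩ := e
  refine ⟨c, ?_⟩
  rw [Units.val_mul, Units.mul_inv_eq_iff_eq_mul, Matrix.smul_mul, one_mul] at hc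
  exact hc

theorem fieldPSL_injective [Finite F] [Nontrivial ι] :
    Function.Injective (fieldPSL : (F ≃+* F) →* MulAut (Matrix.ProjectiveSpecialLinearGroup ι F)) :=
  (injective_iff_map_eq_one _).2 fun σ h =>
    (diag_field_eq_one (g := (1 : GL ι F)) (by rw [map_one, one_mul, h])).1

theorem diag_field_unique [Finite F] [Nontrivial ι] {g h : GL ι F} {σ τ : F ≃+* F}
    (e : diagPSL g * fieldPSL σ = diagPSL h * fieldPSL τ) : σ = τ := by
  have : diagPSL (h⁻¹ * g) * fieldPSL (σ * τ⁻¹) = 1 := by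
    rw [map_mul, map_mul, map_inv, map_inv, mul_assoc, ← mul_assoc (diagPSL g), e]
    group
  exact mul_inv_eq_one.1 (diag_field_eq_one this).1

theorem diag_field_ne_graph [Finite F] (h3 : ∀ i j : ι, ∃ k, k ≠ i ∧ k ≠ j) [Nonempty ι]
    (g : GL ι F) (σ : F ≃+* F) : diagPSL g * fieldPSL σ ≠ graphPSL := by
  intro h
  have key : ∀ (i j : ι) (hij : i ≠ j),
      vecMulVec ((g : Matrix ι ι F) *ᵥ Pi.single i 1)
        (Pi.single j 1 ᵥ* ((g⁻¹ : GL ι F) : Matrix ι ι F)) =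
        vecMulVec (Pi.single j 1) (-Pi.single i 1) := by
    intro i j hij
    have h1 := MulEquiv.congr_fun h (QuotientGroup.mk (Matrix.SpecialLinearGroup.transvection hij 1))
    rw [MulAut.mul_apply, fieldPSL_mk, mapSL_transvection, diagPSL_mk, map_one, graphPSL_mk] at h1
    have e := invTSL_tv (y := Matrix.SpecialLinearGroup.transvection hij (1 : F)) (by simp [hij])
      (transvection_coe' hij 1)
    have h2 := congrArg Subtype.val (eq_of_mk_eq_isTv ((isTv_transvection _ _).conj g)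
      ⟨_, _, by simp [hij.symm], e⟩ h1)
    rw [e, conjSL_coe, transvection_coe', mul_add, add_mul, mul_one, Units.mul_inv, add_right_inj,
      mul_vecMulVec, vecMulVec_mul] at h2
    exact h2
  obtain ⟨i⟩ := ‹Nonempty ι›
  obtain ⟨j, hj, -⟩ := h3 i i
  obtain ⟨k, hk1, hk2⟩ := h3 i j
  have e1 := congrArg (fun M => M *ᵥ Pi.single i (-1 : F)) (key i j hj.symm)
  have e2 := congrArg (fun M => M *ᵥ Pi.single i (-1 : F)) (key i k hk1.symm)
  simp only [vecMulVec_mulVec'] at e1 e2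
  simp only [neg_dotProduct, dotProduct_single, Pi.single_eq_same, mul_neg, mul_one, neg_neg,
    one_smul] at e1 e2
  have p1 := par_of_eq_smul (by simp) e1.symm
  have p2 := par_of_eq_smul (by simp) e2.symm
  obtain ⟨c, hc, hc'⟩ := p1.symm.trans p2
  simpa [hk2] using congrFun hc' k

theorem diagPSL_mem_inn_iff [Finite F] [Nontrivial ι] {g : GL ι F} :
    diagPSL g ∈ Cfsg.Inn (Matrix.ProjectiveSpecialLinearGroup ι F) ↔
      Matrix.GeneralLinearGroup.det g ∈ (powMonoidHom (Fintype.card ι) : Fˣ →* Fˣ).range := by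
  constructor
  · rintro ⟨s, hs⟩
    obtain ⟨s, rfl⟩ := QuotientGroup.mk_surjective s
    rw [← diagPSL_toGL] at hs
    obtain ⟨c, hc⟩ := diagPSL_eq_iff.1 hs.symm
    refine ⟨Units.mk0 c (GL_smul_ne_zero hc), Units.ext ?_⟩
    simp [hc]
  · rintro ⟨c, hc⟩
    have hc' : (c : F) ^ Fintype.card ι = (g : Matrix ι ι F).det := congrArg Units.val hc
    let s : Matrix.SpecialLinearGroup ι F := ⟨(c : F)⁻¹ • (g : Matrix ι ι F), by
      rw [det_smul, ← hc', inv_pow, inv_mul_cancel₀ (pow_ne_zero _ c.ne_zero)]⟩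
    refine ⟨QuotientGroup.mk s, ?_⟩
    rw [← diagPSL_toGL]
    exact diagPSL_eq_of_smul (c := (c : F)⁻¹) rfl

theorem inn_le_diagPSL_range :
    Cfsg.Inn (Matrix.ProjectiveSpecialLinearGroup ι F) ≤ (diagPSL : GL ι F →* _).range := by
  rintro _ ⟨s, rfl⟩
  obtain ⟨s, rfl⟩ := QuotientGroup.mk_surjective s
  exact ⟨_, diagPSL_toGL s⟩

end general

variable {n : ℕ}

theorem isInnerDiagonalAutPSL_iff {β : MulAut (Matrix.ProjectiveSpecialLinearGroup (Fin n) F)} :
    Cfsg.IsInnerDiagonalAutPSL β ↔ ∃ g, β = diagPSL g :=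
  ⟨fun ⟨g, h⟩ => ⟨g, mulAut_quot_ext fun s => h s (conjSL g s) rfl⟩,
    fun ⟨g, h⟩ => ⟨g, fun s s' e => by
      rw [h, diagPSL_mk]; congr 1; exact Subtype.ext e.symm⟩⟩

theorem isStdFieldAutPSL_iff {σ : F ≃+* F}
    {β : MulAut (Matrix.ProjectiveSpecialLinearGroup (Fin n) F)} :
    Cfsg.IsStdFieldAutPSL σ β ↔ β = fieldPSL σ :=
  ⟨fun h => mulAut_quot_ext fun s => h s (mapSL σ s) rfl,
    fun h s s' e => by rw [h, fieldPSL_mk]; congr 1; exact Subtype.ext e.symm⟩

theorem isInverseTransposeAutPSL_iff {β : MulAut (Matrix.ProjectiveSpecialLinearGroup (Fin n) F)} :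
    Cfsg.IsInverseTransposeAutPSL β ↔ β = graphPSL :=
  ⟨fun h => mulAut_quot_ext fun s => h s (invTSL s) rfl,
    fun h s s' e => by rw [h, graphPSL_mk]; congr 1; exact Subtype.ext e.symm⟩

theorem isInducedBySemilinearPSL_iff {g : GL (Fin n) F} {σ : F ≃+* F}
    {β : MulAut (Matrix.ProjectiveSpecialLinearGroup (Fin n) F)} :
    Cfsg.IsInducedBySemilinearPSL g σ β ↔ β = diagPSL g * fieldPSL σ :=
  ⟨fun h => mulAut_quot_ext fun s => h s (conjSL g (mapSL σ s)) rfl,
    fun h s s' e => by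
      rw [h, MulAut.mul_apply, fieldPSL_mk, diagPSL_mk]; congr 1; exact Subtype.ext e.symm⟩

theorem inndiagPSL_eq : Cfsg.inndiagPSL n F = (diagPSL : GL (Fin n) F →* _).range := by
  apply le_antisymm
  · apply (closure_le _).2
    intro β hβ
    obtain ⟨g, rfl⟩ := isInnerDiagonalAutPSL_iff.1 hβ
    exact ⟨g, rfl⟩
  · rintro _ ⟨g, rfl⟩
    exact subset_closure (isInnerDiagonalAutPSL_iff.2 ⟨g, rfl⟩)

theorem fin_three_ex (hn : 3 ≤ n) (i j : Fin n) : ∃ k, k ≠ i ∧ k ≠ j := by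
  by_contra h
  push Not at h
  have : (Finset.univ : Finset (Fin n)) ⊆ {i, j} := by
    intro k _
    by_cases hk : k = i
    · simp [hk]
    · simp [h k hk]
  have h2 := (Finset.card_le_card this).trans Finset.card_le_two
  simp at h2
  omega

/-- The automorphisms of `PSL_n(F)`, `n ≥ 2`, `F` finite. -/
theorem aut_psl [Finite F] (hn : 2 ≤ n)
    (β : MulAut (Matrix.ProjectiveSpecialLinearGroup (Fin n) F)) :
    ∃ (g : GL (Fin n) F) (σ : F ≃+* F), β = diagPSL g * fieldPSL σ ∨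
      (3 ≤ n ∧ β = diagPSL g * fieldPSL σ * graphPSL) := by
  rcases hn.eq_or_lt with rfl | h3
  · obtain ⟨g, σ, h⟩ := aut_psl_two β
    exact ⟨g, σ, Or.inl h⟩
  · haveI : Nonempty (Fin n) := ⟨⟨0, by omega⟩⟩
    obtain ⟨g, σ, h | h⟩ := aut_psl_three (fin_three_ex h3) β
    · exact ⟨g, σ, Or.inl h⟩
    · refine ⟨invTGL g, σ, Or.inr ⟨h3, ?_⟩⟩
      rw [mul_assoc, ← graphPSL_fieldPSL, ← mul_assoc, ← graphPSL_diagPSL, mul_assoc, ← h,
        ← mul_assoc, graphPSL_mul_self, one_mul]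

theorem diagPSL_range_normal [Finite F] (hn : 2 ≤ n) :
    (diagPSL : GL (Fin n) F →* _).range.Normal := by
  constructor
  rintro _ ⟨h, rfl⟩ β
  obtain ⟨g, σ, rfl | ⟨-, rfl⟩⟩ := aut_psl hn β
  · refine ⟨g * mapGL' σ h * g⁻¹, ?_⟩
    rw [mul_assoc (diagPSL g), fieldPSL_diagPSL, map_mul, map_mul, map_inv]
    group
  · refine ⟨g * mapGL' σ (invTGL h) * g⁻¹, ?_⟩
    rw [mul_assoc _ graphPSL, graphPSL_diagPSL, ← mul_assoc, mul_assoc (diagPSL g),
      fieldPSL_diagPSL, map_mul, map_mul, map_inv]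
    group

theorem inndiagPSL_normal [Finite F] (hn : 2 ≤ n) : (Cfsg.inndiagPSL n F).Normal :=
  inndiagPSL_eq (F := F) (n := n) ▸ diagPSL_range_normal hn

end CfsgH7
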