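import Cfsg.Agent.H7.AutAbs2
import Cfsg.Agent.H7.PSLApi
import Cfsg.Agent.H7.Herm

set_option autoImplicit false

namespace CfsgH7

open Matrix Subgroup

variable {F : Type*} [Field F] {ι : Type*} [Fintype ι] [DecidableEq ι]

theorem gnorm_mapGL' (σ : F ≃+* F) (g : GL ι F) (k : ℕ) :
    ((gnorm (mapGL' σ) g k : GL ι F) : Matrix ι ι F) = mnorm σ (g : Matrix ι ι F) k := by
  induction k with
  | zero => rfl
  | succ k ih => rw [gnorm, mnorm, Units.val_mul, mapGL'_coe, ih]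

theorem orderOf_fieldPSL [Finite F] [Nontrivial ι] (σ : F ≃+* F) :
    orderOf (fieldPSL σ : MulAut (Matrix.ProjectiveSpecialLinearGroup ι F)) = orderOf σ :=
  orderOf_injective _ fieldPSL_injective σ

theorem field_coset [Finite F] [Nontrivial ι] (σ : F ≃+* F) (g : GL ι F)
    (h : (diagPSL g * fieldPSL σ) ^ orderOf σ = 1) :
    Cfsg.IsConjUnder (diagPSL : GL ι F →* _).range (fieldPSL σ) (diagPSL g * fieldPSL σ) := by
  rw [pow_eq_gnorm diagPSL (mapGL' σ) _ (fieldPSL_diagPSL σ), ← map_pow, pow_orderOf_eq_one,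
    map_one, mul_one, diagPSL_eq_one_iff] at h
  obtain ⟨c, hc⟩ := h
  have hc0 := GL_smul_one_ne_zero hc
  rw [gnorm_mapGL'] at hc
  obtain ⟨h, a, -, e⟩ := hilbert90_PGL σ g hc0 hc
  exact conj_of_twisted diagPSL (mapGL' σ) _ (fieldPSL_diagPSL σ) (h := h)
    (diagPSL_eq_of_smul (c := a) e)

/-- the twisting map of the graph-field automorphism -/
def gfGL (σ : F ≃+* F) : GL ι F →* GL ι F := (mapGL' σ).comp invTGL

theorem gfGL_inv_coe (σ : F ≃+* F) (g : GL ι F) :
    (((gfGL σ g)⁻¹ : GL ι F) : Matrix ι ι F) = ct σ (g : Matrix ι ι F) := rfl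

theorem gfGL_coe (σ : F ≃+* F) (g : GL ι F) :
    ((gfGL σ g : GL ι F) : Matrix ι ι F) = ct σ ((g⁻¹ : GL ι F) : Matrix ι ι F) := rfl

theorem gf_diagPSL (σ : F ≃+* F) (g : GL ι F) :
    (fieldPSL σ * graphPSL) * diagPSL g = diagPSL (gfGL σ g) * (fieldPSL σ * graphPSL) := by
  rw [mul_assoc, graphPSL_diagPSL, ← mul_assoc, fieldPSL_diagPSL, mul_assoc]
  rfl

theorem gf_pow (σ : F ≃+* F) (k : ℕ) :
    ((fieldPSL σ * graphPSL) ^ k : MulAut (Matrix.ProjectiveSpecialLinearGroup ι F)) =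
      fieldPSL (σ ^ k) * graphPSL ^ k := by
  rw [Commute.mul_pow (graphPSL_fieldPSL σ).symm, map_pow]

theorem gf_order [Finite F] [Nontrivial ι] (h3 : ∀ i j : ι, ∃ k, k ≠ i ∧ k ≠ j) {σ : F ≃+* F}
    (hσ : σ ≠ 1) {r : ℕ} (hr : r.Prime)
    (h : orderOf (fieldPSL σ * graphPSL : MulAut (Matrix.ProjectiveSpecialLinearGroup ι F)) = r) :
    r = 2 ∧ orderOf σ = 2 := by
  have h1 := pow_orderOf_eq_one
    (fieldPSL σ * graphPSL : MulAut (Matrix.ProjectiveSpecialLinearGroup ι F))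
  rw [h, gf_pow] at h1
  have h2 : r = 2 := by
    rcases hr.eq_two_or_odd' with h2 | ⟨k, hk⟩
    · exact h2
    · exfalso
      rw [show (graphPSL : MulAut (Matrix.ProjectiveSpecialLinearGroup ι F)) ^ r = graphPSL by
        rw [hk, pow_succ, pow_mul, sq, graphPSL_mul_self, one_pow, one_mul],
        mul_eq_one_iff_eq_inv, graphPSL_inv] at h1
      exact diag_field_ne_graph h3 1 (σ ^ r) (by rw [map_one, one_mul, h1])
  refine ⟨h2, ?_⟩
  rw [h2, sq (graphPSL : MulAut (Matrix.ProjectiveSpecialLinearGroup ι F)), graphPSL_mul_self,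
    mul_one] at h1
  exact orderOf_eq_prime (fieldPSL_injective (ι := ι) (h1.trans (map_one _).symm)) hσ

theorem gf_coset [Finite F] [Nontrivial ι] {σ : F ≃+* F} (h2 : orderOf σ = 2) (g : GL ι F)
    (h : (diagPSL g * (fieldPSL σ * graphPSL)) ^ 2 = 1) :
    Cfsg.IsConjUnder (diagPSL : GL ι F →* _).range (fieldPSL σ * graphPSL)
      (diagPSL g * (fieldPSL σ * graphPSL)) := by
  rw [pow_eq_gnorm diagPSL (gfGL σ) _ (gf_diagPSL σ), gf_pow, ← h2, pow_orderOf_eq_one, h2,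
    sq (graphPSL : MulAut (Matrix.ProjectiveSpecialLinearGroup ι F)), graphPSL_mul_self,
    map_one, mul_one, mul_one, diagPSL_eq_one_iff] at h
  obtain ⟨c, hc⟩ := h
  have hc0 := GL_smul_one_ne_zero hc
  have e : (g : Matrix ι ι F) = c • ct σ (g : Matrix ι ι F) := by
    simp only [gnorm, map_one, mul_one, Units.val_mul] at hc
    rw [← gfGL_inv_coe, ← one_mul (((gfGL σ g)⁻¹ : GL ι F) : Matrix ι ι F), ← Matrix.smul_mul,
      ← hc, Matrix.mul_assoc, Units.mul_inv, mul_one]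
  have e2 : c * σ c = 1 := by
    have e3 := congrArg (ct σ) e
    rw [ct_smul, ct_ct h2] at e3
    rw [e3, smul_smul] at e
    have e4 := congrArg (· * ((g⁻¹ : GL ι F) : Matrix ι ι F)) e
    simp only [Matrix.smul_mul, Units.mul_inv] at e4
    obtain ⟨i⟩ := (inferInstance : Nonempty ι)
    simpa using (congrFun (congrFun e4 i) i).symm
  obtain ⟨x, hx0, hx⟩ := exists_h90_two h2 e2
  have hσx : σ x ≠ 0 := by simpa using hx0
  obtain ⟨Q, hQ, hQ1, -⟩ := herm_exists h2 (H := σ x • (g : Matrix ι ι F)) (by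
      rw [← one_mul (g : Matrix ι ι F), ← Matrix.smul_mul]
      exact (isUnit_smul_one hσx).mul g.isUnit) (by
      rw [ct_smul, invol_of_orderOf h2]
      conv_rhs => rw [e, smul_smul, mul_comm, hx])
  obtain ⟨Q, rfl⟩ := hQ
  refine conj_of_twisted diagPSL (gfGL σ) _ (gf_diagPSL σ) (h := Q)
    (diagPSL_eq_of_smul (c := (σ x)⁻¹) ?_)
  rw [Units.val_mul, ← Units.eq_mul_inv_iff_mul_eq, gfGL_inv_coe, Matrix.smul_mul, hQ1, smul_smul,
    inv_mul_cancel₀ hσx, one_smul]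

theorem card_range_units_map {F₀ : Type*} [Field F₀] [Finite F₀] (ε : F₀ →+* F) :
    Nat.card (Units.map (ε : F₀ →* F)).range = Nat.card F₀ - 1 := by
  rw [← Nat.card_units]
  exact (Nat.card_congr (MonoidHom.ofInjective
    (Units.map_injective (f := (ε : F₀ →* F)) ε.injective)).toEquiv).symm

theorem exists_GL_map_eq {F₀ : Type*} [Field F₀] (ε : F₀ →+* F) (g : GL ι F)
    (h : ∀ i j, ∃ y, ε y = (g : Matrix ι ι F) i j) :
    ∃ g₀ : GL ι F₀, Matrix.GeneralLinearGroup.map ε g₀ = g := by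
  choose M hM using h
  have e : (Matrix.of M).map ε = g := by ext i j; exact hM i j
  have hd : (Matrix.of M).det ≠ 0 := by
    intro h0
    apply g.det_ne_zero
    rw [← e, ← RingHom.mapMatrix_apply, ← RingHom.map_det, h0, map_zero]
  exact ⟨Matrix.GeneralLinearGroup.mkOfDetNeZero _ hd, Units.ext e⟩

theorem GL_map_scalar_iff {F₀ : Type*} [Field F₀] [Nonempty ι] (ε : F₀ →+* F) (g : GL ι F₀) :
    (∃ c : F, ((Matrix.GeneralLinearGroup.map ε g : GL ι F) : Matrix ι ι F) = c • 1) ↔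
      ∃ c : F₀, (g : Matrix ι ι F₀) = c • 1 := by
  constructor
  · rintro ⟨c, hc⟩
    obtain ⟨i⟩ := ‹Nonempty ι›
    have h1 : ε ((g : Matrix ι ι F₀) i i) = c := by simpa using congrFun (congrFun hc i) i
    refine ⟨(g : Matrix ι ι F₀) i i, ?_⟩
    ext j k
    apply ε.injective
    have := congrFun (congrFun hc j) k
    change ε ((g : Matrix ι ι F₀) j k) = _ at this
    rw [this, ← h1]
    simp [one_apply, apply_ite ε]
  · rintro ⟨c, hc⟩
    refine ⟨ε c, ?_⟩
    change (g : Matrix ι ι F₀).map ε = _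
    rw [hc]
    ext j k
    simp [one_apply, apply_ite ε]

/-- an element fixed projectively by a field automorphism is a scalar times a fixed one -/
theorem exists_fixed_of_map_eq_smul [Finite F] [Nonempty ι] (σ : F ≃+* F) (g : GL ι F) {c : F}
    (hc : (g : Matrix ι ι F).map σ = c • (g : Matrix ι ι F)) :
    ∃ x : F, x ≠ 0 ∧ c * σ x = x := by
  obtain ⟨i, j, hij⟩ : ∃ i j, (g : Matrix ι ι F) i j ≠ 0 := by
    by_contra h
    push Not at h
    apply g.det_ne_zero
    rw [show (g : Matrix ι ι F) = 0 from Matrix.ext h, det_zero]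
  have h1 : σ ((g : Matrix ι ι F) i j) = c * (g : Matrix ι ι F) i j := by
    simpa using congrFun (congrFun hc i) j
  have hc0 : c ≠ 0 := by
    rintro rfl
    simp [hij] at h1
  refine ⟨((g : Matrix ι ι F) i j)⁻¹, inv_ne_zero hij, ?_⟩
  rw [map_inv₀, h1]
  field_simp

/-- scalar multiple in `GL` -/
def smulGL (x : F) (hx : x ≠ 0) (g : GL ι F) : GL ι F :=
  ⟨x • (g : Matrix ι ι F), x⁻¹ • ((g⁻¹ : GL ι F) : Matrix ι ι F), by
    simp [smul_smul, hx], by simp [smul_smul, hx]⟩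

theorem smulGL_coe (x : F) (hx : x ≠ 0) (g : GL ι F) :
    (smulGL x hx g : Matrix ι ι F) = x • (g : Matrix ι ι F) := rfl

theorem field_centralizer [Finite F] [Nontrivial ι] (σ : F ≃+* F) {F₀ : Type*} [Field F₀]
    (ε : F₀ →+* F) (hε : ∀ x, σ x = x ↔ ∃ y, ε y = x) :
    (diagPSL : GL ι F →* _).range ⊓ centralizer {fieldPSL σ} =
      (Matrix.GeneralLinearGroup.map ε).range.map diagPSL := by
  ext y
  rw [mem_inf]
  constructor
  · rintro ⟨⟨g, rfl⟩, hg⟩
    rw [mem_centralizer_twisted diagPSL (mapGL' σ) _ (fieldPSL_diagPSL σ),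
      diagPSL_eq_iff] at hg
    obtain ⟨c, hc⟩ := hg
    obtain ⟨x, hx0, hx⟩ := exists_fixed_of_map_eq_smul σ g hc
    refine ⟨smulGL x hx0 g, exists_GL_map_eq ε _ fun i j => (hε _).1 ?_,
      diagPSL_eq_of_smul (c := x) rfl⟩
    have h1 : σ ((g : Matrix ι ι F) i j) = c * (g : Matrix ι ι F) i j := by
      simpa using congrFun (congrFun hc i) j
    rw [smulGL_coe, Matrix.smul_apply, smul_eq_mul, map_mul, h1, ← mul_assoc, mul_comm (σ x), hx]
  · rintro ⟨_, ⟨g, rfl⟩, rfl⟩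
    refine ⟨⟨_, rfl⟩, ?_⟩
    rw [mem_centralizer_twisted diagPSL (mapGL' σ) _ (fieldPSL_diagPSL σ)]
    congr 1
    ext i j
    exact (hε _).2 ⟨_, rfl⟩

theorem map_det_range_GL_map [Nonempty ι] {F₀ : Type*} [Field F₀] (ε : F₀ →+* F) :
    (Matrix.GeneralLinearGroup.map (n := ι) ε).range.map Matrix.GeneralLinearGroup.det =
      (Units.map (ε : F₀ →* F)).range := by
  ext y
  constructor
  · rintro ⟨_, ⟨g, rfl⟩, rfl⟩
    exact ⟨Matrix.GeneralLinearGroup.det g, (Matrix.GeneralLinearGroup.map_det ε g).symm⟩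
  · rintro ⟨c, rfl⟩
    obtain ⟨g, rfl⟩ := Matrix.GeneralLinearGroup.det_surjective (n := ι) c
    exact ⟨_, ⟨g, rfl⟩, Matrix.GeneralLinearGroup.map_det ε g⟩

theorem gf_centralizer [Finite F] {n q : ℕ} [Nontrivial (Fin n)] {σ : F ≃+* F}
    (hσ : ∀ x, σ x = x ^ q) (h2 : orderOf σ = 2) :
    (diagPSL : GL (Fin n) F →* _).range ⊓ centralizer {fieldPSL σ * graphPSL} =
      (Cfsg.GU n F q).map diagPSL := by
  ext y
  rw [mem_inf]
  constructor
  · rintro ⟨⟨g, rfl⟩, hg⟩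
    rw [mem_centralizer_twisted diagPSL (gfGL σ) _ (gf_diagPSL σ), eq_comm, diagPSL_eq_iff] at hg
    obtain ⟨c, hc⟩ := hg
    have hc0 := GL_smul_ne_zero hc
    have e : (g : Matrix (Fin n) (Fin n) F) * ct σ (g : Matrix (Fin n) (Fin n) F) = c • 1 := by
      conv_lhs => rw [← gfGL_inv_coe, hc, Matrix.smul_mul, Units.mul_inv]
    have e2 : σ c = c := by
      have e3 := congrArg (ct σ) e
      rw [ct_mul, ct_ct h2, e, ct_smul, ct_one] at e3
      obtain ⟨i⟩ := (inferInstance : Nonempty (Fin n))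
      simpa using (congrFun (congrFun e3 i) i).symm
    obtain ⟨x, hx⟩ := exists_norm_two h2 (c := c⁻¹) (by rw [map_inv₀, e2])
    have hx0 : x ≠ 0 := by
      rintro rfl
      exact inv_ne_zero hc0 (by rw [← hx, zero_mul])
    refine ⟨smulGL x hx0 g, (mem_GU_iff' hσ _).2 ?_, diagPSL_eq_of_smul (c := x) rfl⟩
    rw [smulGL_coe, ct_smul, Matrix.smul_mul, Matrix.mul_smul, e, smul_smul, smul_smul, hx,
      inv_mul_cancel₀ hc0, one_smul]
  · rintro ⟨g, hg, rfl⟩
    refine ⟨⟨_, rfl⟩, ?_⟩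
    rw [mem_centralizer_twisted diagPSL (gfGL σ) _ (gf_diagPSL σ)]
    congr 1
    rw [← _root_.inv_inj, eq_comm, inv_eq_iff_mul_eq_one]
    apply Units.ext
    rw [Units.val_mul, gfGL_inv_coe]
    exact (mem_GU_iff' hσ _).1 hg

theorem map_det_GU {n q : ℕ} [Nonempty (Fin n)] {σ : F ≃+* F} (hσ : ∀ x, σ x = x ^ q) :
    (Cfsg.GU n F q).map Matrix.GeneralLinearGroup.det =
      (powMonoidHom (q + 1) : Fˣ →* Fˣ).ker := by
  ext y
  rw [MonoidHom.mem_ker, powMonoidHom_apply]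
  constructor
  · rintro ⟨g, hg, rfl⟩
    have := congrArg Matrix.det ((mem_GU_iff hσ _).1 hg)
    rw [det_mul, det_ct, det_one, hσ, ← pow_succ] at this
    apply Units.ext
    simpa using this
  · intro hy
    obtain ⟨i⟩ := (inferInstance : Nonempty (Fin n))
    have hy' : σ y * y = 1 := by
      rw [hσ, ← pow_succ]
      exact congrArg Units.val hy
    have hd : (diagonal (Function.update (1 : Fin n → F) i y)).det = y := by
      rw [det_diagonal, Finset.prod_update_of_mem (Finset.mem_univ i)]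
      simp
    refine ⟨Matrix.GeneralLinearGroup.mkOfDetNeZero (diagonal (Function.update (1 : Fin n → F) i y))
      (by rw [hd]; exact y.ne_zero), (mem_GU_iff hσ _).2 ?_, Units.ext hd⟩
    change ct σ (diagonal (Function.update (1 : Fin n → F) i y)) * diagonal (Function.update (1 : Fin n → F) i y) = 1
    rw [ct_apply, diagonal_map (map_zero σ), diagonal_transpose, diagonal_mul_diagonal,
      ← diagonal_one]
    congr 1
    ext j
    by_cases hj : j = i
    · subst hj; simp [hy']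
    · simp [hj]

theorem card_ker_pow_units [Fintype F] {q : ℕ} (hq : Fintype.card F = q ^ 2) :
    Nat.card (powMonoidHom (q + 1) : Fˣ →* Fˣ).ker = q + 1 := by
  rw [IsCyclic.card_powMonoidHom_ker, Nat.card_units, Nat.card_eq_fintype_card, hq]
  apply Nat.gcd_eq_right
  rw [show q ^ 2 - 1 = q ^ 2 - 1 ^ 2 by simp, Nat.sq_sub_sq]
  exact dvd_mul_right _ _

theorem aut_conj_gf [Finite F] {n : ℕ} (hn : 2 ≤ n) (σ : F ≃+* F)
    (γ : MulAut (Matrix.ProjectiveSpecialLinearGroup (Fin n) F)) :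
    Cfsg.IsConjUnder (diagPSL : GL (Fin n) F →* _).range (fieldPSL σ * graphPSL)
      (γ * (fieldPSL σ * graphPSL) * γ⁻¹) := by
  have h1 : ∀ τ : F ≃+* F, Commute (fieldPSL τ : MulAut (Matrix.ProjectiveSpecialLinearGroup
      (Fin n) F)) (fieldPSL σ * graphPSL) := fun τ =>
    Commute.mul_right (by change _ * _ = _ * _; rw [← map_mul, ← map_mul, ringAut_comm])
      (graphPSL_fieldPSL τ).symm
  have h2 : Commute (graphPSL : MulAut (Matrix.ProjectiveSpecialLinearGroup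
      (Fin n) F)) (fieldPSL σ * graphPSL) :=
    Commute.mul_right (graphPSL_fieldPSL σ) (Commute.refl _)
  obtain ⟨g, τ, rfl | ⟨-, rfl⟩⟩ := aut_psl hn γ
  · refine ⟨diagPSL g, ⟨g, rfl⟩, ?_⟩
    rw [mul_assoc (diagPSL g), (h1 τ).eq]
    group
  · refine ⟨diagPSL g, ⟨g, rfl⟩, ?_⟩
    rw [mul_assoc (diagPSL g), mul_assoc (diagPSL g), ((h1 τ).mul_left h2).eq]
    group

end CfsgH7
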