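import Cfsg.Agent.H7.PolarMat

set_option autoImplicit false

namespace CfsgH7

open Subgroup Matrix

variable {K : Type*} [Field K] {n q : ℕ}

theorem hermForm_map (τ : K ≃+* K) (u v : Fin n → K) :
    Cfsg.hermForm n K q (τ ∘ u) (τ ∘ v) = τ (Cfsg.hermForm n K q u v) := by
  simp [Cfsg.hermForm]

theorem map_preserves (τ : K ≃+* K) {M : Matrix (Fin n) (Fin n) K}
    (h : ∀ u v, Cfsg.hermForm n K q (M *ᵥ u) (M *ᵥ v) = Cfsg.hermForm n K q u v) (u v : Fin n → K) :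
    Cfsg.hermForm n K q (M.map τ *ᵥ u) (M.map τ *ᵥ v) = Cfsg.hermForm n K q u v := by
  obtain ⟨u, rfl⟩ := τ.surjective.comp_left u
  obtain ⟨v, rfl⟩ := τ.surjective.comp_left v
  simp only
  rw [← map_mulVec_comp, ← map_mulVec_comp, hermForm_map, hermForm_map, h]

/-- conjugation of `SU` by `GU` -/
def conjSU : Cfsg.GU n K q →* MulAut (Cfsg.SU n K q) :=
  restrAut (conjSL.comp (Cfsg.GU n K q).subtype) _ (fun g s hs u v => by
    change Cfsg.hermForm n K q 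
      (((g.1 : Matrix (Fin n) (Fin n) K) * s.1 * ((g.1⁻¹ : GL (Fin n) K) : Matrix _ _ K)) *ᵥ u)
      (((g.1 : Matrix (Fin n) (Fin n) K) * s.1 * ((g.1⁻¹ : GL (Fin n) K) : Matrix _ _ K)) *ᵥ v) = _
    simp only [← mulVec_mulVec]
    exact (g.2 _ _).trans ((hs _ _).trans ((inv_mem g.2) u v)))

theorem conjSU_coe (g : Cfsg.GU n K q) (s : Cfsg.SU n K q) :
    ((conjSU g s).1 : Matrix (Fin n) (Fin n) K) =
      (g.1 : Matrix (Fin n) (Fin n) K) * s.1 * (g.1⁻¹ : GL (Fin n) K) := rfl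

/-- field automorphisms of `SU` -/
def mapSU : (K ≃+* K) →* MulAut (Cfsg.SU n K q) :=
  restrAut mapSL _ (fun τ _ hs => map_preserves τ hs)

theorem mapSU_coe (τ : K ≃+* K) (s : Cfsg.SU n K q) :
    ((mapSU τ s).1 : Matrix (Fin n) (Fin n) K) = (s.1 : Matrix (Fin n) (Fin n) K).map τ := rfl

/-- field automorphisms of `GU` -/
def mapGU (τ : K ≃+* K) : Cfsg.GU n K q →* Cfsg.GU n K q :=
  ((mapGL' τ).comp (Cfsg.GU n K q).subtype).codRestrict _ (fun g => map_preserves τ g.2)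

theorem mapGU_coe (τ : K ≃+* K) (g : Cfsg.GU n K q) : (mapGU τ g).1 = mapGL' τ g.1 := rfl

/-- inner-diagonal automorphisms of `PSU` -/
def diagPSU : Cfsg.GU n K q →* MulAut (Cfsg.PSU n K q) := (autQuot _).comp conjSU

/-- field automorphisms of `PSU` -/
def fieldPSU : (K ≃+* K) →* MulAut (Cfsg.PSU n K q) := (autQuot _).comp mapSU

theorem diagPSU_mk (g : Cfsg.GU n K q) (s : Cfsg.SU n K q) :
    diagPSU g (QuotientGroup.mk s) = QuotientGroup.mk (conjSU g s) := rfl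

theorem fieldPSU_mk (τ : K ≃+* K) (s : Cfsg.SU n K q) :
    fieldPSU τ (QuotientGroup.mk s) = QuotientGroup.mk (mapSU τ s) := rfl

theorem fieldPSU_diagPSU (τ : K ≃+* K) (g : Cfsg.GU n K q) :
    fieldPSU τ * diagPSU g = diagPSU (mapGU τ g) * fieldPSU τ := by
  simp only [fieldPSU, diagPSU, MonoidHom.comp_apply, ← map_mul]
  congr 1
  refine MulEquiv.ext fun s => Subtype.ext ?_
  exact MulEquiv.congr_fun (mapSL_conjSL τ g.1) s.1

theorem isInnerDiagonalAutPSU_iff {β : MulAut (Cfsg.PSU n K q)} :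
    Cfsg.IsInnerDiagonalAutPSU β ↔ ∃ g, β = diagPSU g :=
  ⟨fun ⟨g, hg, h⟩ => ⟨⟨g, hg⟩, mulAut_quot_ext fun s => h s (conjSU ⟨g, hg⟩ s) rfl⟩,
    fun ⟨g, h⟩ => ⟨g.1, g.2, fun s s' e => by
      rw [h, diagPSU_mk]; congr 1; exact Subtype.ext (Subtype.ext e.symm)⟩⟩

theorem isFieldAutPSUOf_iff {σ : K ≃+* K} {β : MulAut (Cfsg.PSU n K q)} :
    Cfsg.IsFieldAutPSUOf σ β ↔ β = fieldPSU σ :=
  ⟨fun h => mulAut_quot_ext fun s => h s (mapSU σ s) rfl,
    fun h s s' e => by rw [h, fieldPSU_mk]; congr 1; exact Subtype.ext (Subtype.ext e.symm)⟩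

theorem isInducedBySemilinearPSU_iff {g : Cfsg.GU n K q} {σ : K ≃+* K}
    {β : MulAut (Cfsg.PSU n K q)} :
    Cfsg.IsInducedBySemilinearPSU g.1 σ β ↔ β = diagPSU g * fieldPSU σ :=
  ⟨fun h => mulAut_quot_ext fun s => h s (conjSU g (mapSU σ s)) rfl,
    fun h s s' e => by
      rw [h, MulAut.mul_apply, fieldPSU_mk, diagPSU_mk]; congr 1
      exact Subtype.ext (Subtype.ext e.symm)⟩

theorem inndiagPSU_eq : Cfsg.inndiagPSU n K q = (diagPSU : Cfsg.GU n K q →* _).range := by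
  apply le_antisymm
  · apply (closure_le _).2
    intro β hβ
    obtain ⟨g, rfl⟩ := isInnerDiagonalAutPSU_iff.1 hβ
    exact ⟨g, rfl⟩
  · rintro _ ⟨g, rfl⟩
    exact subset_closure (isInnerDiagonalAutPSU_iff.2 ⟨g, rfl⟩)

/-- inclusion of `SU` in `GU` -/
def suToGU : Cfsg.SU n K q →* Cfsg.GU n K q :=
  (Matrix.SpecialLinearGroup.toGL.comp (Cfsg.SU n K q).subtype).codRestrict _ (fun s => s.2)

theorem suToGU_coe (s : Cfsg.SU n K q) :
    ((suToGU s).1 : Matrix (Fin n) (Fin n) K) = s.1 := rfl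

theorem diagPSU_suToGU (s : Cfsg.SU n K q) :
    diagPSU (suToGU s) = MulAut.conj (QuotientGroup.mk s : Cfsg.PSU n K q) := by
  apply mulAut_quot_ext
  intro t
  rw [diagPSU_mk]
  exact congrArg QuotientGroup.mk (Subtype.ext (conjSL_toGL s.1 t.1) : _ = s * t * s⁻¹)

theorem inn_le_diagPSU_range :
    Cfsg.Inn (Cfsg.PSU n K q) ≤ (diagPSU : Cfsg.GU n K q →* _).range := by
  rintro _ ⟨s, rfl⟩
  obtain ⟨s, rfl⟩ := QuotientGroup.mk_surjective s
  exact ⟨_, diagPSU_suToGU s⟩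

theorem diagPSU_scalar {g : Cfsg.GU n K q} {c : K} (e : (g.1 : Matrix (Fin n) (Fin n) K) = c • 1) :
    diagPSU g = 1 := by
  apply mulAut_quot_ext
  intro s
  rw [diagPSU_mk]
  congr 1
  refine Subtype.ext (Subtype.ext ?_)
  rw [conjSU_coe, e, Matrix.smul_mul, one_mul, Matrix.smul_mul, ← Matrix.mul_smul, ← one_mul
    ((g.1⁻¹ : GL (Fin n) K) : Matrix (Fin n) (Fin n) K), ← Matrix.smul_mul, ← e, Units.mul_inv,
    mul_one]

theorem diagPSU_eq_of_smul {g h : Cfsg.GU n K q} {c : K}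
    (e : (g.1 : Matrix (Fin n) (Fin n) K) = c • (h.1 : Matrix (Fin n) (Fin n) K)) :
    diagPSU g = diagPSU h := by
  have : diagPSU (g * h⁻¹) = 1 := diagPSU_scalar (c := c) (by
    rw [coe_mul, coe_inv, Units.val_mul, e, Matrix.smul_mul, Units.mul_inv])
  rwa [map_mul, map_inv, mul_inv_eq_one] at this

theorem exists_polarSU [Finite K] {σ : K ≃+* K} (hσ : ∀ x, σ x = x ^ q) (h2 : orderOf σ = 2)
    (hn : 2 ≤ n) : ∃ P : Polar K (Fin n → K) (Cfsg.SU n K q), P.σ = σ ∧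
      (∃ θ, θ ≠ 0 ∧ σ θ = -θ ∧ ∀ u v, P.B u v = θ * Cfsg.hermForm n K q u v) ∧
      ∀ g v, P.ρ g v = (g.1 : Matrix (Fin n) (Fin n) K) *ᵥ v := by
  obtain ⟨θ₀, hθ⟩ := exists_ne_of_orderOf h2
  have hσσ := invol_of_orderOf h2
  have hσθ : σ (θ₀ - σ θ₀) = -(θ₀ - σ θ₀) := by rw [map_sub, hσσ, neg_sub]
  have hc0 : ∀ b, σ b = -b → ∃ c, b + c - σ c = 0 := by
    intro b hb
    refine ⟨-b / (θ₀ - σ θ₀) * θ₀, ?_⟩
    rw [map_mul, map_div₀, map_neg, hb, hσθ]
    field_simp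
    ring
  generalize θ₀ - σ θ₀ = θ at hθ hσθ
  obtain ⟨i, hi⟩ := exists_norm_two h2 (c := -1) (by simp)
  obtain ⟨c, hc⟩ := hc0 (-θ⁻¹) (by rw [map_neg, map_inv₀, hσθ]; simp)
  have hskew : ∀ u v : Fin n → K, θ * (v ⬝ᵥ (σ ∘ u)) = -σ (θ * (u ⬝ᵥ (σ ∘ v))) := by
    intro u v
    simp [hσθ, dotProduct, hσσ, mul_comm]
  let a : Fin n := ⟨0, by omega⟩
  let b : Fin n := ⟨1, by omega⟩
  have hab : a ≠ b := by simp [a, b]
  have hs : ∀ (j : Fin n) (x : K), σ ∘ (Pi.single j x : Fin n → K) = Pi.single j (σ x) := by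
    intro j x
    ext k
    simp [Pi.single_apply, apply_ite σ]
  have hadd : ∀ u v : Fin n → K, σ ∘ (u + v) = σ ∘ u + σ ∘ v := fun u v => by ext; simp
  let P : Polar K (Fin n → K) (Cfsg.SU n K q) :=
    { σ := σ
      σσ := hσσ
      B := fun u v => θ * (u ⬝ᵥ (σ ∘ v))
      add_left := fun u v w => by rw [add_dotProduct, mul_add]
      smul_left := fun k u v => by rw [smul_dotProduct, smul_eq_mul, mul_left_comm]
      skew := hskew
      nondeg := fun u h => by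
        ext j
        simpa [hs, hθ] using h (Pi.single j 1)
      ρ := (Matrix.toLinAlgEquiv' (R := K) (n := Fin n)).toMulEquiv.toMonoidHom.comp
        ((Cfsg.slToMat n K).comp (Cfsg.SU n K q).subtype)
      inj := fun g h e => Subtype.ext (Subtype.ext ((Matrix.toLinAlgEquiv' (R := K) (n := Fin n)).injective e))
      isom := fun g u v => by
        rw [← hermForm_eq hσ, ← hermForm_eq hσ]
        exact congrArg _ (g.2 u v)
      e := Pi.single a 1 + Pi.single b i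
      f := Pi.single a (c - θ⁻¹) + Pi.single b (c * i)
      he := by simp [hadd, hs, hab, hab.symm, hi]
      hf := by
        simp only [hadd, hs, add_dotProduct, dotProduct_add, single_dotProduct, Pi.single_apply,
          hab, hab.symm, if_true, if_false, map_sub, map_mul, map_inv₀, hσθ]
        field_simp at hc ⊢
        linear_combination (θ ^ 2 * c * σ c) * hi + hc
      hef := by
        simp only [hadd, hs, add_dotProduct, dotProduct_add, single_dotProduct, Pi.single_apply,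
          hab, hab.symm, if_true, if_false, map_sub, map_mul, map_inv₀, hσθ]
        field_simp
        linear_combination (θ * σ c) * hi
      hc := fun w => hc0 _ (by rw [hskew w w, map_neg, hσσ, ← hskew])
      fin := inferInstance
      mem := fun T h1 h2 => ⟨⟨⟨LinearMap.toMatrix' T, by rw [LinearMap.det_toMatrix', h2]⟩,
        fun u v => by
          change Cfsg.hermForm n K q (LinearMap.toMatrix' T *ᵥ u) (LinearMap.toMatrix' T *ᵥ v) = _
          rw [LinearMap.toMatrix'_mulVec, LinearMap.toMatrix'_mulVec, hermForm_eq hσ,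
            hermForm_eq hσ]
          exact mul_left_cancel₀ hθ (h1 u v)⟩, Matrix.toLin'_toMatrix' T⟩ }
  exact ⟨P, rfl, ⟨θ, hθ, hσθ, fun u v => by rw [hermForm_eq hσ]⟩, fun g v => rfl⟩

theorem diag_field_eq_one_SU [Fintype K] (hK : Fintype.card K = q ^ 2) (hn : 3 ≤ n)
    {g : Cfsg.GU n K q} {τ : K ≃+* K} (h : diagPSU g * fieldPSU τ = 1) :
    τ = 1 ∧ ∃ c : K, (g.1 : Matrix (Fin n) (Fin n) K) = c • 1 := by
  obtain ⟨σ, hσ, h2⟩ := exists_qfrob hK
  obtain ⟨P, -, -, hρ⟩ := exists_polarSU (n := n) hσ h2 (by omega)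
  haveI := Polar.nontrivial_W (P := P) (by simp; omega)
  exact Polar.rigid_matrix hρ fun s => ⟨conjSU g (mapSU τ s), rfl, MulEquiv.congr_fun h (QuotientGroup.mk s)⟩

theorem exists_cube_ne [Fintype K] (hK : Fintype.card K = q ^ 2) (hq : q ≠ 2) :
    ∃ μ : K, (μ ^ 3) ^ q ≠ μ ^ 3 := by
  obtain ⟨g, hg⟩ := IsCyclic.exists_ofOrder_eq_natCard (α := Kˣ)
  refine ⟨g, fun h => ?_⟩
  have h1 : 1 < q ^ 2 := hK ▸ Fintype.one_lt_card
  have hq1 : 2 ≤ q := by
    by_contra hc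
    have : q = 0 ∨ q = 1 := by omega
    rcases this with rfl | rfl <;> simp at h1
  obtain ⟨r, rfl⟩ : ∃ r, q = r + 1 := ⟨q - 1, by omega⟩
  have h2 : g ^ (3 * r) = 1 := by
    apply Units.ext
    rw [pow_succ, ← pow_mul] at h
    simpa using mul_right_cancel₀ (pow_ne_zero 3 g.ne_zero) (h.trans (one_mul _).symm)
  have h3 := Nat.le_of_dvd (by omega) (orderOf_dvd_of_pow_eq_one h2)
  rw [hg, Nat.card_units, Nat.card_eq_fintype_card, hK] at h3
  have : (r + 1) ^ 2 = r * (r + 2) + 1 := by ring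
  rw [this, Nat.add_sub_cancel, mul_comm 3] at h3
  have := Nat.le_of_mul_le_mul_left h3 (by omega)
  omega

/-- The automorphisms of `PSU_n(q)`. -/
theorem aut_psu [Fintype K] (hK : Fintype.card K = q ^ 2) (hn : 3 ≤ n) (hs : ¬ (n = 3 ∧ q = 2))
    (β : MulAut (Cfsg.PSU n K q)) :
    ∃ (g : Cfsg.GU n K q) (τ : K ≃+* K), β = diagPSU g * fieldPSU τ := by
  obtain ⟨σ, hσ, h2⟩ := exists_qfrob hK
  obtain ⟨P, hP, ⟨θ, hθ, hσθ, hB⟩, hρ⟩ := exists_polarSU (n := n) hσ h2 (by omega)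
  subst hP
  obtain ⟨M, α, m, hm0, hm1, h1, h3⟩ := (Polar.aut_unitary (P := P) h2 (by simp; omega) (by
    by_cases hq : q = 2
    · right
      simp only [Module.finrank_fintype_fun_eq_card, Fintype.card_fin]
      omega
    · left
      simpa only [hσ] using exists_cube_ne hK hq) β).matrix hρ
  obtain ⟨x, hx⟩ := exists_norm_two h2 (c := θ / (m * α θ)) (by
    rw [map_div₀, map_mul, hm1, ringAut_comm_apply, hσθ, map_neg, mul_neg, neg_div_neg_eq])
  have hαθ : α θ ≠ 0 := by simpa using hθ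
  have hx0 : x ≠ 0 := by
    rintro rfl
    exact div_ne_zero hθ (mul_ne_zero hm0 hαθ) (by rw [← hx, zero_mul])
  refine ⟨⟨smulGL x hx0 M, fun u v => ?_⟩, α, isInducedBySemilinearPSU_iff.1 fun s s' e => h3 s s' ?_⟩
  · obtain ⟨u, rfl⟩ := α.surjective.comp_left u
    obtain ⟨v, rfl⟩ := α.surjective.comp_left v
    have := h1 u v
    change Cfsg.hermForm n K q ((x • (M : Matrix (Fin n) (Fin n) K)) *ᵥ (α ∘ u))
      ((x • (M : Matrix (Fin n) (Fin n) K)) *ᵥ (α ∘ v)) = Cfsg.hermForm n K q (α ∘ u) (α ∘ v)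
    apply mul_left_cancel₀ hθ
    rw [← hB, smul_mulVec, smul_mulVec, P.smul_left, P.smul_right, ← mul_assoc, hx, h1, hB,
      hermForm_map, map_mul]
    field_simp
  · rw [e]
    change x • (M : Matrix (Fin n) (Fin n) K) * _ * x⁻¹ • ((M⁻¹ : GL (Fin n) K) : Matrix _ _ K) = _
    simp [smul_smul, hx0]

theorem diagPSU_eq_one_iff [Fintype K] (hK : Fintype.card K = q ^ 2) (hn : 3 ≤ n)
    {g : Cfsg.GU n K q} : diagPSU g = 1 ↔ ∃ c : K, (g.1 : Matrix (Fin n) (Fin n) K) = c • 1 :=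
  ⟨fun h => (diag_field_eq_one_SU hK hn (τ := 1) (by rw [map_one, mul_one, h])).2,
    fun ⟨_, hc⟩ => diagPSU_scalar hc⟩

theorem diagPSU_eq_iff [Fintype K] (hK : Fintype.card K = q ^ 2) (hn : 3 ≤ n)
    {g h : Cfsg.GU n K q} : diagPSU g = diagPSU h ↔
      ∃ c : K, (g.1 : Matrix (Fin n) (Fin n) K) = c • (h.1 : Matrix (Fin n) (Fin n) K) := by
  refine ⟨fun e => ?_, fun ⟨_, hc⟩ => diagPSU_eq_of_smul hc⟩
  rw [← mul_inv_eq_one, ← map_inv, ← map_mul, diagPSU_eq_one_iff hK hn] at e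
  obtain ⟨c, hc⟩ := e
  refine ⟨c, ?_⟩
  rw [coe_mul, coe_inv, Units.val_mul, Units.mul_inv_eq_iff_eq_mul, Matrix.smul_mul, one_mul] at hc
  exact hc

theorem fieldPSU_injective [Fintype K] (hK : Fintype.card K = q ^ 2) (hn : 3 ≤ n) :
    Function.Injective (fieldPSU : (K ≃+* K) →* MulAut (Cfsg.PSU n K q)) :=
  (injective_iff_map_eq_one _).2 fun σ h =>
    (diag_field_eq_one_SU hK hn (g := 1) (by rw [map_one, one_mul, h])).1

theorem diag_field_unique_SU [Fintype K] (hK : Fintype.card K = q ^ 2) (hn : 3 ≤ n)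
    {g h : Cfsg.GU n K q} {σ τ : K ≃+* K}
    (e : diagPSU g * fieldPSU σ = diagPSU h * fieldPSU τ) : σ = τ := by
  have : diagPSU (h⁻¹ * g) * fieldPSU (σ * τ⁻¹) = 1 := by
    rw [map_mul, map_mul, map_inv, map_inv, mul_assoc, ← mul_assoc (diagPSU g), e]
    group
  exact mul_inv_eq_one.1 (diag_field_eq_one_SU hK hn this).1

theorem diagPSU_range_normal [Fintype K] (hK : Fintype.card K = q ^ 2) (hn : 3 ≤ n)
    (hs : ¬ (n = 3 ∧ q = 2)) : (diagPSU : Cfsg.GU n K q →* _).range.Normal := by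
  constructor
  rintro _ ⟨h, rfl⟩ β
  obtain ⟨g, σ, rfl⟩ := aut_psu hK hn hs β
  refine ⟨g * mapGU σ h * g⁻¹, ?_⟩
  rw [mul_assoc (diagPSU g), fieldPSU_diagPSU, map_mul, map_mul, map_inv]
  group

/-- the norm one group -/
abbrev NormOne (K : Type*) [Field K] (q : ℕ) : Subgroup Kˣ := (powMonoidHom (q + 1) : Kˣ →* Kˣ).ker

theorem det_mem_normOne [Fintype K] (hK : Fintype.card K = q ^ 2) (g : Cfsg.GU n K q) :
    Matrix.GeneralLinearGroup.det g.1 ∈ NormOne K q := by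
  obtain ⟨σ, hσ, -⟩ := exists_qfrob hK
  have := congrArg Matrix.det ((mem_GU_iff hσ _).1 g.2)
  rw [det_mul, det_ct, det_one, hσ, ← pow_succ] at this
  apply Units.ext
  simpa using this

/-- the determinant on `GU` -/
def detGU [Fintype K] (hK : Fintype.card K = q ^ 2) : Cfsg.GU n K q →* NormOne K q :=
  (Matrix.GeneralLinearGroup.det.comp (Cfsg.GU n K q).subtype).codRestrict _ (det_mem_normOne hK)

theorem detGU_coe [Fintype K] (hK : Fintype.card K = q ^ 2) (g : Cfsg.GU n K q) :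
    ((detGU hK g).1 : K) = (g.1 : Matrix (Fin n) (Fin n) K).det := rfl

theorem detGU_surjective [Fintype K] (hK : Fintype.card K = q ^ 2) [Nonempty (Fin n)] :
    Function.Surjective (detGU (n := n) hK) := by
  obtain ⟨σ, hσ, -⟩ := exists_qfrob hK
  rintro ⟨y, hy⟩
  obtain ⟨g, hg, rfl⟩ : y ∈ (Cfsg.GU n K q).map Matrix.GeneralLinearGroup.det := by
    rw [map_det_GU hσ]; exact hy
  exact ⟨⟨g, hg⟩, rfl⟩

theorem smul_mem_GU_iff {σ : K ≃+* K} (hσ : ∀ x, σ x = x ^ q) [Nonempty (Fin n)] {g : GL (Fin n) K}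
    (hg : g ∈ Cfsg.GU n K q) {c : K} (hc : c ≠ 0) :
    smulGL c hc g ∈ Cfsg.GU n K q ↔ c ^ (q + 1) = 1 := by
  rw [mem_GU_iff hσ] at hg ⊢
  rw [smulGL_coe, ct_smul, Matrix.smul_mul, Matrix.mul_smul, hg, smul_smul, hσ, ← pow_succ]
  constructor
  · intro h
    obtain ⟨i⟩ := ‹Nonempty (Fin n)›
    simpa using congrFun (congrFun h i) i
  · intro h
    rw [h, one_smul]

theorem norm_of_smul_GU [Fintype K] (hK : Fintype.card K = q ^ 2) [Nonempty (Fin n)]
    {g h : Cfsg.GU n K q} {c : K}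
    (e : (g.1 : Matrix (Fin n) (Fin n) K) = c • (h.1 : Matrix (Fin n) (Fin n) K)) :
    c ^ (q + 1) = 1 := by
  obtain ⟨σ, hσ, -⟩ := exists_qfrob hK
  rw [← smul_mem_GU_iff hσ h.2 (GL_smul_ne_zero e)]
  convert g.2 using 1
  exact Units.ext e.symm

theorem diagPSU_mem_inn_iff [Fintype K] (hK : Fintype.card K = q ^ 2) (hn : 3 ≤ n)
    {g : Cfsg.GU n K q} : diagPSU g ∈ Cfsg.Inn (Cfsg.PSU n K q) ↔
      detGU hK g ∈ (powMonoidHom n : NormOne K q →* NormOne K q).range := by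
  haveI : Nonempty (Fin n) := ⟨⟨0, by omega⟩⟩
  constructor
  · rintro ⟨s, hs⟩
    obtain ⟨s, rfl⟩ := QuotientGroup.mk_surjective s
    rw [← diagPSU_suToGU] at hs
    obtain ⟨c, hc⟩ := (diagPSU_eq_iff hK hn).1 hs.symm
    refine ⟨⟨Units.mk0 c (GL_smul_ne_zero hc), Units.ext ?_⟩, Subtype.ext (Units.ext ?_)⟩
    · simpa using norm_of_smul_GU hK hc
    · rw [detGU_coe, hc, suToGU_coe]
      simp
  · rintro ⟨⟨c, hc1⟩, hc⟩
    obtain ⟨σ, hσ, -⟩ := exists_qfrob hK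
    have hc' : (c : K) ^ n = (g.1 : Matrix (Fin n) (Fin n) K).det :=
      congrArg (fun x : NormOne K q => (x.1 : K)) hc
    have h1 : smulGL _ (inv_ne_zero c.ne_zero) g.1 ∈ Cfsg.GU n K q := by
      rw [smul_mem_GU_iff hσ g.2, inv_pow, inv_eq_one]
      exact congrArg Units.val hc1
    let s : Cfsg.SU n K q := ⟨⟨(c : K)⁻¹ • (g.1 : Matrix (Fin n) (Fin n) K), by
      rw [det_smul, ← hc', inv_pow, Fintype.card_fin,
        inv_mul_cancel₀ (pow_ne_zero _ c.ne_zero)]⟩, h1⟩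
    refine ⟨QuotientGroup.mk s, ?_⟩
    rw [← diagPSU_suToGU]
    exact diagPSU_eq_of_smul (c := (c : K)⁻¹) rfl

end CfsgH7
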