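import Mathlib

set_option autoImplicit false

namespace CfsgH7

/-- A bijection normalising an affine group with irreducible point stabiliser is additive. -/
theorem affine_additive {W : Type*} [AddCommGroup W] [Finite W] {p : ℕ} [Fact p.Prime]
    (hp : ∀ w : W, p • w = 0) (τ : W ≃ W) (h0 : τ 0 = 0)
    (h1 : ∀ w, ∃ l : W →+ W, ∀ x, τ (w + x) = τ w + l (τ x))
    (L : Set (W →+ W))
    (h2 : ∀ a ∈ L, Function.Surjective a ∧ ∃ a' : W →+ W, ∀ x, a (τ x) = τ (a' x))
    (hirr : ∀ U : AddSubgroup W, (∀ a ∈ L, ∀ w ∈ U, a w ∈ U) → U = ⊥ ∨ U = ⊤) (x y : W) :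
    τ (x + y) = τ x + τ y := by
  rcases subsingleton_or_nontrivial W with hW | hW
  · exact Subsingleton.elim _ _
  choose l hl using h1
  have hl0 : ∀ y, l 0 y = y := by
    intro y
    obtain ⟨x, rfl⟩ := τ.surjective y
    have := hl 0 x
    rw [zero_add, h0, zero_add] at this
    exact this.symm
  have hlm : ∀ w w' y, l (w + w') y = l w (l w' y) := by
    intro w w' y
    obtain ⟨x, rfl⟩ := τ.surjective y
    have e1 := hl (w + w') x
    rw [add_assoc, hl w, hl w', hl w, map_add, add_assoc, add_right_inj, add_right_inj] at e1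
    exact e1.symm
  letI : MulAction (Multiplicative W) W :=
    { smul := fun w y => l w.toAdd y
      one_smul := hl0
      mul_smul := fun w w' y => hlm _ _ y }
  have hP : IsPGroup p (Multiplicative W) := fun g => ⟨1, by
    rw [pow_one]
    exact hp g.toAdd⟩
  have hcard : p ∣ Nat.card W := by
    obtain ⟨n, hn, hc⟩ := hP.nontrivial_iff_card.1 inferInstance
    rw [show Nat.card W = Nat.card (Multiplicative W) from rfl, hc]
    exact dvd_pow_self _ hn.ne'
  obtain ⟨z, hz, hz0⟩ := hP.exists_fixed_point_of_prime_dvd_card_of_fixed_point W hcard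
    (a := 0) (fun g => map_zero (l g.toAdd))
  let U : AddSubgroup W :=
    { carrier := {y | ∀ w, l w y = y}
      zero_mem' := fun w => map_zero _
      add_mem' := fun {a b} ha hb w => by rw [map_add, ha w, hb w]
      neg_mem' := fun {a} ha w => by rw [map_neg, ha w] }
  have hU : ∀ v, τ v ∈ U ↔ ∀ x, τ (x + v) = τ x + τ v := by
    intro v
    refine forall_congr' fun x => ?_
    rw [hl, add_right_inj]
  rcases hirr U (by
      intro a ha w hw
      obtain ⟨hs, a', ha'⟩ := h2 a ha
      obtain ⟨v, rfl⟩ := τ.surjective w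
      rw [ha', hU]
      intro x
      obtain ⟨x₁, hx₁⟩ := hs (τ x)
      obtain ⟨x₁, rfl⟩ := τ.surjective x₁
      rw [ha'] at hx₁
      rw [← τ.injective hx₁, ← map_add, ← ha', (hU v).1 hw, map_add, ha', ha']) with h | h
  · exact absurd ((AddSubgroup.eq_bot_iff_forall _).1 h z fun w => hz (Multiplicative.ofAdd w)) hz0.symm
  · exact (hU y).1 (h ▸ AddSubgroup.mem_top _) x

/-- The additive centraliser of an irreducible set of linear maps containing a homology is the
field of scalars. -/
theorem scalar_of_commute {K W : Type*} [Field K] [AddCommGroup W] [Module K W] [Finite W]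
    (L : Set (W →ₗ[K] W))
    (hirr : ∀ U : AddSubgroup W, (∀ a ∈ L, ∀ w ∈ U, a w ∈ U) → U = ⊥ ∨ U = ⊤)
    (hrk : ∃ a ∈ L, ∃ (μ : K) (x : W), (∀ y, ∃ c : K, a y - μ • y = c • x) ∧ ∃ y, a y - μ • y ≠ 0)
    (ψ : W →+ W) (hψ : ∀ a ∈ L, ∀ w, ψ (a w) = a (ψ w)) : ∃ c : K, ∀ w, ψ w = c • w := by
  obtain ⟨a, ha, μ, x, hx, y, hy⟩ := hrk
  let D : Subring (AddMonoid.End W) :=
    { carrier := {φ | ∀ a ∈ L, ∀ w, φ (a w) = a (φ w)}
      mul_mem' := fun {φ φ'} h h' a ha w => by
        change φ (φ' (a w)) = a (φ (φ' w))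
        rw [h' a ha, h a ha]
      one_mem' := fun a ha w => rfl
      add_mem' := fun {φ φ'} h h' a ha w => by
        change φ (a w) + φ' (a w) = a (φ w + φ' w)
        rw [h' a ha, h a ha, map_add]
      zero_mem' := fun a ha w => (map_zero a).symm
      neg_mem' := fun {φ} h a ha w => by
        change -φ (a w) = a (-φ w)
        rw [h a ha, map_neg] }
  have schur : ∀ φ ∈ D, ∀ v, v ≠ 0 → φ v = 0 → φ = 0 := by
    intro φ hφ v hv h
    rcases hirr (AddMonoidHom.ker (φ : W →+ W)) (fun a ha w hw => by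
      have hw' : φ w = 0 := hw
      change φ (a w) = 0
      rw [hφ a ha, hw', map_zero]) with h1 | h1
    · exact absurd ((AddSubgroup.eq_bot_iff_forall _).1 h1 v h) hv
    · exact AddMonoidHom.ext fun w => (h1 ▸ AddSubgroup.mem_top w : w ∈ AddMonoidHom.ker (φ : W →+ W))
  haveI : Finite (AddMonoid.End W) := Finite.of_injective (fun φ : AddMonoid.End W => (φ : W → W))
    DFunLike.coe_injective
  have hy0 : y ≠ 0 := by rintro rfl; simp at hy
  haveI : Nontrivial D := ⟨⟨0, 1, fun h => hy0 (by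
    have := congrArg (fun φ : D => (φ : AddMonoid.End W) y) h
    exact this.symm)⟩⟩
  haveI : NoZeroDivisors D := ⟨fun {φ φ'} h => by
    by_contra hc
    push Not at hc
    obtain ⟨v, hv⟩ : ∃ v, (φ' : AddMonoid.End W) v ≠ 0 := by
      by_contra h2
      push Not at h2
      exact hc.2 (Subtype.ext (AddMonoidHom.ext h2))
    exact hc.1 (Subtype.ext (schur _ φ.2 _ hv (congrArg (fun φ : D => (φ : AddMonoid.End W) v) h)))⟩
  haveI : IsDomain D := NoZeroDivisors.to_isDomain D
  have hF := Finite.isDomain_to_isField D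
  let sc : K → D := fun k => ⟨(DistribSMul.toAddMonoidHom W k : W →+ W), fun a ha w => by
    change k • a w = a (k • w)
    rw [map_smul]⟩
  have hlin : ∀ k w, ψ (k • w) = k • ψ w := fun k w =>
    congrArg (fun φ : D => (φ : AddMonoid.End W) w) (hF.mul_comm ⟨ψ, hψ⟩ (sc k))
  obtain ⟨c, hc⟩ := hx y
  obtain ⟨c', hc'⟩ := hx (ψ y)
  have hc0 : c ≠ 0 := by rintro rfl; exact hy (by rw [hc, zero_smul])
  have hx0 : x ≠ 0 := by rintro rfl; exact hy (by rw [hc, smul_zero])
  have e : c • ψ x = c' • x := by rw [← hlin, ← hc, map_sub, hψ a ha, hlin, hc']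
  refine ⟨c⁻¹ * c', fun w => ?_⟩
  have := schur _ (D.sub_mem (show (ψ : AddMonoid.End W) ∈ D from hψ) (sc (c⁻¹ * c')).2) x hx0 (by
    change ψ x - (c⁻¹ * c') • x = 0
    rw [mul_smul, ← e, smul_smul, inv_mul_cancel₀ hc0, one_smul, sub_self])
  exact sub_eq_zero.1 (congrArg (fun φ : AddMonoid.End W => φ w) this)

theorem semilinear_of_normalizes {K W : Type*} [Field K] [Finite K] [AddCommGroup W] [Module K W]
    [Finite W] (L : Set (W →ₗ[K] W))
    (hirr : ∀ U : AddSubgroup W, (∀ a ∈ L, ∀ w ∈ U, a w ∈ U) → U = ⊥ ∨ U = ⊤)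
    (hrk : ∃ a ∈ L, ∃ (μ : K) (x : W), (∀ y, ∃ c : K, a y - μ • y = c • x) ∧ ∃ y, a y - μ • y ≠ 0)
    (τ : W ≃+ W) (h2 : ∀ a ∈ L, ∃ a' : W →ₗ[K] W, ∀ x, a (τ x) = τ (a' x)) :
    ∃ α : K ≃+* K, ∀ k w, τ (k • w) = α k • τ w := by
  have key : ∀ k : K, ∃ c : K, ∀ w, τ (k • w) = c • τ w := by
    intro k
    obtain ⟨c, hc⟩ := scalar_of_commute L hirr hrk
      ((τ : W →+ W).comp ((DistribSMul.toAddMonoidHom W k).comp (τ.symm : W →+ W))) (by
        intro a ha w
        obtain ⟨a', ha'⟩ := h2 a ha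
        obtain ⟨w, rfl⟩ := τ.surjective w
        simp [ha'])
    exact ⟨c, fun w => by simpa using hc (τ w)⟩
  choose α hα using key
  obtain ⟨a, -, μ, x, -, y, hy⟩ := hrk
  have hy0 : τ y ≠ 0 := by
    rw [ne_eq, map_eq_zero_iff _ τ.injective]
    rintro rfl; simp at hy
  let α' : K →+* K :=
    { toFun := α
      map_one' := smul_left_injective K hy0 (by simp only; rw [← hα, one_smul, one_smul])
      map_mul' := fun a b => smul_left_injective K hy0 (by
        simp only; rw [← hα, mul_smul, hα, hα, mul_smul])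
      map_zero' := smul_left_injective K hy0 (by simp only; rw [← hα, zero_smul, zero_smul, map_zero])
      map_add' := fun a b => smul_left_injective K hy0 (by
        simp only; rw [← hα, add_smul, map_add, hα, hα, add_smul]) }
  exact ⟨RingEquiv.ofBijective α' (Finite.injective_iff_bijective.1 α'.injective), hα⟩

/-- two linear functionals, the kernel of the first inside the kernel of the second -/
theorem exists_mul_of_ker_le {K W : Type*} [Field K] [AddCommGroup W] [Module K W]
    (φ ψ : W →ₗ[K] K) (h : ∀ x, φ x = 0 → ψ x = 0) : ∃ c, ∀ x, ψ x = c * φ x := by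
  by_cases h0 : ∀ x, φ x = 0
  · exact ⟨0, fun x => by rw [h x (h0 x), zero_mul]⟩
  push Not at h0
  obtain ⟨y, hy⟩ := h0
  refine ⟨ψ y / φ y, fun x => ?_⟩
  have := h (φ y • x - φ x • y) (by simp [mul_comm])
  simp only [map_sub, map_smul, smul_eq_mul] at this
  field_simp
  linear_combination this

/-- proportionality of reflexive forms with the same orthogonality -/
theorem exists_form_mul {K W : Type*} [Field K] [AddCommGroup W] [Module K W] (s : K → K)
    (B B' : W → W →ₗ[K] K) (ha : ∀ u v, B (u + v) = B u + B v)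
    (ha' : ∀ u v, B' (u + v) = B' u + B' v) (hs : ∀ (k : K) u, B (k • u) = s k • B u)
    (hs' : ∀ (k : K) u, B' (k • u) = s k • B' u) (hss : Function.Surjective s)
    (hnd : ∀ u v, B u = B v → u = v)
    (h : ∀ u x, B u x = 0 → B' u x = 0) : ∃ m : K, ∀ u x, B' u x = m * B u x := by
  choose m hm using fun u => exists_mul_of_ker_le (B u) (B' u) (h u)
  have h0 : B 0 = 0 := by
    have := ha 0 0
    rw [add_zero] at this
    exact left_eq_add.1 this
  by_cases hW : ∀ u : W, u = 0
  · exact ⟨0, fun u x => by rw [hW x, map_zero, zero_mul]⟩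
  push Not at hW
  obtain ⟨y, hy⟩ := hW
  obtain ⟨z, hz⟩ : ∃ z, B y z ≠ 0 := by
    by_contra hc
    push Not at hc
    exact hy (hnd _ _ (by rw [h0]; exact LinearMap.ext hc))
  refine ⟨m y, fun u x => ?_⟩
  by_cases hu : ∃ k : K, u = k • y
  · obtain ⟨k, rfl⟩ := hu
    rw [hs, hs']
    simp only [LinearMap.smul_apply, smul_eq_mul, hm y]
    ring
  · have e : ∀ x, (m (u + y) - m u) * B u x + (m (u + y) - m y) * B y x = 0 := by
      intro x
      have := hm (u + y) x
      rw [ha, ha', LinearMap.add_apply, LinearMap.add_apply, hm u, hm y] at this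
      linear_combination -this
    by_cases h1 : m (u + y) - m u = 0
    · have h2 := e z
      rw [h1, zero_mul, zero_add, mul_eq_zero] at h2
      rw [hm u, ← sub_eq_zero.1 h1, sub_eq_zero.1 (h2.resolve_right hz)]
    · exfalso
      obtain ⟨k, hk⟩ := hss (-(m (u + y) - m y) / (m (u + y) - m u))
      refine hu ⟨k, hnd _ _ (LinearMap.ext fun x => ?_)⟩
      rw [hs, hk, LinearMap.smul_apply, smul_eq_mul]
      field_simp
      linear_combination e x

end CfsgH7
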