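import Cfsg.Agent.H7.PCentral
import Cfsg.Agent.H7.PolarA
import Cfsg.Agent.H7.FldAut

set_option autoImplicit false

namespace CfsgH7

open Subgroup

/-- A group acting faithfully by isometries on a skew-hermitian or alternating space, containing
the transvections and the Eichler transformations at a point `e` of a hyperbolic pair `e, f`. -/
structure Polar (K V G : Type*) [Field K] [AddCommGroup V] [Module K V] [Group G] where
  σ : K ≃+* K
  σσ : ∀ x, σ (σ x) = x
  B : V → V → K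
  add_left : ∀ u v w, B (u + v) w = B u w + B v w
  smul_left : ∀ (k : K) u v, B (k • u) v = k * B u v
  skew : ∀ u v, B v u = - σ (B u v)
  nondeg : ∀ u, (∀ v, B u v = 0) → u = 0
  ρ : G →* Module.End K V
  inj : Function.Injective ρ
  isom : ∀ g u v, B (ρ g u) (ρ g v) = B u v
  e : V
  f : V
  he : B e e = 0
  hf : B f f = 0
  hef : B e f = 1
  hc : ∀ w, ∃ c, B w w + c - σ c = 0
  fin : Module.Finite K V
  mem : ∀ T : Module.End K V, (∀ u v, B (T u) (T v) = B u v) → LinearMap.det T = 1 → ∃ g, ρ g = T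

/-- proportional vectors -/
def Pa (K : Type*) {V : Type*} [Field K] [AddCommGroup V] [Module K V] (x y : V) : Prop :=
  ∃ k : K, k ≠ 0 ∧ y = k • x

section Pa

variable {K V : Type*} [Field K] [AddCommGroup V] [Module K V]

theorem Pa.refl (x : V) : Pa K x x := ⟨1, one_ne_zero, (one_smul _ _).symm⟩

theorem Pa.symm {x y : V} (h : Pa K x y) : Pa K y x := by
  obtain ⟨k, hk, rfl⟩ := h
  exact ⟨k⁻¹, inv_ne_zero hk, by rw [smul_smul, inv_mul_cancel₀ hk, one_smul]⟩

theorem Pa.trans {x y z : V} (h : Pa K x y) (h' : Pa K y z) : Pa K x z := by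
  obtain ⟨k, hk, rfl⟩ := h
  obtain ⟨l, hl, rfl⟩ := h'
  exact ⟨l * k, mul_ne_zero hl hk, smul_smul _ _ _⟩

theorem Pa.map {x y : V} (h : Pa K x y) (T : Module.End K V) : Pa K (T x) (T y) := by
  obtain ⟨k, hk, rfl⟩ := h
  exact ⟨k, hk, map_smul _ _ _⟩

end Pa

namespace Polar

variable {K V G : Type*} [Field K] [AddCommGroup V] [Module K V] [Group G] (P : Polar K V G)

attribute [simp] add_left smul_left he hf hef σσ isom

@[simp] theorem zero_left (v : V) : P.B 0 v = 0 := by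
  simpa using P.smul_left 0 0 v

@[simp] theorem neg_left (u v : V) : P.B (-u) v = - P.B u v := by
  simpa using P.smul_left (-1) u v

@[simp] theorem sub_left (u v w : V) : P.B (u - v) w = P.B u w - P.B v w := by
  rw [sub_eq_add_neg, add_left, neg_left, sub_eq_add_neg]

@[simp] theorem add_right (u v w : V) : P.B u (v + w) = P.B u v + P.B u w := by
  rw [P.skew (v + w), P.skew v, P.skew w, add_left, map_add, neg_add]

@[simp] theorem smul_right (k : K) (u v : V) : P.B u (k • v) = P.σ k * P.B u v := by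
  rw [P.skew (k • v), P.skew v, smul_left, map_mul, mul_neg]

@[simp] theorem zero_right (v : V) : P.B v 0 = 0 := by
  rw [P.skew]; simp

@[simp] theorem neg_right (u v : V) : P.B u (-v) = - P.B u v := by
  simpa using P.smul_right (-1) u v

@[simp] theorem sub_right (u v w : V) : P.B u (v - w) = P.B u v - P.B u w := by
  rw [sub_eq_add_neg, add_right, neg_right, sub_eq_add_neg]

@[simp] theorem hfe : P.B P.f P.e = -1 := by rw [P.skew]; simp

theorem perp_symm {u v : V} (h : P.B u v = 0) : P.B v u = 0 := by rw [P.skew, h]; simp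

theorem ext_left {u v : V} (h : ∀ w, P.B u w = P.B v w) : u = v :=
  sub_eq_zero.1 (P.nondeg _ fun w => by rw [sub_left, h, sub_self])

theorem exists_B_eq {x : V} (hx : x ≠ 0) (c : K) : ∃ v, P.B v x = c := by
  obtain ⟨v, hv⟩ : ∃ v, P.B v x ≠ 0 := by
    by_contra h
    push Not at h
    exact hx (P.nondeg _ fun v => P.perp_symm (h v))
  exact ⟨(c / P.B v x) • v, by rw [smul_left, div_mul_cancel₀ _ hv]⟩

/-- the form as a linear functional of the first variable -/
def Bl (y : V) : Module.Dual K V where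
  toFun x := P.B x y
  map_add' := by simp
  map_smul' := by simp

@[simp] theorem Bl_apply (y x : V) : P.Bl y x = P.B x y := rfl

theorem tv (x : V) (a : K) (hx : P.B x x = 0) (ha : P.σ a = a) :
    ∃ g, ∀ v, P.ρ g v = v + (a * P.B v x) • x := by
  haveI := P.fin
  obtain ⟨g, hg⟩ := P.mem (LinearMap.transvection (a • P.Bl x) x) (fun u v => by
    simp only [LinearMap.transvection.apply, LinearMap.smul_apply, Bl_apply, smul_eq_mul, add_left,
      add_right, smul_left, smul_right, hx, map_mul, ha, P.skew v x]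
    ring) (by simp [hx])
  exact ⟨g, fun v => by rw [hg]; rfl⟩

theorem eich (w : V) (c : K) (hw : P.B w P.e = 0) (hc : P.B w w + c - P.σ c = 0) :
    ∃ g, ∀ v, P.ρ g v = v - P.B v P.e • w - P.B v w • P.e - (c * P.B v P.e) • P.e := by
  haveI := P.fin
  have hw' := P.perp_symm hw
  have e : ∀ v, (LinearMap.transvection (-P.Bl P.e) (w + c • P.e) *
      LinearMap.transvection (-P.Bl w) P.e) v =
      v - P.B v P.e • w - P.B v w • P.e - (c * P.B v P.e) • P.e := by
    intro v
    simp only [Module.End.mul_apply, LinearMap.transvection.apply, LinearMap.neg_apply, Bl_apply,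
      add_left, smul_left, he]
    module
  obtain ⟨g, hg⟩ := P.mem (LinearMap.transvection (-P.Bl P.e) (w + c • P.e) *
      LinearMap.transvection (-P.Bl w) P.e) (fun u v => by
    rw [e, e]
    simp only [sub_left, sub_right, smul_left, smul_right, he, hw, hw', map_mul, P.skew v w,
      P.skew v P.e]
    linear_combination P.B u P.e * P.σ (P.B v P.e) * hc) (by simp [hw, hw'])
  exact ⟨g, fun v => by rw [hg, e]⟩

theorem e_ne : P.e ≠ 0 := fun h => by simpa [h] using P.hef

theorem f_ne : P.f ≠ 0 := fun h => by simpa [h] using P.hef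

theorem ρ_mul (g h : G) (v : V) : P.ρ (g * h) v = P.ρ g (P.ρ h v) := by rw [map_mul]; rfl

@[simp] theorem ρ_inv_apply (g : G) (v : V) : P.ρ g⁻¹ (P.ρ g v) = v := by
  rw [← ρ_mul, inv_mul_cancel, map_one]; rfl

@[simp] theorem ρ_apply_inv (g : G) (v : V) : P.ρ g (P.ρ g⁻¹ v) = v := by
  rw [← ρ_mul, mul_inv_cancel, map_one]; rfl

theorem ρ_inj (g : G) {u v : V} (h : P.ρ g u = P.ρ g v) : u = v := by
  rw [← P.ρ_inv_apply g u, h, ρ_inv_apply]

theorem ρ_ne_zero (g : G) {u : V} (h : u ≠ 0) : P.ρ g u ≠ 0 :=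
  fun h' => h (P.ρ_inj g (by rw [h', map_zero]))

theorem isom_inv (g : G) (u v : V) : P.B (P.ρ g⁻¹ u) v = P.B u (P.ρ g v) := by
  rw [← P.isom g, ρ_apply_inv]

theorem G_ext {g h : G} (H : ∀ v, P.ρ g v = P.ρ h v) : g = h := P.inj (LinearMap.ext H)

/-- the orthogonal complement of the hyperbolic pair -/
def W : Submodule K V where
  carrier := {x | P.B x P.e = 0 ∧ P.B x P.f = 0}
  add_mem' := fun h h' => ⟨by rw [add_left, h.1, h'.1, add_zero], by rw [add_left, h.2, h'.2, add_zero]⟩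
  zero_mem' := ⟨by simp, by simp⟩
  smul_mem' := fun k x h => ⟨by rw [smul_left, h.1, mul_zero], by rw [smul_left, h.2, mul_zero]⟩

theorem mem_W {x : V} : x ∈ P.W ↔ P.B x P.e = 0 ∧ P.B x P.f = 0 := Iff.rfl

@[simp] theorem We (w : P.W) : P.B w P.e = 0 := w.2.1
@[simp] theorem Wf (w : P.W) : P.B w P.f = 0 := w.2.2
@[simp] theorem eW (w : P.W) : P.B P.e w = 0 := P.perp_symm w.2.1
@[simp] theorem fW (w : P.W) : P.B P.f w = 0 := P.perp_symm w.2.2

/-- projection onto `W` -/
def pr : V →ₗ[K] P.W where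
  toFun v := ⟨v - P.B v P.f • P.e + P.B v P.e • P.f, by simp [mem_W]⟩
  map_add' u v := Subtype.ext (by simp [add_smul]; abel)
  map_smul' k v := Subtype.ext (by simp [smul_sub, smul_add, smul_smul])

theorem pr_coe (v : V) : (P.pr v : V) = v - P.B v P.f • P.e + P.B v P.e • P.f := rfl

@[simp] theorem pr_e : P.pr P.e = 0 := Subtype.ext (by simp [pr_coe])
@[simp] theorem pr_f : P.pr P.f = 0 := Subtype.ext (by simp [pr_coe])
@[simp] theorem pr_W (w : P.W) : P.pr w = w := Subtype.ext (by simp [pr_coe])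

theorem decomp (v : V) : v = P.B v P.f • P.e - P.B v P.e • P.f + P.pr v := by
  rw [pr_coe]; abel

theorem B_pr (v : V) (w : P.W) : P.B (P.pr v) w = P.B v w := by simp [pr_coe]

theorem W_nondeg {w : P.W} (h : ∀ v : P.W, P.B v w = 0) : w = 0 := by
  apply Subtype.ext
  apply P.nondeg
  intro v
  apply P.perp_symm
  rw [← B_pr, h]

theorem exists_W_B_eq {x : P.W} (hx : x ≠ 0) (c : K) : ∃ v : P.W, P.B v x = c := by
  obtain ⟨v, hv⟩ := P.exists_B_eq (x := x) (fun h => hx (Subtype.ext h)) c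
  exact ⟨P.pr v, by rw [B_pr, hv]⟩

theorem lin_ext {X : Type*} [AddCommGroup X] [Module K X] {S T : V →ₗ[K] X} (h1 : S P.e = T P.e)
    (h2 : S P.f = T P.f) (h3 : ∀ w : P.W, S w = T w) (v : V) : S v = T v := by
  rw [P.decomp v]
  simp only [map_add, map_sub, map_smul, h1, h2, h3]

/-- the isotropic points not perpendicular to `e` -/
def pt (w : P.W) (c : K) : V := P.f + w + c • P.e

/-- admissible pairs -/
def Adm (w : P.W) (c : K) : Prop := P.B w w + c - P.σ c = 0

@[simp] theorem pt_e (w : P.W) (c : K) : P.B (P.pt w c) P.e = -1 := by simp [pt]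
@[simp] theorem e_pt (w : P.W) (c : K) : P.B P.e (P.pt w c) = 1 := by simp [pt]
@[simp] theorem pt_f (w : P.W) (c : K) : P.B (P.pt w c) P.f = c := by simp [pt]
@[simp] theorem pr_pt (w : P.W) (c : K) : P.pr (P.pt w c) = w := by simp [pt]
@[simp] theorem pt_zero : P.pt 0 0 = P.f := by simp [pt]

theorem B_pt_pt (w w' : P.W) (c c' : K) :
    P.B (P.pt w c) (P.pt w' c') = P.B w w' + c - P.σ c' := by
  simp [pt]; ring

theorem adm_zero : P.Adm 0 0 := by simp [Adm]

/-- nonzero isotropic vectors -/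
def Iso (x : V) : Prop := x ≠ 0 ∧ P.B x x = 0

variable {P}

theorem Iso.map {x : V} (h : P.Iso x) (g : G) : P.Iso (P.ρ g x) :=
  ⟨P.ρ_ne_zero g h.1, by rw [isom, h.2]⟩

theorem Iso.pa {x y : V} (h : P.Iso x) (h' : Pa K x y) : P.Iso y := by
  obtain ⟨k, hk, rfl⟩ := h'
  exact ⟨smul_ne_zero hk h.1, by simp [h.2]⟩

theorem Adm.iso {w : P.W} {c : K} (h : P.Adm w c) : P.Iso (P.pt w c) :=
  ⟨fun h0 => by simpa [h0] using P.pt_e w c, by rw [B_pt_pt]; exact h⟩

theorem iso_e : P.Iso P.e := ⟨P.e_ne, P.he⟩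
theorem iso_f : P.Iso P.f := ⟨P.f_ne, P.hf⟩

theorem eq_smul_pt {y : V} (h : P.B y P.e ≠ 0) :
    y = (-P.B y P.e) • P.pt ((-P.B y P.e)⁻¹ • P.pr y) ((-P.B y P.e)⁻¹ * P.B y P.f) := by
  conv_lhs => rw [P.decomp y]
  simp only [pt, smul_add, Submodule.coe_smul, smul_smul, ← mul_assoc,
    mul_inv_cancel₀ (neg_ne_zero.2 h), one_smul, one_mul, neg_smul]
  abel

theorem adm_of_iso {w : P.W} {c : K} (h : P.Iso (P.pt w c)) : P.Adm w c := by
  have := h.2
  rwa [B_pt_pt] at this

theorem exists_pt {y : V} (hy : P.Iso y) (h : P.B y P.e ≠ 0) :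
    ∃ w c, P.Adm w c ∧ Pa K y (P.pt w c) := by
  have h1 : Pa K y (P.pt ((-P.B y P.e)⁻¹ • P.pr y) ((-P.B y P.e)⁻¹ * P.B y P.f)) :=
    Pa.symm ⟨_, neg_ne_zero.2 h, eq_smul_pt h⟩
  exact ⟨_, _, adm_of_iso (hy.pa h1), h1⟩

theorem pt_inj {w w' : P.W} {c c' : K} (h : Pa K (P.pt w c) (P.pt w' c')) : w = w' ∧ c = c' := by
  obtain ⟨k, -, hk⟩ := h
  have h1 := congrArg (P.B · P.e) hk
  simp only [pt_e, smul_left, mul_neg, mul_one, neg_inj] at h1
  rw [← h1, one_smul] at hk
  exact ⟨by simpa using (congrArg P.pr hk).symm, by simpa using (congrArg (P.B · P.f) hk).symm⟩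

variable (P) in
/-- `g` is the transvection with centre `x` and parameter `a` -/
def IsT (x : V) (a : K) (g : G) : Prop := ∀ v, P.ρ g v = v + (a * P.B v x) • x

variable (P) in
/-- `g` is the Eichler transformation taking `f` to `f + w + c e` -/
def IsE (w : P.W) (c : K) (g : G) : Prop :=
  ∀ v, P.ρ g v = v - P.B v P.e • (w : V) - P.B v w • P.e - (c * P.B v P.e) • P.e

theorem exists_isT {x : V} (hx : P.Iso x) {a : K} (ha : P.σ a = a) : ∃ g, P.IsT x a g :=
  P.tv x a hx.2 ha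

theorem exists_isE {w : P.W} {c : K} (h : P.Adm w c) : ∃ g, P.IsE w c g :=
  P.eich w c (P.We w) h

theorem IsT.unique {x : V} {a : K} {g h : G} (hg : P.IsT x a g) (hh : P.IsT x a h) : g = h :=
  P.G_ext fun v => by rw [hg, hh]

theorem IsT.conj {x : V} {a : K} {t : G} (ht : P.IsT x a t) (g : G) :
    P.IsT (P.ρ g x) a (g * t * g⁻¹) := fun v => by
  rw [ρ_mul, ρ_mul, ht, map_add, map_smul, ρ_apply_inv, isom_inv]

theorem isT_smul {x : V} {a k : K} {t : G} : P.IsT (k • x) a t ↔ P.IsT x (a * k * P.σ k) t := by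
  refine forall_congr' fun v => ?_
  rw [smul_right, smul_smul]
  ring_nf

theorem isT_zero (x : V) : P.IsT x 0 1 := fun v => by simp

theorem IsT.mul {x : V} (hx : P.B x x = 0) {a b : K} {g h : G} (hg : P.IsT x a g)
    (hh : P.IsT x b h) : P.IsT x (a + b) (g * h) := fun v => by
  rw [ρ_mul, hh, hg]
  simp only [add_left, smul_left, hx, mul_zero, add_zero, add_mul, add_smul]
  abel

theorem IsT.pow {x : V} (hx : P.B x x = 0) {a : K} {g : G} (hg : P.IsT x a g) (n : ℕ) :
    P.IsT x (n * a) (g ^ n) := by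
  induction n with
  | zero => simpa using isT_zero x
  | succ n ih =>
    rw [pow_succ, Nat.cast_succ, add_mul, one_mul]
    exact ih.mul hx hg

theorem IsT.pow_char {p : ℕ} [CharP K p] {x : V} (hx : P.B x x = 0) {a : K} {g : G}
    (hg : P.IsT x a g) : g ^ p = 1 :=
  (hg.pow hx p).unique (by simpa using isT_zero x)

theorem IsT.pa {x y : V} {a b : K} {g : G} (hx : x ≠ 0) (ha : a ≠ 0) (hg : P.IsT x a g)
    (hg' : P.IsT y b g) : Pa K x y := by
  obtain ⟨v, hv⟩ := P.exists_B_eq hx a⁻¹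
  have := (hg v).symm.trans (hg' v)
  rw [add_right_inj, hv, mul_inv_cancel₀ ha, one_smul] at this
  refine Pa.symm ⟨_, ?_, this⟩
  rintro h
  rw [h, zero_smul] at this
  exact hx this

theorem IsT.ne_one {x : V} {a : K} {g : G} (hx : x ≠ 0) (ha : a ≠ 0) (hg : P.IsT x a g) :
    g ≠ 1 := by
  rintro rfl
  obtain ⟨k, hk, h⟩ := hg.pa hx ha (isT_zero 0)
  exact smul_ne_zero hk hx h.symm

theorem IsE.pt {w : P.W} {c : K} {u : G} (hu : P.IsE w c u) (w' : P.W) (c' : K) :
    P.ρ u (P.pt w' c') = P.pt (w + w') (c + c' - P.B w' w) := by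
  rw [hu]
  simp only [Polar.pt, add_left, hfe, We, he, fW, eW, smul_left, mul_zero, add_zero, zero_add,
    Submodule.coe_add]
  module

theorem IsE.apply_f {w : P.W} {c : K} {u : G} (hu : P.IsE w c u) : P.ρ u P.f = P.pt w c := by
  have := hu.pt 0 0
  simpa using this

theorem IsE.apply_e {w : P.W} {c : K} {u : G} (hu : P.IsE w c u) : P.ρ u P.e = P.e := by
  rw [hu]; simp

theorem IsE.apply_W {w : P.W} {c : K} {u : G} (hu : P.IsE w c u) (x : P.W) :
    P.ρ u x = x - P.B x w • P.e := by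
  rw [hu]; simp

theorem isE_zero_iff {c : K} {u : G} : P.IsE 0 c u ↔ P.IsT P.e (-c) u := by
  refine forall_congr' fun v => ?_
  simp [sub_eq_add_neg]

theorem IsT.pt {a : K} {t : G} (ht : P.IsT P.e a t) (w : P.W) (c : K) :
    P.ρ t (P.pt w c) = P.pt w (c - a) := by
  rw [ht, pt_e]
  simp only [Polar.pt]
  module

/-- a linear map fixing all isotropic points is a scalar -/
theorem scalar_of_iso (N : V →ₗ[K] V) (h : ∀ x, P.Iso x → ∃ c : K, N x = c • x) :
    ∃ c : K, ∀ v, N v = c • v := by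
  obtain ⟨l, hl⟩ := h _ iso_e
  have key : ∀ w c, P.Adm w c → N (P.pt w c) = l • P.pt w c := by
    intro w c hc
    obtain ⟨n, hn⟩ := h _ hc.iso
    obtain ⟨n', hn'⟩ := h (P.pt w (c + 1)) (Adm.iso (by
      unfold Adm at hc ⊢
      rw [map_add, map_one]
      linear_combination hc))
    have e : P.pt w (c + 1) = P.pt w c + P.e := by simp [pt, add_smul, add_assoc]
    rw [e, map_add, hn, hl] at hn'
    have h1 := congrArg (P.B · P.e) hn'
    have h2 := congrArg (P.B · P.f) hn'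
    simp at h1 h2
    rw [hn]
    congr 1
    rw [← h1] at h2
    linear_combination -h2
  have hf : N P.f = l • P.f := by simpa using key 0 0 P.adm_zero
  refine ⟨l, P.lin_ext (T := l • LinearMap.id) hl hf fun w => ?_⟩
  obtain ⟨c, hc⟩ := P.hc w
  have := key w c hc
  simp only [pt, map_add, map_smul, hl, hf, smul_add, smul_comm c l] at this
  simpa using this

theorem mem_center_iff_scalar {g : G} : g ∈ center G ↔ ∃ c : K, ∀ v, P.ρ g v = c • v := by
  constructor
  · intro hg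
    apply scalar_of_iso (P := P)
    intro x hx
    obtain ⟨t, ht⟩ := exists_isT hx (map_one P.σ)
    have h1 := ht.conj g
    rw [← mem_center_iff.1 hg t, mul_inv_cancel_right] at h1
    obtain ⟨k, -, hk⟩ := ht.pa hx.1 one_ne_zero h1
    exact ⟨k, hk⟩
  · rintro ⟨c, hc⟩
    rw [mem_center_iff]
    intro h
    exact P.G_ext fun v => by rw [ρ_mul, ρ_mul, hc, hc, map_smul]

theorem ρ_pow_of_smul {g : G} {v : V} {c : K} (h : P.ρ g v = c • v) (n : ℕ) :
    P.ρ (g ^ n) v = c ^ n • v := by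
  induction n with
  | zero => simp
  | succ n ih => rw [pow_succ, ρ_mul, h, map_smul, ih, smul_smul, pow_succ']

theorem eq_one_of_pow_char {p : ℕ} [Fact p.Prime] [CharP K p] {g : G} {v : V} {c : K} (hv : v ≠ 0)
    (h : P.ρ g v = c • v) {k : ℕ} (hk : g ^ p ^ k = 1) : c = 1 := by
  have h1 := ρ_pow_of_smul h (p ^ k)
  rw [hk, map_one, Module.End.one_apply] at h1
  have h2 : c ^ p ^ k = 1 := smul_left_injective K hv (by simp only; rw [← h1, one_smul])
  have h3 : (c - 1) ^ p ^ k = 0 := by rw [sub_pow_char_pow, h2, one_pow, sub_self]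
  exact sub_eq_zero.1 (pow_eq_zero_iff (pow_ne_zero _ (Fact.out : p.Prime).ne_zero) |>.1 h3)

theorem center_pow (P : Polar K V G) {p : ℕ} [Fact p.Prime] [CharP K p] : ∀ z ∈ center G, z ^ p = 1 → z = 1 := by
  intro z hz h
  obtain ⟨c, hc⟩ := (mem_center_iff_scalar (P := P)).1 hz
  have := eq_one_of_pow_char (p := p) (k := 1) P.e_ne (hc _) (by rw [pow_one, h])
  exact P.G_ext fun v => by rw [hc, this, one_smul, map_one, Module.End.one_apply]

theorem mk_eq_of_smul {g h : G} {c : K} (H : ∀ v, P.ρ g v = c • P.ρ h v) :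
    (QuotientGroup.mk g : G ⧸ center G) = QuotientGroup.mk h := by
  symm
  rw [QuotientGroup.eq, mem_center_iff_scalar (P := P)]
  exact ⟨c, fun v => by rw [ρ_mul, H, map_smul, ρ_inv_apply]⟩

theorem smul_of_mk_eq {g h : G}
    (H : (QuotientGroup.mk g : G ⧸ center G) = QuotientGroup.mk h) :
    ∃ c : K, ∀ v, P.ρ g v = c • P.ρ h v := by
  obtain ⟨c, hc⟩ := (mem_center_iff_scalar (P := P)).1 (QuotientGroup.eq.1 H.symm)
  exact ⟨c, fun v => by rw [← map_smul, ← hc, ρ_mul, ρ_apply_inv]⟩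

theorem IsT.eq_of_mk_eq [Finite K] {x y : V} {a b : K} {g h : G} (hx : P.B x x = 0)
    (hy : P.B y y = 0) (hg : P.IsT x a g) (hh : P.IsT y b h)
    (H : (QuotientGroup.mk g : G ⧸ center G) = QuotientGroup.mk h) : g = h := by
  obtain ⟨p, hp⟩ := CharP.exists K
  haveI := Fact.mk (CharP.char_is_prime K p)
  exact eq_of_mk_eq_of_pow (P.center_pow (p := p)) (k := 1) (by rw [pow_one, hg.pow_char hx])
    (by rw [pow_one, hh.pow_char hy]) H

theorem exists_pt_not_perp {x : V} (hx : x ≠ 0) (h : P.B x P.e = 0) :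
    ∃ w c, P.Adm w c ∧ P.B x (P.pt w c) ≠ 0 := by
  by_contra hc
  push Not at hc
  have h1 : P.B x P.f = 0 := by simpa using hc 0 0 P.adm_zero
  apply hx
  have : (⟨x, h, h1⟩ : P.W) = 0 := P.W_nondeg fun v => by
    obtain ⟨c, hv⟩ := P.hc v
    have := hc v c hv
    simp only [pt, add_right, h1, smul_right, h, mul_zero, add_zero, zero_add] at this
    exact P.perp_symm this
  exact congrArg Subtype.val this

theorem exists_map_f {x : V} (hx : P.Iso x) : ∃ g, Pa K (P.ρ g P.f) x := by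
  have key : ∀ y, P.Iso y → P.B y P.e ≠ 0 → ∃ g, Pa K (P.ρ g P.f) y := by
    intro y hy h
    obtain ⟨w, c, hc, h⟩ := exists_pt hy h
    obtain ⟨u, hu⟩ := exists_isE hc
    exact ⟨u, by rw [hu.apply_f]; exact h.symm⟩
  by_cases h : P.B x P.e = 0
  · obtain ⟨w, c, hc, h'⟩ := exists_pt_not_perp hx.1 h
    obtain ⟨t, ht⟩ := exists_isT hc.iso (map_one P.σ)
    obtain ⟨g, hg⟩ := key _ (hx.map t) (by rw [ht]; simpa [h] using h')
    refine ⟨t⁻¹ * g, ?_⟩
    simpa [ρ_mul] using hg.map (P.ρ t⁻¹)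
  · exact key x hx h

theorem exists_map_e {x : V} (hx : P.Iso x) : ∃ g, Pa K (P.ρ g P.e) x := by
  obtain ⟨g, hg⟩ := exists_map_f hx
  obtain ⟨h, hh⟩ := exists_map_f (P := P) iso_e
  refine ⟨g * h⁻¹, Pa.trans ?_ hg⟩
  simpa [ρ_mul] using (hh.symm.map (P.ρ h⁻¹)).map (P.ρ g)

end Polar

end CfsgH7
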