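import Cfsg.Agent.H7.Polar

set_option autoImplicit false

namespace CfsgH7

open Subgroup

namespace Polar

variable {K V G : Type*} [Field K] [AddCommGroup V] [Module K V] [Group G] {P : Polar K V G}

variable (P) in
/-- `β` maps the transvection group of `x` into that of `y` -/
def Rel (β : MulAut (G ⧸ center G)) (x y : V) : Prop :=
  P.Iso x ∧ P.Iso y ∧ ∀ a g, P.σ a = a → P.IsT x a g →
    ∃ a' g', P.σ a' = a' ∧ P.IsT y a' g' ∧ β (QuotientGroup.mk g) = QuotientGroup.mk g'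

variable {β : MulAut (G ⧸ center G)}

theorem Rel.conj {x y : V} (h : P.Rel β x y) {g g' : G}
    (hg : β (QuotientGroup.mk g) = QuotientGroup.mk g') : P.Rel β (P.ρ g x) (P.ρ g' y) := by
  refine ⟨h.1.map g, h.2.1.map g', fun a t ha ht => ?_⟩
  have h1 := ht.conj g⁻¹
  rw [ρ_inv_apply] at h1
  obtain ⟨a', t', ha', ht', e⟩ := h.2.2 a _ ha h1
  refine ⟨a', _, ha', ht'.conj g', ?_⟩
  simp only [QuotientGroup.mk_mul, QuotientGroup.mk_inv, ← hg, ← e, map_mul, map_inv]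
  group

theorem Rel.pa_left {x x' y : V} (h : P.Rel β x y) (hx : Pa K x x') : P.Rel β x' y := by
  refine ⟨h.1.pa hx, h.2.1, fun a t ha ht => ?_⟩
  obtain ⟨k, hk, rfl⟩ := hx
  exact h.2.2 _ t (by simp [ha]; ring) (isT_smul.1 ht)

theorem Rel.pa_right {x y y' : V} (h : P.Rel β x y) (hy : Pa K y y') : P.Rel β x y' := by
  refine ⟨h.1, h.2.1.pa hy, fun a t ha ht => ?_⟩
  obtain ⟨a', t', ha', ht', e⟩ := h.2.2 a t ha ht
  obtain ⟨k, hk, rfl⟩ := hy.symm
  exact ⟨_, t', by simp [ha']; ring, isT_smul.1 ht', e⟩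

theorem Rel.exists_ne [Finite K] {x y : V} (h : P.Rel β x y) {a : K} (ha : P.σ a = a)
    (ha0 : a ≠ 0) : ∃ t a' t', P.IsT x a t ∧ P.σ a' = a' ∧ a' ≠ 0 ∧ P.IsT y a' t' ∧
      β (QuotientGroup.mk t) = QuotientGroup.mk t' := by
  obtain ⟨t, ht⟩ := exists_isT h.1 ha
  obtain ⟨a', t', ha', ht', e⟩ := h.2.2 a t ha ht
  refine ⟨t, a', t', ht, ha', ?_, ht', e⟩
  rintro rfl
  rw [ht'.unique (isT_zero y), QuotientGroup.mk_one, map_eq_one_iff _ β.injective] at e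
  exact ht.ne_one h.1.1 ha0 (IsT.eq_of_mk_eq h.1.2 h.1.2 ht (isT_zero x) e)

theorem Rel.unique [Finite K] {x y y' : V} (h : P.Rel β x y) (h' : P.Rel β x y') : Pa K y y' := by
  obtain ⟨t, a', t', ht, -, ha0, ht', e⟩ := h.exists_ne (map_one P.σ) one_ne_zero
  obtain ⟨a'', t'', -, ht'', e'⟩ := h'.2.2 1 t (map_one _) ht
  obtain rfl := IsT.eq_of_mk_eq h.2.1.2 h'.2.1.2 ht' ht'' (e.symm.trans e')
  exact ht'.pa h.2.1.1 ha0 ht''

theorem rel_one {x : V} (hx : P.Iso x) : P.Rel 1 x x :=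
  ⟨hx, hx, fun a g ha hg => ⟨a, g, ha, hg, rfl⟩⟩

theorem Rel.comp {γ : MulAut (G ⧸ center G)} {x y z : V} (h : P.Rel β x y) (h' : P.Rel γ y z) :
    P.Rel (γ * β) x z := by
  refine ⟨h.1, h'.2.1, fun a t ha ht => ?_⟩
  obtain ⟨a', t', ha', ht', e⟩ := h.2.2 a t ha ht
  obtain ⟨a'', t'', ha'', ht'', e'⟩ := h'.2.2 a' t' ha' ht'
  exact ⟨a'', t'', ha'', ht'', by rw [MulAut.mul_apply, e, e']⟩

theorem rel_conj {x : V} (hx : P.Iso x) (g : G) :
    P.Rel (MulAut.conj (QuotientGroup.mk g)) x (P.ρ g x) :=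
  ⟨hx, hx.map g, fun a _ ha ht => ⟨a, _, ha, ht.conj g, rfl⟩⟩

variable (P) in
/-- every automorphism permutes the transvection groups -/
def U1 : Prop := ∀ β : MulAut (G ⧸ center G), ∃ y, P.Rel β P.e y

theorem exists_lift (β : MulAut (G ⧸ center G)) (g : G) :
    ∃ g', β (QuotientGroup.mk g) = QuotientGroup.mk g' :=
  let ⟨g', h⟩ := QuotientGroup.mk_surjective (β (QuotientGroup.mk g)); ⟨g', h.symm⟩

theorem lift_inv {g g' : G} (h : β (QuotientGroup.mk g) = QuotientGroup.mk g') :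
    β⁻¹ (QuotientGroup.mk g') = QuotientGroup.mk g := by
  rw [← h, MulAut.inv_apply_self]

theorem U1.exists_rel (hU : P.U1) (β : MulAut (G ⧸ center G)) {x : V} (hx : P.Iso x) :
    ∃ y, P.Rel β x y := by
  obtain ⟨y, hy⟩ := hU β
  obtain ⟨g, hg⟩ := exists_map_e hx
  obtain ⟨g', hg'⟩ := exists_lift β g
  exact ⟨_, (hy.conj hg').pa_left hg⟩

theorem Rel.symm [Finite K] (hU : P.U1) {x y : V} (h : P.Rel β x y) : P.Rel β⁻¹ y x := by
  obtain ⟨z, hz⟩ := hU.exists_rel β⁻¹ h.2.1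
  have := h.comp hz
  rw [inv_mul_cancel] at this
  exact hz.pa_right (this.unique (rel_one h.1))

theorem Rel.perp [Finite K] {x y x' y' : V} (h : P.Rel β x y) (h' : P.Rel β x' y')
    (hx : P.B x x' = 0) : P.B y y' = 0 := by
  obtain ⟨t, a', t', ht, -, ha0, ht', e⟩ := h'.exists_ne (map_one P.σ) one_ne_zero
  have h1 := h.conj e
  rw [ht, hx, mul_zero, zero_smul, add_zero, ht'] at h1
  obtain ⟨k, -, hk⟩ := h.unique h1
  by_contra hc
  have h2 := congrArg (P.B y ·) hk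
  simp only [add_right, smul_right, h.2.1.2, mul_zero, zero_add, mul_eq_zero, hc, or_false,
    map_eq_zero, ha0] at h2

theorem Rel.fix [Finite K] {x y : V} (h : P.Rel β x y) {g g' : G}
    (hg : β (QuotientGroup.mk g) = QuotientGroup.mk g') (hx : Pa K x (P.ρ g x)) :
    Pa K y (P.ρ g' y) :=
  h.unique ((h.conj hg).pa_left hx.symm)

variable (P) in
/-- linear part of the action of a point stabiliser on the hyperbolic lines through `e` -/
def lin (g : G) (l : K) : P.W →ₗ[K] P.W := P.σ l • (P.pr ∘ₗ P.ρ g ∘ₗ P.W.subtype)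

theorem lin_apply (g : G) (l : K) (w : P.W) : P.lin g l w = P.σ l • P.pr (P.ρ g w) := rfl

theorem B_e_of_fix {g : G} {l : K} (hl : l ≠ 0) (h : P.ρ g P.e = l • P.e) (v : V) :
    P.B (P.ρ g v) P.e = (P.σ l)⁻¹ * P.B v P.e := by
  have := P.isom g v P.e
  rw [h, smul_right] at this
  rw [← this, ← mul_assoc, inv_mul_cancel₀ (by simpa using hl), one_mul]

theorem aff_pt {g : G} {l : K} (hl : l ≠ 0) (h : P.ρ g P.e = l • P.e) (w : P.W) (c : K) :
    ∃ c', P.σ l • P.ρ g (P.pt w c) = P.pt (P.σ l • P.pr (P.ρ g P.f) + P.lin g l w) c' := by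
  have hl' : P.σ l ≠ 0 := by simpa using hl
  have h1 : P.B (P.σ l • P.ρ g (P.pt w c)) P.e = -1 := by
    rw [smul_left, B_e_of_fix hl h, pt_e, ← mul_assoc, mul_inv_cancel₀ hl', one_mul]
  have h2 := eq_smul_pt (P := P) (y := P.σ l • P.ρ g (P.pt w c)) (by rw [h1]; simp)
  rw [h1, neg_neg, one_smul, inv_one, one_smul] at h2
  have h3 : P.pr (P.σ l • P.ρ g (P.pt w c)) = P.σ l • P.pr (P.ρ g P.f) + P.lin g l w := by
    simp [pt, lin_apply, h, smul_add]
  exact ⟨_, h3 ▸ h2⟩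

theorem fix_f {g : G} {l : K} (hl : l ≠ 0) (h : P.ρ g P.e = l • P.e) {k : K} {y : V}
    (hy : P.B y P.e = -1) (h' : P.ρ g P.f = k • y) : k = (P.σ l)⁻¹ := by
  have := B_e_of_fix hl h P.f
  rw [h', smul_left, hy, hfe] at this
  simpa using this

theorem mem_W_of_fix {g : G} {l : K} (hl : l ≠ 0) (h : P.ρ g P.e = l • P.e)
    (h' : P.ρ g P.f = (P.σ l)⁻¹ • P.f) (w : P.W) : P.ρ g w ∈ P.W := by
  refine ⟨by rw [B_e_of_fix hl h, We, mul_zero], ?_⟩
  have := P.isom g w P.f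
  rw [h', smul_right, Wf, mul_eq_zero] at this
  exact this.resolve_left (by simpa using hl)

theorem lin_coe {g : G} {l : K} (hl : l ≠ 0) (h : P.ρ g P.e = l • P.e)
    (h' : P.ρ g P.f = (P.σ l)⁻¹ • P.f) (w : P.W) : (P.lin g l w : V) = P.σ l • P.ρ g w := by
  have : P.pr (P.ρ g w) = ⟨_, mem_W_of_fix hl h h' w⟩ := P.pr_W ⟨_, mem_W_of_fix hl h h' w⟩
  rw [lin_apply, this]
  rfl

theorem B_lin {g : G} {l : K} (hl : l ≠ 0) (h : P.ρ g P.e = l • P.e)
    (h' : P.ρ g P.f = (P.σ l)⁻¹ • P.f) (w w' : P.W) :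
    P.B (P.lin g l w) (P.lin g l w') = l * P.σ l * P.B w w' := by
  rw [lin_coe hl h h', lin_coe hl h h']
  simp only [smul_left, smul_right, σσ, isom]
  ring

theorem L_pt {g : G} {l : K} (hl : l ≠ 0) (h : P.ρ g P.e = l • P.e)
    (h' : P.ρ g P.f = (P.σ l)⁻¹ • P.f) (w : P.W) (c : K) :
    P.σ l • P.ρ g (P.pt w c) = P.pt (P.lin g l w) (l * P.σ l * c) := by
  have hl' : P.σ l ≠ 0 := by simpa using hl
  simp only [pt, map_add, map_smul, h, h', lin_coe hl h h', smul_add, smul_smul,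
    mul_inv_cancel₀ hl', one_smul]
  congr 2
  ring

theorem key_scalar [Nontrivial P.W] {g u : G} {l k : K} (hl : l ≠ 0) (h : P.ρ g P.e = l • P.e)
    (hlin : ∀ w, P.lin g l w = w) {w₀ : P.W} {c₀ : K} (h' : P.ρ g P.f = k • P.pt w₀ c₀)
    (hu : P.IsE w₀ c₀ u) (v : V) : P.ρ g v = l • P.ρ u v := by
  have hl' : P.σ l ≠ 0 := by simpa using hl
  have hk := fix_f hl h (P.pt_e _ _) h'
  have hW : ∀ w : P.W, P.ρ g w = P.B (P.ρ g w) P.f • P.e + (P.σ l)⁻¹ • (w : V) := by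
    intro w
    have e : (P.σ l)⁻¹ • (w : V) = P.pr (P.ρ g w) := by
      conv_lhs => rw [← hlin w, lin_apply, Submodule.coe_smul, smul_smul, inv_mul_cancel₀ hl',
        one_smul]
    conv_lhs => rw [P.decomp (P.ρ g w)]
    rw [B_e_of_fix hl h, We, mul_zero, zero_smul, sub_zero, e]
  have hN : (P.σ l)⁻¹ = l := by
    obtain ⟨x, hx⟩ := exists_ne (0 : P.W)
    obtain ⟨y, hy⟩ := P.exists_W_B_eq hx 1
    have := P.isom g y x
    rw [hW x, hW y] at this
    simp only [add_left, add_right, smul_left, smul_right, he, eW, We, hy, mul_zero, add_zero,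
      zero_add, map_inv₀, σσ, mul_one] at this
    field_simp at this ⊢
    exact this
  refine P.lin_ext (S := P.ρ g) (T := l • P.ρ u) ?_ ?_ (fun w => ?_) v
  · rw [h, LinearMap.smul_apply, hu.apply_e]
  · rw [h', LinearMap.smul_apply, hu.apply_f, hk, hN]
  · have := P.isom g w P.f
    rw [hW w, h', hk, hN] at this
    rw [hW w, LinearMap.smul_apply, hu.apply_W, hN]
    simp only [add_left, smul_left, smul_right, e_pt, Wf, mul_eq_zero, hl', false_or] at this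
    simp only [pt, add_right, Wf, smul_right, We, mul_zero, add_zero, zero_add, mul_one] at this
    rw [eq_neg_of_add_eq_zero_left this]
    module

variable (P) in
/-- the linear parts of the stabiliser of the two points `e`, `f` -/
def LL : Set (P.W →ₗ[K] P.W) :=
  {a | ∃ g l, l ≠ 0 ∧ P.ρ g P.e = l • P.e ∧ P.ρ g P.f = (P.σ l)⁻¹ • P.f ∧ a = P.lin g l}

variable (P) in
/-- irreducibility hypothesis -/
def Irr : Prop := ∀ U : AddSubgroup P.W, (∀ a ∈ P.LL, ∀ w ∈ U, a w ∈ U) → U = ⊥ ∨ U = ⊤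

variable (P) in
/-- existence of a homology or transvection on `W` -/
def Rk : Prop :=
  ∃ a ∈ P.LL, ∃ (μ : K) (x : P.W), (∀ y, ∃ c : K, a y - μ • y = c • x) ∧ ∃ y, a y - μ • y ≠ 0

theorem Rk.nontrivial (h : P.Rk) : Nontrivial P.W := by
  obtain ⟨a, -, μ, x, -, y, hy⟩ := h
  exact ⟨⟨_, _, hy⟩⟩

theorem rel_fiber [Finite K] (he : P.Rel β P.e P.e) {w w' : P.W} {c c' : K}
    (h : P.Rel β (P.pt w c) (P.pt w' c')) {d : K} (hd : P.Adm w d) :
    ∃ d', P.Rel β (P.pt w d) (P.pt w' d') := by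
  have hc := adm_of_iso h.1
  obtain ⟨t, ht⟩ := exists_isT (P := P) iso_e (a := c - d) (by
    unfold Adm at hc hd
    rw [map_sub]
    linear_combination hd - hc)
  obtain ⟨a', t', -, ht', e⟩ := he.2.2 _ t (by
    unfold Adm at hc hd
    rw [map_sub]
    linear_combination hd - hc) ht
  have := h.conj e
  rw [ht.pt, ht'.pt, sub_sub_cancel] at this
  exact ⟨_, this⟩

theorem exists_tau [Finite K] [Finite V] (hU : P.U1) (he : P.Rel β P.e P.e) :
    ∃ (τ : P.W ≃ P.W) (γ : P.W → K → K),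
      ∀ w c, P.Adm w c → P.Rel β (P.pt w c) (P.pt (τ w) (γ w c)) := by
  have h1 : ∀ w : P.W, ∃ w', ∀ c, P.Adm w c → ∃ c', P.Rel β (P.pt w c) (P.pt w' c') := by
    intro w
    obtain ⟨c, hc⟩ := P.hc w
    obtain ⟨y, hy⟩ := hU.exists_rel β (Adm.iso (show P.Adm w c from hc))
    obtain ⟨w', c', -, h⟩ := exists_pt hy.2.1 (fun h0 => by
      simpa using (hy.symm hU).perp (he.symm hU) h0)
    exact ⟨w', fun d hd => rel_fiber he (hy.pa_right h) hd⟩
  choose τ hτ using h1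
  have h2 : ∀ w c, ∃ c', P.Adm w c → P.Rel β (P.pt w c) (P.pt (τ w) c') := by
    intro w c
    by_cases h : P.Adm w c
    · obtain ⟨c', hc'⟩ := hτ w c h
      exact ⟨c', fun _ => hc'⟩
    · exact ⟨0, fun h' => absurd h' h⟩
  choose γ hγ using h2
  have hinj : Function.Injective τ := by
    intro w₁ w₂ e
    obtain ⟨c₁, hc₁⟩ := P.hc w₁
    obtain ⟨c₂, hc₂⟩ := P.hc w₂
    have r1 := (hγ w₁ c₁ hc₁).symm hU
    have r2 := (hγ w₂ c₂ hc₂).symm hU
    rw [e] at r1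
    obtain ⟨d, hd⟩ := rel_fiber (he.symm hU) r1 (adm_of_iso r2.1)
    exact (pt_inj (hd.unique r2)).1
  exact ⟨Equiv.ofBijective τ (Finite.injective_iff_bijective.1 hinj), γ, hγ⟩

theorem tau_aff [Finite K] {τ : P.W → P.W} {γ : P.W → K → K}
    (hγ : ∀ w c, P.Adm w c → P.Rel β (P.pt w c) (P.pt (τ w) (γ w c))) {g g' : G}
    (hg : β (QuotientGroup.mk g) = QuotientGroup.mk g') {l l' : K} (hl : l ≠ 0)
    (h : P.ρ g P.e = l • P.e) (hl' : l' ≠ 0) (h' : P.ρ g' P.e = l' • P.e) (w : P.W) :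
    τ (P.σ l • P.pr (P.ρ g P.f) + P.lin g l w) =
      P.σ l' • P.pr (P.ρ g' P.f) + P.lin g' l' (τ w) := by
  obtain ⟨c, hc⟩ := P.hc w
  obtain ⟨c₁, h1⟩ := aff_pt hl h w c
  obtain ⟨c₂, h2⟩ := aff_pt hl' h' (τ w) (γ w c)
  have r := (((hγ w c hc).conj hg).pa_left ⟨_, by simpa using hl, h1.symm⟩).pa_right
    ⟨_, by simpa using hl', h2.symm⟩
  exact (pt_inj ((hγ _ _ (adm_of_iso r.1)).unique r)).1

/-- Stage A: the map induced on `W` is semilinear -/
theorem stageA [Finite K] [Finite V] (hU : P.U1) (hirr : P.Irr) (hrk : P.Rk)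
    (he : P.Rel β P.e P.e) (hf : P.Rel β P.f P.f) :
    ∃ (τ : P.W ≃+ P.W) (α : K ≃+* K) (γ : P.W → K → K), (∀ k w, τ (k • w) = α k • τ w) ∧
      ∀ w c, P.Adm w c → P.Rel β (P.pt w c) (P.pt (τ w) (γ w c)) := by
  obtain ⟨τ, γ, hγ⟩ := exists_tau hU he
  obtain ⟨p, hp⟩ := CharP.exists K
  haveI := Fact.mk (CharP.char_is_prime K p)
  have h0 : τ 0 = 0 := by
    have := hγ 0 0 P.adm_zero
    rw [pt_zero] at this
    have h2 := this.unique hf
    rw [← pt_zero] at h2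
    exact (pt_inj h2).1
  have hL : ∀ a ∈ P.LL, ∃ a' : P.W →ₗ[K] P.W, ∀ x, a (τ x) = τ (a' x) := by
    rintro _ ⟨g', l', hl', h1, h2, rfl⟩
    obtain ⟨g, hg⟩ := exists_lift β⁻¹ g'
    obtain ⟨l, hl, h⟩ := (he.symm hU).fix hg ⟨l', hl', h1⟩
    have hg' := lift_inv hg
    rw [inv_inv] at hg'
    have e := tau_aff hγ hg' hl h hl' h1
    simp only [h2, map_smul, pr_f, smul_zero, zero_add] at e
    have e0 := e 0
    rw [h0, map_zero, map_zero, add_zero, ← h0] at e0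
    refine ⟨P.lin g l, fun x => ?_⟩
    rw [← e, τ.injective e0, zero_add]
  have hadd := affine_additive (p := p) (fun w => by
      rw [← Nat.cast_smul_eq_nsmul K, CharP.cast_eq_zero, zero_smul]) τ h0 (by
      intro w
      obtain ⟨c, hc⟩ := P.hc w
      obtain ⟨u, hu⟩ := exists_isE (show P.Adm w c from hc)
      obtain ⟨g', hg'⟩ := exists_lift β u
      obtain ⟨l', hl', h'⟩ := he.fix hg' (by rw [hu.apply_e]; exact Pa.refl _)
      have e := tau_aff hγ hg' one_ne_zero (by rw [hu.apply_e, one_smul]) hl' h'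
      have e1 : ∀ x, P.lin u 1 x = x := fun x => by simp [lin_apply, hu.apply_W]
      simp only [e1, hu.apply_f, map_one, one_smul, pr_pt] at e
      have e0 := e 0
      rw [add_zero, h0, map_zero, add_zero] at e0
      exact ⟨(P.lin g' l').toAddMonoidHom, fun x => by rw [e, e0]; rfl⟩)
    ((fun a : P.W →ₗ[K] P.W => a.toAddMonoidHom) '' P.LL) (by
      rintro _ ⟨a, ha, rfl⟩
      obtain ⟨a', ha'⟩ := hL a ha
      refine ⟨?_, a'.toAddMonoidHom, ha'⟩
      obtain ⟨g', l', hl', h1, h2, rfl⟩ := ha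
      apply Finite.injective_iff_surjective.1
      rw [injective_iff_map_eq_zero]
      intro x hx
      apply P.W_nondeg
      intro v
      have := B_lin hl' h1 h2 v x
      rw [show P.lin g' l' x = 0 from hx] at this
      simpa [hl'] using this)
    (fun U hU => hirr U fun a ha => hU _ ⟨a, ha, rfl⟩)
  obtain ⟨α, hα⟩ := semilinear_of_normalizes P.LL hirr hrk ⟨τ, hadd⟩ hL
  exact ⟨⟨τ, hadd⟩, α, γ, hα, hγ⟩

end Polar

end CfsgH7
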