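import Cfsg.Agent.H7.Polar2
import Cfsg.Agent.H7.Herm

set_option autoImplicit false

namespace CfsgH7

open Subgroup

namespace Polar

variable {K V G : Type*} [Field K] [AddCommGroup V] [Module K V] [Group G] {P : Polar K V G}
variable {β : MulAut (G ⧸ center G)}

theorem lift_isE [Finite K] [Nontrivial P.W] (he : P.Rel β P.e P.e) (hf : P.Rel β P.f P.f)
    {τ : P.W ≃+ P.W} {γ : P.W → K → K}
    (hγ : ∀ w c, P.Adm w c → P.Rel β (P.pt w c) (P.pt (τ w) (γ w c))) {w : P.W} {c : K}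
    (hc : P.Adm w c) {u u' : G} (hu : P.IsE w c u) (hu' : P.IsE (τ w) (γ w c) u') :
    β (QuotientGroup.mk u) = QuotientGroup.mk u' := by
  obtain ⟨g', hg'⟩ := exists_lift β u
  obtain ⟨l', hl', h'⟩ := he.fix hg' (by rw [hu.apply_e]; exact Pa.refl _)
  have e := tau_aff hγ hg' one_ne_zero (by rw [hu.apply_e, one_smul]) hl' h'
  have e1 : ∀ x, P.lin u 1 x = x := fun x => by simp [lin_apply, hu.apply_W]
  simp only [e1, hu.apply_f, map_one, one_smul, pr_pt] at e
  have e0 := e 0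
  rw [add_zero, map_zero, map_zero, add_zero] at e0
  have r := hf.conj hg'
  rw [hu.apply_f] at r
  obtain ⟨k, -, hk⟩ := (hγ w c hc).unique r
  rw [hg']
  refine mk_eq_of_smul (key_scalar hl' h' (fun x => ?_) hk hu')
  obtain ⟨x, rfl⟩ := τ.surjective x
  have := e x
  rw [← e0, map_add, add_right_inj] at this
  exact this.symm

theorem adm_add {w w' : P.W} {c c' : K} (h : P.Adm w c) (h' : P.Adm w' c') :
    P.Adm (w + w') (c + c' - P.B w' w) := by
  obtain ⟨u, hu⟩ := exists_isE h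
  exact adm_of_iso (hu.pt w' c' ▸ h'.iso.map u)

theorem gamma_add [Finite K] [Nontrivial P.W] (he : P.Rel β P.e P.e) (hf : P.Rel β P.f P.f)
    {τ : P.W ≃+ P.W} {γ : P.W → K → K}
    (hγ : ∀ w c, P.Adm w c → P.Rel β (P.pt w c) (P.pt (τ w) (γ w c))) {w w' : P.W} {c c' : K}
    (h : P.Adm w c) (h' : P.Adm w' c') :
    γ (w + w') (c + c' - P.B w' w) = γ w c + γ w' c' - P.B (τ w') (τ w) := by
  obtain ⟨u, hu⟩ := exists_isE h
  obtain ⟨u', hu'⟩ := exists_isE (adm_of_iso (hγ w c h).2.1)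
  have r := (hγ w' c' h').conj (lift_isE he hf hγ h hu hu')
  rw [hu.pt, hu'.pt] at r
  exact (pt_inj ((hγ _ _ (adm_add h h')).unique r)).2

theorem exists_mult [Finite K] [Nontrivial P.W] {τ : P.W ≃+ P.W} {α : K ≃+* K}
    (hα : ∀ k w, τ (k • w) = α k • τ w)
    (h : ∀ x u : P.W, P.B x u = 0 → P.B (τ x) (τ u) = 0) :
    ∃ m : K, m ≠ 0 ∧ P.σ m = m ∧ ∀ x u : P.W, P.B (τ x) (τ u) = m * α (P.B x u) := by
  let B₁ : P.W → P.W →ₗ[K] K := fun u =>
    { toFun := fun x => P.B x u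
      map_add' := fun x y => by simp
      map_smul' := fun k x => by simp }
  let B₂ : P.W → P.W →ₗ[K] K := fun u =>
    { toFun := fun x => α.symm (P.B (τ x) (τ u))
      map_add' := fun x y => by simp
      map_smul' := fun k x => by simp [hα] }
  obtain ⟨m, hm⟩ := exists_form_mul P.σ B₁ B₂ (fun u v => by ext; simp [B₁])
    (fun u v => by ext; simp [B₂]) (fun k u => by ext; simp [B₁])
    (fun k u => by
      ext x
      simp only [B₂, hα, LinearMap.coe_mk, AddHom.coe_mk, Submodule.coe_smul, smul_right, map_mul,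
        LinearMap.smul_apply, smul_eq_mul, ringAut_comm_apply P.σ α, RingEquiv.symm_apply_apply])
    P.σ.surjective (fun u v e => sub_eq_zero.1 (P.W_nondeg fun x => by
      have := LinearMap.congr_fun e x
      simpa [B₁, sub_eq_zero] using this))
    (fun u x hx => by simpa [B₂] using h x u hx)
  have hm' : ∀ x u : P.W, P.B (τ x) (τ u) = α m * α (P.B x u) := by
    intro x u
    rw [← map_mul]
    exact (RingEquiv.symm_apply_eq α).1 (hm u x)
  obtain ⟨x, hx⟩ := exists_ne (0 : P.W)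
  refine ⟨α m, fun h0 => ?_, ?_, hm'⟩
  · obtain ⟨y, hy⟩ := P.exists_W_B_eq ((map_ne_zero_iff _ τ.injective).2 hx) 1
    obtain ⟨y, rfl⟩ := τ.surjective y
    rw [hm', h0, zero_mul] at hy
    exact zero_ne_one hy
  · obtain ⟨y, hy⟩ := P.exists_W_B_eq hx 1
    have h1 := P.skew (τ y) (τ x)
    rw [hm', hm', P.skew y x, hy] at h1
    simpa using h1.symm

theorem L_equivariant [Finite K] {τ : P.W ≃+ P.W} {γ : P.W → K → K}
    (hγ : ∀ w c, P.Adm w c → P.Rel β (P.pt w c) (P.pt (τ w) (γ w c))) {g g' : G}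
    (hg : β (QuotientGroup.mk g) = QuotientGroup.mk g') {l l' : K} (hl : l ≠ 0)
    (h1 : P.ρ g P.e = l • P.e) (h2 : P.ρ g P.f = (P.σ l)⁻¹ • P.f) (hl' : l' ≠ 0)
    (h1' : P.ρ g' P.e = l' • P.e) (h2' : P.ρ g' P.f = (P.σ l')⁻¹ • P.f) {w : P.W} {c : K}
    (hc : P.Adm w c) : P.Adm (P.lin g l w) (l * P.σ l * c) ∧
      τ (P.lin g l w) = P.lin g' l' (τ w) ∧
      γ (P.lin g l w) (l * P.σ l * c) = l' * P.σ l' * γ w c := by
  have r := (((hγ w c hc).conj hg).pa_left ⟨_, by simpa using hl, (L_pt hl h1 h2 _ _).symm⟩).pa_right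
    ⟨_, by simpa using hl', (L_pt hl' h1' h2' _ _).symm⟩
  exact ⟨adm_of_iso r.1, pt_inj ((hγ _ _ (adm_of_iso r.1)).unique r)⟩

theorem lift_L [Finite K] (he : P.Rel β P.e P.e) (hf : P.Rel β P.f P.f) {g g' : G}
    (hg : β (QuotientGroup.mk g) = QuotientGroup.mk g') {l : K} (hl : l ≠ 0)
    (h1 : P.ρ g P.e = l • P.e) (h2 : P.ρ g P.f = (P.σ l)⁻¹ • P.f) :
    ∃ l', l' ≠ 0 ∧ P.ρ g' P.e = l' • P.e ∧ P.ρ g' P.f = (P.σ l')⁻¹ • P.f := by
  obtain ⟨l', hl', h'⟩ := he.fix hg ⟨l, hl, h1⟩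
  obtain ⟨k, -, hk⟩ := hf.fix hg ⟨_, by simpa using hl, h2⟩
  exact ⟨l', hl', h', by rw [hk, fix_f hl' h' P.hfe hk]⟩

/-- Stage B in the unitary case -/
theorem stageB_unitary [Finite K] [Nontrivial P.W] (h2 : orderOf P.σ = 2) (hirr : P.Irr)
    (he : P.Rel β P.e P.e) (hf : P.Rel β P.f P.f) {τ : P.W ≃+ P.W} {α : K ≃+* K}
    {γ : P.W → K → K} (hα : ∀ k w, τ (k • w) = α k • τ w)
    (hγ : ∀ w c, P.Adm w c → P.Rel β (P.pt w c) (P.pt (τ w) (γ w c))) :
    ∃ m : K, m ≠ 0 ∧ P.σ m = m ∧ (∀ x u : P.W, P.B (τ x) (τ u) = m * α (P.B x u)) ∧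
      ∀ w c, P.Adm w c → γ w c = m * α c := by
  obtain ⟨t, ht⟩ := exists_trace_two h2 (map_one P.σ)
  obtain ⟨m, hm0, hm1, hm⟩ := exists_mult hα (by
    intro x u hx
    by_contra hb
    obtain ⟨k, hk⟩ := α.surjective (t / P.B (τ x) (τ u))
    obtain ⟨c, hc⟩ := P.hc (k • x : P.W)
    obtain ⟨c', hc'⟩ := P.hc u
    have e1 := gamma_add he hf hγ (show P.Adm (k • x) c from hc) (show P.Adm u c' from hc')
    have e2 := gamma_add he hf hγ (show P.Adm u c' from hc') (show P.Adm (k • x) c from hc)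
    rw [add_comm u, add_comm c'] at e2
    simp only [Submodule.coe_smul, smul_left, smul_right, hx, P.perp_symm hx, mul_zero] at e1 e2
    rw [e1, P.skew (τ (k • x)) (τ u), hα, hk] at e2
    simp only [Submodule.coe_smul, smul_left, div_mul_cancel₀ _ hb] at e2
    exact one_ne_zero (α := K) (by linear_combination e2 - ht))
  refine ⟨m, hm0, hm1, hm, ?_⟩
  have hadd : ∀ w w' c c', P.Adm w c → P.Adm w' c' →
      γ (w + w') (c + c' - P.B w' w) - m * α (c + c' - P.B w' w) =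
        (γ w c - m * α c) + (γ w' c' - m * α c') := by
    intro w w' c c' h h'
    rw [gamma_add he hf hγ h h', hm, map_sub, map_add]
    ring
  have hfib0 : ∀ w c k, P.Adm w c → P.σ k = k →
      γ w (c + k) - m * α (c + k) = (γ w c - m * α c) + (γ 0 k - m * α k) := by
    intro w c k h hk
    have := hadd w 0 c k h (by simp [Adm, hk])
    simpa using this
  have hzero : ∀ k, P.σ k = k → γ 0 k - m * α k = 0 := by
    intro k hk
    obtain ⟨b, hb⟩ := exists_trace_two h2 hk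
    obtain ⟨x, hx⟩ := exists_ne (0 : P.W)
    obtain ⟨y, hy⟩ := P.exists_W_B_eq hx b
    obtain ⟨c, hc⟩ := P.hc x
    obtain ⟨c', hc'⟩ := P.hc y
    have e1 := hadd x y c c' hc hc'
    have e2 := hadd y x c' c hc' hc
    have e3 := hfib0 _ _ k (adm_add (show P.Adm x c from hc) (show P.Adm y c' from hc')) hk
    rw [add_comm y, add_comm c', P.skew y x, hy] at e2
    rw [hy] at e1 e3
    rw [show c + c' - b + k = c + c' - -P.σ b by rw [← hb]; ring, e2, e1] at e3
    linear_combination -e3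
  have hfib : ∀ w c d, P.Adm w c → P.Adm w d → γ w d - m * α d = γ w c - m * α c := by
    intro w c d hc hd
    have hk : P.σ (d - c) = d - c := by
      unfold Adm at hc hd
      rw [map_sub]
      linear_combination hc - hd
    have := hfib0 w c _ hc hk
    rwa [hzero _ hk, add_zero, add_sub_cancel] at this
  choose c₀ hc₀ using fun w : P.W => (show ∃ c, P.Adm w c from P.hc w)
  let δ : P.W →+ K := AddMonoidHom.mk' (fun w => γ w (c₀ w) - m * α (c₀ w)) (fun w w' => by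
    rw [← hadd w w' _ _ (hc₀ w) (hc₀ w')]
    exact hfib _ _ _ (adm_add (hc₀ w) (hc₀ w')) (hc₀ _))
  have hδ : ∀ w c, P.Adm w c → δ w = γ w c - m * α c := fun w c h => hfib w c _ h (hc₀ w)
  rcases hirr δ.ker (by
    rintro _ ⟨g, l, hl, h1, h2, rfl⟩ w hw
    obtain ⟨g', hg⟩ := exists_lift β g
    obtain ⟨l', hl', h1', h2'⟩ := lift_L he hf hg hl h1 h2
    have hN : α (l * P.σ l) = l' * P.σ l' := by
      obtain ⟨x, hx⟩ := exists_ne (0 : P.W)
      obtain ⟨y, hy⟩ := P.exists_W_B_eq hx 1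
      have := hm (P.lin g l y) (P.lin g l x)
      rw [(L_equivariant hγ hg hl h1 h2 hl' h1' h2' (hc₀ x)).2.1,
        (L_equivariant hγ hg hl h1 h2 hl' h1' h2' (hc₀ y)).2.1, B_lin hl' h1' h2', B_lin hl h1 h2,
        hm, hy, map_one, mul_one, mul_one, mul_comm] at this
      exact (mul_left_cancel₀ hm0 this).symm
    obtain ⟨e1, -, e2⟩ := L_equivariant hγ hg hl h1 h2 hl' h1' h2' (hc₀ w)
    rw [AddMonoidHom.mem_ker, hδ _ _ (hc₀ w)] at hw
    rw [AddMonoidHom.mem_ker, hδ _ _ e1, e2, map_mul α (l * P.σ l), hN]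
    linear_combination l' * P.σ l' * hw) with h | h
  · exfalso
    obtain ⟨x, hx⟩ := exists_ne (0 : P.W)
    have hinj : Function.Injective fun k : K => δ (k • x) :=
      ((AddMonoidHom.ker_eq_bot_iff δ).1 h).comp (smul_left_injective K hx)
    obtain ⟨θ, hθ⟩ := exists_ne_of_orderOf h2
    obtain ⟨k, hk⟩ := Finite.injective_iff_surjective.1 hinj θ
    apply hθ
    have h3 := adm_of_iso (hγ _ _ (hc₀ (k • x))).2.1
    have h4 := congrArg α (hc₀ (k • x))
    unfold Adm at h3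
    rw [hm] at h3
    simp only at hk
    rw [← hk, hδ _ _ (hc₀ _), map_sub, map_mul, hm1, ringAut_comm_apply P.σ α]
    rw [map_sub, map_add, map_zero] at h4
    linear_combination h3 - m * h4
  · intro w c hc
    have : δ w = 0 := (h ▸ AddSubgroup.mem_top w : w ∈ δ.ker)
    rw [hδ w c hc] at this
    exact sub_eq_zero.1 this

/-- Stage B in the symplectic case -/
theorem stageB_symplectic [Finite K] [Nontrivial P.W] (hU : P.U1) (hσ : ∀ x, P.σ x = x)
    (halt : ∀ v, P.B v v = 0) (he : P.Rel β P.e P.e) (hf : P.Rel β P.f P.f) {τ : P.W ≃+ P.W}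
    {α : K ≃+* K} {γ : P.W → K → K} (hα : ∀ k w, τ (k • w) = α k • τ w)
    (hγ : ∀ w c, P.Adm w c → P.Rel β (P.pt w c) (P.pt (τ w) (γ w c))) :
    ∃ m : K, m ≠ 0 ∧ P.σ m = m ∧ (∀ x u : P.W, P.B (τ x) (τ u) = m * α (P.B x u)) ∧
      ∀ w c, P.Adm w c → γ w c = m * α c := by
  have hadm : ∀ w c, P.Adm w c := fun w c => by simp [Adm, halt, hσ]
  obtain ⟨m, hm0, hm1, hm⟩ := exists_mult hα (by
    intro x u hx
    rcases eq_or_ne u 0 with rfl | hu
    · simp
    have hu' : P.Iso u := ⟨fun h => hu (Subtype.ext h), halt _⟩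
    obtain ⟨y, hy⟩ := hU.exists_rel β hu'
    obtain ⟨t, a', t', ht, -, ha0, ht', e⟩ := hy.exists_ne (map_one P.σ) one_ne_zero
    have hye := he.perp hy (P.eW u)
    have hyf := hf.perp hy (P.fW u)
    have key : ∀ x : P.W, α (P.B x u) • (τ u : V) = (a' * P.B (τ x) y) • y := by
      intro x
      have h1 : P.ρ t P.e = (1 : K) • P.e := by rw [ht]; simp
      have h2 : P.ρ t P.f = (P.σ 1)⁻¹ • P.f := by rw [ht]; simp
      have h1' : P.ρ t' P.e = (1 : K) • P.e := by rw [ht']; simp [hye]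
      have h2' : P.ρ t' P.f = (P.σ 1)⁻¹ • P.f := by rw [ht']; simp [hyf]
      have h3 := (L_equivariant hγ e one_ne_zero h1 h2 one_ne_zero h1' h2' (hadm x 0)).2.1
      have h4 : P.lin t 1 x = x + P.B x u • u := Subtype.ext (by
        rw [lin_coe one_ne_zero h1 h2, ht]; simp)
      have h5 := congrArg Subtype.val h3
      rw [h4, map_add, hα, lin_coe one_ne_zero h1' h2', ht'] at h5
      simpa using h5
    obtain ⟨x₀, hx₀⟩ := P.exists_W_B_eq hu 1
    have e1 := key x₀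
    have e2 := key x
    rw [hx₀, map_one, one_smul] at e1
    rw [hx, map_zero, zero_smul, eq_comm, smul_eq_zero, mul_eq_zero] at e2
    rw [e1, smul_right, (e2.resolve_right hy.2.1.1).resolve_left ha0, mul_zero])
  refine ⟨m, hm0, hm1, hm, ?_⟩
  have hperp : ∀ (w w' : P.W) c c', P.B w w' + c - c' = 0 →
      γ w c - m * α c = γ w' c' - m * α c' := by
    intro w w' c c' h
    have h1 := (hγ w c (hadm _ _)).perp (hγ w' c' (hadm _ _)) (by rw [B_pt_pt, hσ, h])
    rw [B_pt_pt, hσ, hm] at h1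
    have h2 := congrArg α h
    rw [map_sub, map_add, map_zero] at h2
    linear_combination h1 - m * h2
  have h00 : γ 0 0 = 0 := by
    have := hγ 0 0 P.adm_zero
    rw [pt_zero] at this
    have h2 := this.unique hf
    rw [← pt_zero] at h2
    exact (pt_inj h2).2
  have h1 : ∀ w c, w ≠ 0 → γ w c - m * α c = 0 := by
    intro w c hw
    obtain ⟨v, hv⟩ := P.exists_W_B_eq hw c
    rw [hperp w v c 0 (by rw [P.skew, hv, hσ]; ring), hperp v 0 0 0 (by simp), h00]
    simp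
  intro w c _
  rcases eq_or_ne w 0 with rfl | hw
  · obtain ⟨x, hx⟩ := exists_ne (0 : P.W)
    rw [← sub_eq_zero, hperp 0 x c c (by simp), h1 x c hx]
  · exact sub_eq_zero.1 (h1 w c hw)

variable (P) in
/-- `β` is induced by a semisimilarity -/
def Ind (β : MulAut (G ⧸ center G)) : Prop :=
  ∃ (α : K ≃+* K) (T : V ≃+ V) (m : K), m ≠ 0 ∧ P.σ m = m ∧ (∀ k v, T (k • v) = α k • T v) ∧
    (∀ u v, P.B (T u) (T v) = m * α (P.B u v)) ∧
    ∀ g g', β (QuotientGroup.mk g) = QuotientGroup.mk g' →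
      ∃ c : K, ∀ v, P.ρ g' (T v) = c • T (P.ρ g v)

theorem stageC [Finite K] [Finite V] (hU : P.U1) (he : P.Rel β P.e P.e) {τ : P.W ≃+ P.W}
    {α : K ≃+* K} {γ : P.W → K → K} (hα : ∀ k w, τ (k • w) = α k • τ w)
    (hγ : ∀ w c, P.Adm w c → P.Rel β (P.pt w c) (P.pt (τ w) (γ w c))) {m : K} (hm0 : m ≠ 0)
    (hm1 : P.σ m = m) (hm : ∀ x u : P.W, P.B (τ x) (τ u) = m * α (P.B x u))
    (hγm : ∀ w c, P.Adm w c → γ w c = m * α c) : P.Ind β := by
  let T₀ : V →+ V := AddMonoidHom.mk'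
    (fun v => (m * α (P.B v P.f)) • P.e - α (P.B v P.e) • P.f + τ (P.pr v)) (fun u v => by
      simp only [add_left, map_add, Submodule.coe_add]
      module)
  have hT₀ : ∀ v, T₀ v = (m * α (P.B v P.f)) • P.e - α (P.B v P.e) • P.f + τ (P.pr v) :=
    fun v => rfl
  have hsm : ∀ k v, T₀ (k • v) = α k • T₀ v := by
    intro k v
    simp only [hT₀, smul_left, map_mul, map_smul, hα, Submodule.coe_smul]
    module
  have hB : ∀ u v, P.B (T₀ u) (T₀ v) = m * α (P.B u v) := by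
    intro u v
    conv_rhs => rw [P.decomp u, P.decomp v]
    simp only [hT₀, add_left, add_right, sub_left, sub_right, smul_left, smul_right, P.he, P.hf,
      hef, hfe, eW, fW, We, Wf, hm, map_add, map_sub, map_mul, map_neg, map_zero, map_one, hm1,
      ringAut_comm_apply P.σ α]
    ring
  have hinj : Function.Injective T₀ := by
    rw [injective_iff_map_eq_zero]
    intro v hv
    apply P.nondeg
    intro u
    have := hB v u
    rw [hv, zero_left] at this
    simpa [hm0] using this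
  let T : V ≃+ V := AddEquiv.ofBijective T₀ (Finite.injective_iff_bijective.1 hinj)
  have hT : ∀ v, T v = T₀ v := fun v => rfl
  have hpt : ∀ w c, T₀ (P.pt w c) = P.pt (τ w) (m * α c) := by
    intro w c
    rw [hT₀, pt_f, pt_e, pr_pt, pt]
    simp only [map_neg, map_one]
    module
  have hTe : T₀ P.e = m • P.e := by simp [hT₀]
  have hPa : ∀ {x y}, Pa K x y → Pa K (T₀ x) (T₀ y) := by
    rintro x y ⟨k, hk, rfl⟩
    exact ⟨α k, by simpa using hk, hsm k x⟩
  have h1 : ∀ x y, P.Rel β x y → P.B x P.e ≠ 0 → Pa K y (T₀ x) := by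
    intro x y h hx
    obtain ⟨w, c, hc, hp⟩ := exists_pt h.1 hx
    have := (h.pa_left hp).unique (hγ w c hc)
    rw [hγm w c hc, ← hpt] at this
    exact this.trans (hPa hp.symm)
  have h2 : ∀ x y, P.Rel β x y → Pa K y (T₀ x) := by
    intro x y h
    by_cases hx : P.B x P.e = 0
    swap
    · exact h1 x y h hx
    obtain ⟨w, c, hc, hz⟩ := exists_pt_not_perp h.1.1 hx
    have rz := hγ w c hc
    rw [hγm w c hc, ← hpt] at rz
    obtain ⟨t, a', t', ht, -, -, ht', e⟩ := rz.exists_ne (map_one P.σ) one_ne_zero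
    have ha' : a' * m = 1 := by
      obtain ⟨k, -, hk⟩ := h1 _ _ (he.conj e) (by rw [ht]; simp)
      rw [ht, ht', map_add, hsm, hTe] at hk
      have e1 := congrArg (P.B · P.e) hk
      have e2 := congrArg (P.B · (T₀ (P.pt w c))) hk
      simp only [add_left, smul_left, rz.2.1.2, mul_zero, add_zero] at e2
      simp only [hpt, e_pt, mul_one, map_one, add_left, smul_left, P.he, pt_e] at e1 e2
      rw [e2]
      linear_combination e1
    have h3 := h1 _ _ (h.conj e) (by rw [ht]; simpa [hx] using hz)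
    have h4 : T₀ (P.ρ t x) = P.ρ t' (T₀ x) := by
      rw [ht, ht', map_add, hsm, hB, ← mul_assoc, ha', one_mul, one_mul]
    rw [h4] at h3
    simpa using h3.map (P.ρ t'⁻¹)
  refine ⟨α, T, m, hm0, hm1, hsm, hB, fun g g' hg => ?_⟩
  have hsymm : ∀ k v, T.symm (α k • v) = k • T.symm v := by
    intro k v
    apply T.injective
    rw [hT (k • _), hsm, ← hT, AddEquiv.apply_symm_apply, AddEquiv.apply_symm_apply]
  let N : V →ₗ[K] V :=
    { toFun := fun v => T.symm (P.ρ g' (T (P.ρ g⁻¹ v)))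
      map_add' := fun u v => by simp
      map_smul' := fun k v => by
        rw [map_smul, hT, hsm, map_smul, hsymm]; rfl }
  obtain ⟨c, hc⟩ := scalar_of_iso (P := P) N (by
    intro x hx
    obtain ⟨y, hy⟩ := hU.exists_rel β (hx.map g⁻¹)
    have r := hy.conj hg
    rw [ρ_apply_inv] at r
    obtain ⟨k, -, hk⟩ := (h2 _ _ r).symm.trans ((h2 _ _ hy).map (P.ρ g'))
    obtain ⟨k, rfl⟩ := α.surjective k
    refine ⟨k, ?_⟩
    change T.symm (P.ρ g' (T₀ _)) = _
    rw [hk, hsymm, ← hT, AddEquiv.symm_apply_apply])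
  refine ⟨α c, fun v => ?_⟩
  have := hc (P.ρ g v)
  change T.symm (P.ρ g' (T (P.ρ g⁻¹ (P.ρ g v)))) = _ at this
  rw [ρ_inv_apply, AddEquiv.symm_apply_eq] at this
  rw [this, hT, hsm, hT]

theorem Ind.of_conj {h : G} (H : P.Ind (MulAut.conj (QuotientGroup.mk h) * β)) : P.Ind β := by
  obtain ⟨α, T, m, hm0, hm1, hsm, hB, hg⟩ := H
  let S : V ≃+ V :=
    { toFun := P.ρ h⁻¹
      invFun := P.ρ h
      left_inv := P.ρ_apply_inv h
      right_inv := P.ρ_inv_apply h
      map_add' := map_add _ }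
  have hS : ∀ v, (T.trans S) v = P.ρ h⁻¹ (T v) := fun v => rfl
  refine ⟨α, T.trans S, m, hm0, hm1, fun k v => by rw [hS, hS, hsm, map_smul],
    fun u v => by rw [hS, hS, isom, hB], fun g g' e => ?_⟩
  obtain ⟨c, hc⟩ := hg g (h * g' * h⁻¹) (by rw [MulAut.mul_apply, e]; rfl)
  refine ⟨c, fun v => ?_⟩
  rw [hS, hS, ← map_smul, ← hc, ρ_mul, ρ_mul, ρ_inv_apply]

theorem reduce [Finite K] (hU : P.U1)
    (H : ∀ β, P.Rel β P.e P.e → P.Rel β P.f P.f → P.Ind β) (β : MulAut (G ⧸ center G)) :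
    P.Ind β := by
  obtain ⟨y, hy⟩ := hU β
  obtain ⟨g, hg⟩ := exists_map_e hy.2.1
  have r1 := (hy.pa_right hg.symm).comp (rel_conj (iso_e.map g) g⁻¹)
  rw [ρ_inv_apply] at r1
  obtain ⟨z, hz⟩ := hU.exists_rel (MulAut.conj (QuotientGroup.mk g⁻¹) * β) iso_f
  obtain ⟨w, c, hc, hp⟩ := exists_pt hz.2.1 (fun h0 => by
    simpa using (hz.symm hU).perp (r1.symm hU) h0)
  obtain ⟨u, hu⟩ := exists_isE hc
  have r2 := (hz.pa_right hp).comp (rel_conj hc.iso u⁻¹)
  have r3 := r1.comp (rel_conj iso_e u⁻¹)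
  rw [← hu.apply_f, ρ_inv_apply] at r2
  rw [show P.ρ u⁻¹ P.e = P.e by conv_lhs => rw [← hu.apply_e, ρ_inv_apply]] at r3
  exact (H _ r3 r2).of_conj.of_conj

theorem ind_unitary [Finite K] [Finite V] (hU : P.U1) (hirr : P.Irr) (hrk : P.Rk)
    (h2 : orderOf P.σ = 2) (β : MulAut (G ⧸ center G)) : P.Ind β := by
  haveI := hrk.nontrivial
  refine reduce hU (fun β he hf => ?_) β
  obtain ⟨τ, α, γ, hα, hγ⟩ := stageA hU hirr hrk he hf
  obtain ⟨m, h0, h1, h3, h4⟩ := stageB_unitary h2 hirr he hf hα hγ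
  exact stageC hU he hα hγ h0 h1 h3 h4

theorem ind_symplectic [Finite K] [Finite V] (hU : P.U1) (hirr : P.Irr) (hrk : P.Rk)
    (hσ : ∀ x, P.σ x = x) (halt : ∀ v, P.B v v = 0) (β : MulAut (G ⧸ center G)) : P.Ind β := by
  haveI := hrk.nontrivial
  refine reduce hU (fun β he hf => ?_) β
  obtain ⟨τ, α, γ, hα, hγ⟩ := stageA hU hirr hrk he hf
  obtain ⟨m, h0, h1, h3, h4⟩ := stageB_symplectic hU hσ halt he hf hα hγ
  exact stageC hU he hα hγ h0 h1 h3 h4

end Polar

end CfsgH7
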