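import Cfsg.Agent.H7.Polar3

set_option autoImplicit false

namespace CfsgH7

open Subgroup

theorem sylow_center_lift {G : Type*} [Group G] {p : ℕ} [Finite G] [Fact p.Prime]
    (hZ : ∀ z ∈ center G, z ^ p = 1 → z = 1) (β : MulAut (G ⧸ center G)) (S : Sylow p G) :
    ∃ g : G, ∀ x ∈ (S : Subgroup G), (∀ y ∈ (S : Subgroup G), x * y = y * x) →
      ∃ z ∈ (S : Subgroup G), (∀ y ∈ (S : Subgroup G), z * y = y * z) ∧
        β (QuotientGroup.mk x) = QuotientGroup.mk (g * z * g⁻¹) := by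
  obtain ⟨S', hS'⟩ := sylow_lift β S
  obtain ⟨g, rfl⟩ := MulAction.exists_smul_eq G S S'
  have hmem : ∀ y, y ∈ ((g • S : Sylow p G) : Subgroup G) ↔ g⁻¹ * y * g ∈ (S : Subgroup G) := by
    intro y
    rw [Sylow.coe_subgroup_smul, Subgroup.mem_pointwise_smul_iff_inv_smul_mem]
    simp
  refine ⟨g, fun x hS hc => ?_⟩
  have h1 : β (QuotientGroup.mk x) ∈
      ((g • S : Sylow p G) : Subgroup G).map (QuotientGroup.mk' (center G)) := by
    rw [← hS']
    exact ⟨_, ⟨x, hS, rfl⟩, rfl⟩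
  obtain ⟨y, hy, hy'⟩ := h1
  refine ⟨g⁻¹ * y * g, (hmem y).1 hy, fun z hz => ?_, by
    rw [← hy', show g * (g⁻¹ * y * g) * g⁻¹ = y by group]; rfl⟩
  have h2 : (QuotientGroup.mk (g * z * g⁻¹) : G ⧸ center G) ∈
      ((g • S : Sylow p G) : Subgroup G).map (QuotientGroup.mk' (center G)) :=
    ⟨_, (hmem _).2 (by simpa [mul_assoc] using hz), rfl⟩
  rw [← hS'] at h2
  obtain ⟨_, ⟨w, hw, rfl⟩, hw'⟩ := h2
  obtain ⟨k, hk⟩ := (g • S).isPGroup' ⟨y, hy⟩
  have : Commute y (g * z * g⁻¹) := by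
    refine commute_of_mk_commute hZ (k := k) (congrArg Subtype.val hk) ?_
    have e1 : (QuotientGroup.mk y : G ⧸ center G) = β (QuotientGroup.mk x) := hy'
    have e2 : (QuotientGroup.mk (g * z * g⁻¹) : G ⧸ center G) = β (QuotientGroup.mk w) := hw'.symm
    rw [e1, e2]
    apply Commute.map
    exact Commute.map (hc w hw) (QuotientGroup.mk' (center G))
  calc g⁻¹ * y * g * z = g⁻¹ * (y * (g * z * g⁻¹)) * g := by group
    _ = _ := by rw [this.eq]; group

theorem exists_fixed_vec_End {G : Type*} [Group G] {p : ℕ} [Fact p.Prime] {K V : Type*} [Field K]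
    [CharP K p] [AddCommGroup V] [Module K V] [Finite V] [Nontrivial V] (ρ : G →* Module.End K V)
    (S : Subgroup G) (hS : IsPGroup p S) : ∃ e : V, e ≠ 0 ∧ ∀ s ∈ S, ρ s e = e := by
  letI : MulAction S V :=
    { smul := fun s w => ρ s w
      one_smul := fun w => by
        change ρ (1 : S) w = w
        simp
      mul_smul := fun s t w => by
        change ρ (s * t : S) w = ρ s (ρ t w)
        simp }
  have hP : IsPGroup p (Multiplicative V) := fun g => ⟨1, by
    rw [pow_one]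
    change p • g.toAdd = 0
    rw [← Nat.cast_smul_eq_nsmul K, CharP.cast_eq_zero, zero_smul]⟩
  have hcard : p ∣ Nat.card V := by
    obtain ⟨n, hn, hc⟩ := hP.nontrivial_iff_card.1 inferInstance
    rw [show Nat.card V = Nat.card (Multiplicative V) from rfl, hc]
    exact dvd_pow_self _ hn.ne'
  obtain ⟨e, he, he0⟩ := hS.exists_fixed_point_of_prime_dvd_card_of_fixed_point V hcard
    (a := 0) (fun s => map_zero (ρ s))
  exact ⟨e, he0.symm, fun s hs => he ⟨s, hs⟩⟩

namespace Polar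

variable {K V G : Type*} [Field K] [AddCommGroup V] [Module K V] [Group G] {P : Polar K V G}

theorem finite_G (P : Polar K V G) [Finite V] : Finite G :=
  Finite.of_injective (fun g => (P.ρ g : V → V)) (DFunLike.coe_injective.comp P.inj)

theorem pt_inj' {w w' : P.W} {c c' : K} (h : P.pt w c = P.pt w' c') : w = w' ∧ c = c' :=
  pt_inj (by rw [h]; exact Pa.refl _)

theorem IsE.unique {w : P.W} {c : K} {g h : G} (hg : P.IsE w c g) (hh : P.IsE w c h) : g = h :=
  P.G_ext fun v => by rw [hg, hh]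

theorem isE_zero : P.IsE 0 0 1 := fun v => by simp

theorem IsE.mul {w w' : P.W} {c c' : K} {g h : G} (hg : P.IsE w c g) (hh : P.IsE w' c' h) :
    P.IsE (w + w') (c + c' - P.B w' w) (g * h) := fun v => by
  rw [ρ_mul, hh, hg]
  simp only [sub_left, smul_left, We, he, eW, mul_zero, sub_zero, Submodule.coe_add, add_right]
  module

theorem IsE.conj {w w' : P.W} {c : K} {u g : G} (hu : P.IsE w c u) (h1 : P.ρ g P.e = P.e)
    (h2 : P.ρ g w = w') : P.IsE w' c (g * u * g⁻¹) := fun v => by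
  rw [ρ_mul, ρ_mul, hu]
  simp only [map_sub, map_smul, ρ_apply_inv, isom_inv, h1, h2]

variable (P) in
/-- the unipotent radical of the stabiliser of `e` -/
def Q : Subgroup G where
  carrier := {g | ∃ w c, P.Adm w c ∧ P.IsE w c g}
  mul_mem' := fun ⟨_, _, h1, h2⟩ ⟨_, _, h3, h4⟩ => ⟨_, _, adm_add h1 h3, h2.mul h4⟩
  one_mem' := ⟨0, 0, P.adm_zero, isE_zero⟩
  inv_mem' := fun {g} ⟨w, c, h1, h2⟩ => by
    have h3 : P.Adm (-w) (-c - P.B w w) := by
      have := P.skew w w
      unfold Adm at h1 ⊢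
      simp only [Submodule.coe_neg, neg_left, neg_right, neg_neg, map_sub, map_neg]
      linear_combination this - h1
    obtain ⟨u, hu⟩ := exists_isE h3
    have h4 := h2.mul hu
    simp only [add_neg_cancel, Submodule.coe_neg, neg_left] at h4
    rw [show c + (-c - P.B w w) - -P.B w w = 0 by ring] at h4
    rw [inv_eq_of_mul_eq_one_right (h4.unique isE_zero)]
    exact ⟨_, _, h3, hu⟩

theorem IsE.pow {w : P.W} {c : K} {g : G} (hg : P.IsE w c g) (n : ℕ) :
    ∃ d, P.IsE (n • w) d (g ^ n) := by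
  induction n with
  | zero => exact ⟨0, by simpa using isE_zero⟩
  | succ n ih =>
    obtain ⟨d, hd⟩ := ih
    rw [pow_succ, succ_nsmul]
    exact ⟨_, hd.mul hg⟩

theorem isPGroup_Q {p : ℕ} [CharP K p] : IsPGroup p P.Q := by
  rintro ⟨g, w, c, -, h⟩
  refine ⟨2, Subtype.ext ?_⟩
  obtain ⟨d, hd⟩ := h.pow p
  rw [← Nat.cast_smul_eq_nsmul K, CharP.cast_eq_zero, zero_smul, isE_zero_iff] at hd
  change g ^ p ^ 2 = 1
  rw [sq, pow_mul, hd.pow_char P.he]

theorem exists_sylow (P : Polar K V G) {p : ℕ} [Fact p.Prime] [CharP K p] [Finite V] :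
    ∃ S : Sylow p G, P.Q ≤ S ∧ ∀ s ∈ (S : Subgroup G), P.ρ s P.e = P.e := by
  obtain ⟨S, hS⟩ := (isPGroup_Q (P := P) (p := p)).exists_le_sylow
  haveI : Nontrivial V := ⟨⟨_, _, P.e_ne⟩⟩
  obtain ⟨v, hv, h⟩ := exists_fixed_vec_End P.ρ _ S.isPGroup'
  refine ⟨S, hS, fun s hs => ?_⟩
  have h1 : P.B v P.e = 0 := by
    have h1 : P.Adm 0 1 := by simp [Adm]
    obtain ⟨u, hu⟩ := exists_isE h1
    have := h u (hS ⟨_, _, h1, hu⟩)
    rw [hu] at this
    simpa [P.e_ne] using this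
  have h2 : P.pr v = 0 := P.W_nondeg fun w => P.perp_symm (by
    obtain ⟨c, hc⟩ := P.hc w
    obtain ⟨u, hu⟩ := exists_isE (show P.Adm w c from hc)
    have := h u (hS ⟨_, _, hc, hu⟩)
    rw [hu] at this
    rw [B_pr]
    simpa [P.e_ne, h1] using this)
  have h3 := P.decomp v
  rw [h1, h2, zero_smul, sub_zero, Submodule.coe_zero, add_zero] at h3
  have h4 := h s hs
  rw [h3, map_smul] at h4
  refine smul_right_injective V (fun h0 => hv ?_) h4
  rw [h3, h0, zero_smul]

theorem centralizer_Q [Nontrivial P.W] {z : G} (h1 : P.ρ z P.e = P.e)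
    (h2 : ∀ u ∈ P.Q, z * u = u * z) : ∃ w c, P.Adm w c ∧ P.IsE w c z := by
  have h1' : P.ρ z P.e = (1 : K) • P.e := by rw [h1, one_smul]
  obtain ⟨c₀, h0⟩ := aff_pt one_ne_zero h1' 0 0
  rw [map_zero, add_zero, map_one, one_smul, one_smul, pt_zero] at h0
  have hc₀ := adm_of_iso (h0 ▸ iso_f.map z)
  obtain ⟨u₀, hu₀⟩ := exists_isE hc₀
  refine ⟨_, _, hc₀, ?_⟩
  have : z = u₀ := P.G_ext fun v => by
    rw [key_scalar one_ne_zero h1' (fun w => ?_) (by rw [one_smul]; exact h0) hu₀, one_smul]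
    obtain ⟨c, hc⟩ := P.hc w
    obtain ⟨u, hu⟩ := exists_isE (show P.Adm w c from hc)
    obtain ⟨c', h3⟩ := aff_pt one_ne_zero h1' w c
    rw [map_one, one_smul, one_smul, ← hu.apply_f, ← ρ_mul, h2 u ⟨_, _, hc, hu⟩, ρ_mul] at h3
    conv_lhs at h3 => rw [h0, hu.pt]
    have := (pt_inj' h3).1
    rw [add_comm, add_right_inj] at this
    exact this.symm
  exact this ▸ hu₀

theorem U1_of [Finite K] [Finite V] [Nontrivial P.W]
    (H : ∀ (β : MulAut (G ⧸ center G)) (a : K) (t g z : G) (w : P.W) (c : K), P.IsT P.e a t →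
      P.Adm w c → P.IsE w c z → (∀ u ∈ P.Q, z * u = u * z) →
      β (QuotientGroup.mk t) = QuotientGroup.mk (g * z * g⁻¹) → w = 0) : P.U1 := by
  obtain ⟨p, hp⟩ := CharP.exists K
  haveI := Fact.mk (CharP.char_is_prime K p)
  haveI := P.finite_G
  intro β
  obtain ⟨S, hQ, hS⟩ := P.exists_sylow (p := p)
  obtain ⟨g, hg⟩ := sylow_center_lift P.center_pow β S
  refine ⟨P.ρ g P.e, iso_e, iso_e.map g, fun a t ha ht => ?_⟩
  obtain ⟨z, hz, hzc, e⟩ := hg t (hQ ⟨0, -a, by simp [Adm, ha], isE_zero_iff.2 (by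
    rwa [neg_neg])⟩) (fun s hs => by
      have := ht.conj s
      rw [hS s hs] at this
      conv_lhs => rw [ht.unique this]
      group)
  obtain ⟨w, c, hc, hw⟩ := centralizer_Q (hS z hz) (fun u hu => hzc u (hQ hu))
  obtain rfl := H β a t g z w c ht hc hw (fun u hu => hzc u (hQ hu)) e
  refine ⟨-c, _, ?_, (isE_zero_iff.1 hw).conj g, e⟩
  simp only [Adm, Submodule.coe_zero, zero_left, zero_add, sub_eq_zero] at hc
  rw [map_neg, ← hc]

theorem U1_of_trace [Finite K] [Finite V] [Nontrivial P.W] {t : K} (ht : t + P.σ t = 1) :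
    P.U1 := by
  refine U1_of fun _ _ _ _ z w₀ c₀ _ _ hz h _ => ?_
  by_contra h0
  obtain ⟨w, hw⟩ := P.exists_W_B_eq h0 t
  obtain ⟨c, hc⟩ := P.hc w
  obtain ⟨u, hu⟩ := exists_isE (show P.Adm w c from hc)
  have e := congrArg (fun g => P.ρ g P.f) (h u ⟨_, _, hc, hu⟩)
  simp only [(hz.mul hu).apply_f, (hu.mul hz).apply_f] at e
  have := (pt_inj' e).2
  rw [P.skew w w₀, hw] at this
  exact one_ne_zero (α := K) (by linear_combination -this - ht)

theorem exists_perp (P : Polar K V G) [Module.Finite K V] {k : ℕ} (s : Fin k → V)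
    (h : k < Module.finrank K V) : ∃ x, x ≠ 0 ∧ ∀ i, P.B x (s i) = 0 := by
  let φ : V →ₗ[K] (Fin k → K) :=
    { toFun := fun x i => P.B x (s i)
      map_add' := fun x y => by ext; simp
      map_smul' := fun c x => by ext; simp }
  obtain ⟨x, hx, hx0⟩ := (Submodule.ne_bot_iff _).1
    (LinearMap.ker_ne_bot_of_finrank_lt (f := φ) (by simpa using h))
  exact ⟨x, hx0, fun i => congrFun hx i⟩

theorem odd_transp [CharP K 2] (hσ : ∀ x, P.σ x = x) {x y : V} (hx : P.B x x = 0)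
    (hy : P.B y y = 0) {a : K} {t t' : G} (ht : P.IsT x a t) (ht' : P.IsT y a t')
    (h : (t * t') ^ 4 = 1) : (t * t') ^ 2 = 1 := by
  have h2 : (2 : K) = 0 := CharTwo.two_eq_zero
  by_cases hb : a * P.B x y = 0
  · have hc := ht.conj t'
    rw [ht', hb, zero_smul, add_zero] at hc
    have : Commute t t' := by
      change t * t' = t' * t
      conv_lhs => rw [ht.unique hc]
      group
    rw [this.mul_pow, ht.pow_char hx, ht'.pow_char hy, one_mul]
  · exfalso
    have hyx : P.B y x = -P.B x y := by rw [P.skew, hσ]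
    have e1 : P.ρ (t * t') x = (1 - a * a * P.B x y ^ 2) • x + (a * P.B x y) • y := by
      rw [ρ_mul, ht', ht]
      simp only [add_left, smul_left, hx, hyx]
      module
    have e2 : P.ρ (t * t') y = y - (a * P.B x y) • x := by
      rw [ρ_mul, ht', ht]
      simp only [add_left, smul_left, hy, hyx]
      module
    have e3 := congrArg (fun g => P.B (P.ρ g x) x) h
    generalize t * t' = M at e1 e2 e3
    simp only [show M ^ 4 = M * (M * (M * M)) by simp [pow_succ, mul_assoc], ρ_mul, e1, e2,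
      map_add, map_sub, map_smul, add_left, sub_left, smul_left, hx, hyx, map_one,
      Module.End.one_apply] at e3
    apply pow_ne_zero 7 hb
    obtain ⟨ha, hb⟩ := mul_ne_zero_iff.1 hb
    apply mul_left_cancel₀ hb
    linear_combination e3 + (a * P.B x y ^ 2 * (2 - 5 * (a * a * P.B x y ^ 2) +
      3 * (a * a * P.B x y ^ 2) ^ 2)) * h2

theorem U1_char_two [Finite K] [Finite V] [Nontrivial P.W] [CharP K 2] (hσ : ∀ x, P.σ x = x)
    (halt : ∀ v, P.B v v = 0) (hdim : 4 < Module.finrank K V) : P.U1 := by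
  have h2 : (2 : K) = 0 := CharTwo.two_eq_zero
  have hZ : ∀ g : G, (QuotientGroup.mk g : G ⧸ center G) = 1 → g = 1 := by
    intro g hg
    obtain ⟨c, hc⟩ := (mem_center_iff_scalar (P := P)).1 ((QuotientGroup.eq_one_iff g).1 hg)
    have h1 := P.isom g P.e P.f
    rw [hc, hc, smul_left, smul_right, hσ, hef, mul_one] at h1
    have h3 : c = 1 := by
      have : (c - 1) ^ 2 = 0 := by linear_combination h1 + (1 - c) * h2
      exact sub_eq_zero.1 (pow_eq_zero_iff two_ne_zero |>.1 this)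
    exact P.G_ext fun v => by rw [hc, h3, one_smul, map_one, Module.End.one_apply]
  refine U1_of fun β a t g z w c ht _ hz _ e => ?_
  by_contra h0
  have hsk : ∀ u v, P.B v u = -P.B u v := fun u v => by rw [P.skew, hσ]
  obtain ⟨w', hw'⟩ := P.exists_W_B_eq h0 (-1)
  have hww' : P.B w w' = 1 := by rw [hsk, hw', neg_neg]
  obtain ⟨x, hx0, hx⟩ := P.exists_perp ![P.e, P.f, w, w'] hdim
  let x' : P.W := ⟨x, hx 0, hx 1⟩
  have hx0' : x' ≠ 0 := fun h => hx0 (congrArg Subtype.val h)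
  have hxw : P.B x' w = 0 := hx 2
  have hxw' : P.B x' w' = 0 := hx 3
  obtain ⟨f₃, hf₃⟩ := P.exists_W_B_eq hx0' 1
  let y : V := P.f + f₃ - P.B f₃ w' • (w : V)
  have hy1 : P.B P.e y = 1 := by simp [y]
  have hy2 : P.B y x' = 1 := by simp [y, hf₃, P.perp_symm hxw]
  have hy3 : P.B y w' = 0 := by simp [y, hww']
  obtain ⟨t₁, ht₁⟩ := P.tv (w' - w) 1 (halt _) (map_one _)
  obtain ⟨t₂, ht₂⟩ := P.tv (y - P.e) 1 (halt _) (map_one _)
  obtain ⟨t₃, ht₃⟩ := P.tv (x' - y) 1 (halt _) (map_one _)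
  have hh1 : P.ρ (t₃ * t₂ * t₁) P.e = x' := by
    rw [ρ_mul, ρ_mul, ht₁]
    simp only [sub_right, eW, sub_self, mul_zero, zero_smul, add_zero]
    rw [ht₂]
    simp only [sub_right, hy1, P.he, sub_zero, mul_one, one_smul, add_sub_cancel]
    rw [ht₃]
    simp [hy2, halt]
  have hh2 : P.ρ (t₃ * t₂ * t₁) w = w' := by
    rw [ρ_mul, ρ_mul, ht₁]
    simp only [sub_right, hww', halt, sub_zero, mul_one, one_smul, add_sub_cancel]
    rw [ht₂]
    simp only [sub_right, P.perp_symm hy3, We, sub_self, mul_zero, zero_smul, add_zero]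
    rw [ht₃]
    simp [P.perp_symm hy3, P.perp_symm hxw']
  generalize t₃ * t₂ * t₁ = h at hh1 hh2
  have hz' : ∀ v, P.ρ (h * z * h⁻¹) v =
      v - P.B v x' • (w' : V) - P.B v w' • (x' : V) - (c * P.B v x') • (x' : V) := by
    intro v
    rw [ρ_mul, ρ_mul, hz]
    simp only [map_sub, map_smul, ρ_apply_inv, isom_inv, hh1, hh2]
  have hsq : ∀ {w : P.W} {c : K} {z : G}, P.IsE w c z → z * z = 1 := by
    intro w c z hz
    have := hz.mul hz
    rw [← two_smul K w, ← two_mul, h2, zero_smul, zero_mul, halt, sub_zero] at this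
    exact this.unique isE_zero
  have hn := hz.mul (hz.conj (w' := w - x') (g := h * z * h⁻¹) (by rw [hz']; simp) (by
    rw [hz']; simp [hww', P.perp_symm hxw]))
  have e2 : (z * (h * z * h⁻¹)) ^ 2 = z * (h * z * h⁻¹ * z * (h * z * h⁻¹)⁻¹) := by
    rw [sq, _root_.mul_inv_rev, _root_.mul_inv_rev, inv_inv, inv_eq_of_mul_eq_one_right (hsq hz)]
    group
  have e4 : (z * (h * z * h⁻¹)) ^ 4 = 1 := by
    rw [show 4 = 2 * 2 from rfl, pow_mul, e2, sq, hsq hn]
  obtain ⟨k, hk⟩ := exists_lift β⁻¹ (g * h * g⁻¹)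
  have hk' := lift_inv hk
  rw [inv_inv] at hk'
  have e5 : β (QuotientGroup.mk (t * (k * t * k⁻¹))) =
      QuotientGroup.mk (g * (z * (h * z * h⁻¹)) * g⁻¹) := by
    rw [QuotientGroup.mk_mul, QuotientGroup.mk_mul, QuotientGroup.mk_mul, QuotientGroup.mk_inv,
      map_mul, map_mul, map_mul, map_inv, hk', e, ← QuotientGroup.mk_inv, ← QuotientGroup.mk_mul,
      ← QuotientGroup.mk_mul, ← QuotientGroup.mk_mul]
    congr 1
    group
  have e6 : (t * (k * t * k⁻¹)) ^ 4 = 1 := by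
    apply hZ
    apply β.injective
    rw [QuotientGroup.mk_pow, map_pow, e5, ← QuotientGroup.mk_pow, conj_pow, e4, map_one]
    simp
  have e7 := odd_transp hσ P.he (halt _) ht (ht.conj k) e6
  have e8 : g * (z * (h * z * h⁻¹)) ^ 2 * g⁻¹ = 1 := by
    apply hZ
    rw [← conj_pow, QuotientGroup.mk_pow, ← e5, ← map_pow, ← QuotientGroup.mk_pow, e7]
    simp
  rw [mul_inv_eq_one, mul_eq_left, e2] at e8
  have e9 := hn.apply_f
  rw [e8, map_one, Module.End.one_apply, ← pt_zero] at e9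
  have e10 := (pt_inj' e9).1
  rw [← add_sub_assoc, ← two_smul K w, h2, zero_smul, zero_sub, eq_comm, neg_eq_zero] at e10
  exact hx0' e10

end Polar

end CfsgH7
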