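import Cfsg.Agent.H7.Polar4

set_option autoImplicit false

namespace CfsgH7

open Subgroup

namespace Polar

variable {K V G : Type*} [Field K] [AddCommGroup V] [Module K V] [Group G] {P : Polar K V G}

theorem tv_mem_LL {x : P.W} (hx : P.B x x = 0) {a : K} (ha : P.σ a = a) :
    ∃ l ∈ P.LL, ∀ w, l w = w + (a * P.B w x) • x := by
  obtain ⟨t, ht⟩ := P.tv x a hx ha
  have h1 : P.ρ t P.e = (1 : K) • P.e := by rw [ht]; simp
  have h2 : P.ρ t P.f = (P.σ 1)⁻¹ • P.f := by rw [ht]; simp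
  exact ⟨_, ⟨t, 1, one_ne_zero, h1, h2, rfl⟩, fun w => Subtype.ext (by
    rw [lin_coe one_ne_zero h1 h2, ht]; simp)⟩

theorem refl_mem_LL {x : P.W} (hx : P.B x x ≠ 0) {μ : K} (hμ : μ ≠ 0) :
    ∃ l ∈ P.LL, ∀ w, l w = μ • w + (μ * (μ / P.σ μ - 1) * (P.B w x / P.B x x)) • x := by
  haveI := P.fin
  have hσμ : P.σ μ ≠ 0 := by simpa using hμ
  have hxx : P.σ (P.B x x) = -P.B x x := by rw [P.skew x x, map_neg, σσ, ← P.skew]
  have e : ∀ v, (LinearMap.transvection ((P.σ μ - 1) • P.Bl P.f) P.e *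
      LinearMap.transvection (-(μ⁻¹ - 1) • P.Bl P.e) P.f *
      LinearMap.transvection (((μ / P.σ μ - 1) / P.B x x) • P.Bl x) x) v =
      v + ((P.σ μ - 1) * P.B v P.f) • P.e - ((μ⁻¹ - 1) * P.B v P.e) • P.f +
        ((μ / P.σ μ - 1) / P.B x x * P.B v x) • (x : V) := by
    intro v
    simp only [Module.End.mul_apply, LinearMap.transvection.apply, LinearMap.smul_apply, Bl_apply,
      add_left, smul_left, hf, We, Wf, smul_eq_mul]
    module
  obtain ⟨g, hg⟩ := P.mem (LinearMap.transvection ((P.σ μ - 1) • P.Bl P.f) P.e *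
      LinearMap.transvection (-(μ⁻¹ - 1) • P.Bl P.e) P.f *
      LinearMap.transvection (((μ / P.σ μ - 1) / P.B x x) • P.Bl x) x) (fun u v => by
    rw [e, e]
    simp only [add_left, add_right, sub_left, sub_right, smul_left, smul_right, he, hf, hef, hfe,
      We, Wf, eW, fW, map_mul, P.skew v x, P.skew v P.e, P.skew v P.f, map_sub, map_one, σσ,
      map_div₀, map_inv₀, hxx]
    field_simp
    ring) (by
    simp only [map_mul, LinearMap.transvection.det, LinearMap.smul_apply, Bl_apply, hef, hfe,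
      smul_eq_mul]
    field_simp
    ring)
  have hg' : ∀ v, P.ρ g v = _ := fun v => by rw [hg, e]
  have h1 : P.ρ g P.e = P.σ μ • P.e := by
    rw [hg']
    simp only [hef, he, eW]
    module
  have h2 : P.ρ g P.f = (P.σ (P.σ μ))⁻¹ • P.f := by
    rw [hg']
    simp only [hf, hfe, fW, σσ]
    module
  refine ⟨_, ⟨g, _, hσμ, h1, h2, rfl⟩, fun w => Subtype.ext ?_⟩
  rw [lin_coe hσμ h1 h2, hg']
  simp only [We, Wf, σσ, Submodule.coe_add, Submodule.coe_smul]
  match_scalars <;> ring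

theorem irr_finish {U : AddSubgroup P.W} (hU : ∀ a ∈ P.LL, ∀ w ∈ U, a w ∈ U)
    (hy : ∀ y : P.W, ∃ k : K, k ≠ 0 ∧ ∀ u ∈ U, (k * P.B u y) • y ∈ U) {x : P.W} (hx0 : x ≠ 0)
    (hx : ∀ k : K, k • x ∈ U) : U = ⊤ := by
  have h1 : ∀ y : P.W, P.B x y ≠ 0 → y ∈ U := by
    intro y h
    obtain ⟨k, hk, h'⟩ := hy y
    have := h' _ (hx (k * P.B x y)⁻¹)
    rwa [Submodule.coe_smul, smul_left, show k * ((k * P.B x y)⁻¹ * P.B x y) = 1 by field_simp,
      one_smul] at this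
  rw [eq_top_iff]
  intro y _
  by_cases h : P.B x y = 0
  · obtain ⟨z, hz⟩ := P.exists_W_B_eq hx0 1
    have hz' : P.B x z ≠ 0 := fun h => by simpa [hz] using P.perp_symm h
    have := U.sub_mem (h1 (y + z) (by simpa [h] using hz')) (h1 z hz')
    rwa [add_sub_cancel_right] at this
  · exact h1 y h

theorem mem_of_tv {U : AddSubgroup P.W} (hU : ∀ a ∈ P.LL, ∀ w ∈ U, a w ∈ U) {y : P.W}
    (hy : P.B y y = 0) {a : K} (ha : P.σ a = a) {u : P.W} (hu : u ∈ U) : (a * P.B u y) • y ∈ U := by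
  obtain ⟨l, hl, h⟩ := tv_mem_LL hy ha
  have := U.sub_mem (hU l hl u hu) hu
  rwa [h, add_sub_cancel_left] at this

theorem irr_symplectic (hσ : ∀ x, P.σ x = x) (halt : ∀ v, P.B v v = 0) : P.Irr := by
  intro U hU
  rw [or_iff_not_imp_left]
  intro h0
  obtain ⟨⟨u, hu⟩, hu0⟩ := AddSubgroup.ne_bot_iff_exists_ne_zero.1 h0
  replace hu0 : u ≠ 0 := fun h => hu0 (Subtype.ext h)
  obtain ⟨x, hx⟩ := P.exists_W_B_eq hu0 (-1)
  have hx' : P.B (u : P.W) x = 1 := by rw [P.skew, hx]; simp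
  refine irr_finish hU (fun y => ⟨1, one_ne_zero, fun u hu => mem_of_tv hU (halt _) (hσ _) hu⟩)
    (x := x) (by rintro rfl; simp at hx) (fun k => ?_)
  simpa [hx'] using mem_of_tv hU (halt x) (hσ k) hu

theorem rk_symplectic [Nontrivial P.W] (halt : ∀ v, P.B v v = 0) : P.Rk := by
  obtain ⟨x, hx⟩ := exists_ne (0 : P.W)
  obtain ⟨l, hl, h⟩ := tv_mem_LL (halt x) (map_one P.σ)
  obtain ⟨y, hy⟩ := P.exists_W_B_eq hx 1
  exact ⟨l, hl, 1, x, fun y => ⟨_, by rw [h, one_smul, add_sub_cancel_left]⟩, y, by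
    simpa [h, hy] using hx⟩

theorem exists_noniso {θ : K} (hθ : θ - P.σ θ ≠ 0) {u : P.W} (hu : u ≠ 0) :
    ∃ x : P.W, P.B x x ≠ 0 ∧ P.B x u ≠ 0 := by
  by_cases h : P.B u u = 0
  swap
  · exact ⟨u, h, h⟩
  obtain ⟨y, hy⟩ := P.exists_W_B_eq hu 1
  by_cases h' : P.B y y = 0
  · refine ⟨y + θ • u, ?_, by simp [h, hy]⟩
    simp only [Submodule.coe_add, Submodule.coe_smul, add_left, add_right, smul_left, smul_right,
      h, h', hy, P.skew y u, map_one]
    intro h0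
    exact hθ (by linear_combination -h0)
  · exact ⟨y, h', by simp [hy]⟩

theorem rk_unitary [Nontrivial P.W] (h2 : orderOf P.σ = 2) : P.Rk := by
  obtain ⟨θ, hθ⟩ := exists_ne_of_orderOf h2
  obtain ⟨u, hu⟩ := exists_ne (0 : P.W)
  obtain ⟨x, hx, -⟩ := exists_noniso hθ hu
  have hθ0 : θ ≠ 0 := by rintro rfl; simp at hθ
  have hσθ : P.σ θ ≠ 0 := by simpa using hθ0
  obtain ⟨l, hl, h⟩ := refl_mem_LL hx hθ0
  refine ⟨l, hl, θ, x, fun y => ⟨_, by rw [h, add_sub_cancel_left]⟩, x, ?_⟩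
  rw [h, add_sub_cancel_left, div_self hx, mul_one]
  refine smul_ne_zero (mul_ne_zero hθ0 ?_) (by rintro rfl; simp at hx)
  rwa [div_sub_one hσθ, div_ne_zero_iff, and_iff_left hσθ]

theorem exists_decomp_two {σ : K ≃+* K} (hσ : ∀ x, σ (σ x) = x) {θ : K} (hθ : θ - σ θ ≠ 0)
    (k : K) : ∃ a b, σ a = a ∧ σ b = b ∧ k = a + b * θ := by
  have hθ' : σ θ - θ ≠ 0 := fun h => hθ (by linear_combination -h)
  refine ⟨k - (k - σ k) / (θ - σ θ) * θ, (k - σ k) / (θ - σ θ), ?_, ?_, by ring⟩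
  · simp only [map_sub, map_mul, map_div₀, hσ]
    field_simp
    ring
  · simp only [map_sub, map_div₀, hσ]
    field_simp
    ring

theorem irr_unitary (h2 : orderOf P.σ = 2)
    (hq : (∃ μ, P.σ (μ ^ 3) ≠ μ ^ 3) ∨ 3 < Module.finrank K V) : P.Irr := by
  obtain ⟨θ, hθ⟩ := exists_ne_of_orderOf h2
  have hθ0 : θ ≠ 0 := by rintro rfl; simp at hθ
  have hσθ : P.σ θ ≠ 0 := by simpa using hθ0
  have hθ1 : θ + 1 ≠ 0 := by
    intro h
    rw [eq_neg_of_add_eq_zero_left h] at hθ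
    simp at hθ
  have hσθ1 : P.σ θ + 1 ≠ 0 := by simpa using (map_ne_zero P.σ).2 hθ1
  intro U hU
  have hproj : ∀ y : P.W, P.B y y ≠ 0 → ∃ k : K, k ≠ 0 ∧ ∀ u ∈ U, (k * P.B u y) • y ∈ U := by
    intro y hy
    obtain ⟨l₁, hl₁, h₁⟩ := refl_mem_LL hy hθ1
    obtain ⟨l₂, hl₂, h₂⟩ := refl_mem_LL hy hθ0
    refine ⟨-(θ - P.σ θ) ^ 2 / (P.σ θ * (P.σ θ + 1) * P.B y y), by simp [hθ, hσθ, hσθ1, hy],
      fun u hu => ?_⟩
    have := U.sub_mem (U.sub_mem (hU l₁ hl₁ u hu) (hU l₂ hl₂ u hu)) hu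
    convert this using 1
    rw [h₁, h₂, map_add, map_one]
    generalize P.B y y = N at hy
    match_scalars <;> (field_simp; ring)
  rw [or_iff_not_imp_left]
  intro h0
  obtain ⟨⟨u, hu⟩, hu0⟩ := AddSubgroup.ne_bot_iff_exists_ne_zero.1 h0
  replace hu0 : u ≠ 0 := fun h => hu0 (Subtype.ext h)
  obtain ⟨x₀, hx₀, hxu⟩ := exists_noniso hθ hu0
  obtain ⟨k, hk, hk'⟩ := hproj x₀ hx₀
  have hk2 : k * P.B (u : P.W) x₀ ≠ 0 := mul_ne_zero hk fun h => hxu (P.perp_symm h)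
  have hxU := hk' _ hu
  generalize k * P.B (u : P.W) x₀ = k' at hk2 hxU
  have hx : P.B (k' • x₀ : P.W) (k' • x₀ : P.W) ≠ 0 := by simp [hk2, hx₀]
  generalize k' • x₀ = x at hxU hx
  refine irr_finish hU (fun y => ?_) (x := x) (by rintro rfl; simp at hx) ?_
  · by_cases hy : P.B y y = 0
    · exact ⟨1, one_ne_zero, fun u hu => mem_of_tv hU hy (map_one _) hu⟩
    · exact hproj y hy
  have hphi : ∀ μ : K, μ ≠ 0 → ∀ c : K, c • x ∈ U → (μ * (μ / P.σ μ) * c) • x ∈ U := by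
    intro μ hμ c hc
    obtain ⟨l, hl, h⟩ := refl_mem_LL hx hμ
    convert hU l hl _ hc using 1
    rw [h, Submodule.coe_smul, smul_left, mul_div_assoc, div_self hx]
    module
  have hK0 : ∀ a : K, P.σ a = a → ∀ c : K, c • x ∈ U → (a * c) • x ∈ U := by
    intro a ha c hc
    rcases eq_or_ne a 0 with rfl | ha0
    · simp
    · simpa [ha, ha0] using hphi a ha0 c hc
  rcases hq with ⟨μ, hμ⟩ | hq
  · have hμ0 : μ ≠ 0 := by rintro rfl; simp at hμ
    have hσμ : P.σ μ ≠ 0 := by simpa using hμ0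
    intro c
    obtain ⟨a, b, ha, hb, rfl⟩ := exists_decomp_two P.σσ (θ := μ * (μ / P.σ μ)) (by
      intro h
      apply hμ
      simp only [map_mul, map_div₀, σσ] at h
      field_simp at h
      rw [map_pow]
      linear_combination -h) c
    rw [add_smul]
    refine U.add_mem (by simpa using hK0 a ha 1 (by simpa using hxU)) (hK0 b hb _ ?_)
    simpa using hphi μ hμ0 1 (by simpa using hxU)
  · haveI := P.fin
    obtain ⟨z, hz0, hz⟩ := P.exists_perp ![P.e, P.f, x] hq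
    let z' : P.W := ⟨z, hz 0, hz 1⟩
    have hzx : P.B z' x = 0 := hz 2
    obtain ⟨y, hy⟩ := P.exists_W_B_eq (x := z') (fun h => hz0 (congrArg Subtype.val h)) 1
    let y' : P.W := y - (P.B y x / P.B x x) • x
    have hy1 : P.B y' x = 0 := by simp [y', hx]
    have hy2 : P.B y' z' = 1 := by simp [y', hy, P.perp_symm hzx]
    obtain ⟨w, hw, hwx⟩ : ∃ w : P.W, P.B w w ≠ 0 ∧ P.B w x = 0 := by
      by_cases h1 : P.B z' z' = 0
      swap
      · exact ⟨z', h1, hzx⟩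
      by_cases h2 : P.B y' y' = 0
      swap
      · exact ⟨y', h2, hy1⟩
      refine ⟨y' + θ • z', ?_, by simp only [Submodule.coe_add, Submodule.coe_smul, add_left,
        smul_left, hy1, hzx, mul_zero, add_zero]⟩
      simp only [Submodule.coe_add, Submodule.coe_smul, add_left, add_right, smul_left, smul_right,
        h1, h2, hy2, P.skew y' z', map_one]
      intro h0
      exact hθ (by linear_combination -h0)
    intro c
    rcases eq_or_ne c 0 with rfl | hc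
    · simp
    obtain ⟨l, hl, h⟩ := refl_mem_LL hw hc
    simpa [h, P.perp_symm hwx] using hU l hl _ hxU

theorem nontrivial_W (h : 2 < Module.finrank K V) : Nontrivial P.W := by
  haveI := P.fin
  obtain ⟨z, hz0, hz⟩ := P.exists_perp ![P.e, P.f] h
  exact ⟨⟨⟨z, hz 0, hz 1⟩, 0, fun h => hz0 (congrArg Subtype.val h)⟩⟩

/-- automorphisms of the projective special unitary groups -/
theorem aut_unitary [Finite K] (h2 : orderOf P.σ = 2) (h3 : 2 < Module.finrank K V)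
    (hq : (∃ μ, P.σ (μ ^ 3) ≠ μ ^ 3) ∨ 3 < Module.finrank K V) (β : MulAut (G ⧸ center G)) :
    P.Ind β := by
  haveI := P.fin
  haveI : Finite V := Module.finite_of_finite K
  haveI := nontrivial_W (P := P) h3
  obtain ⟨t, ht⟩ := exists_trace_two h2 (map_one P.σ)
  exact ind_unitary (U1_of_trace ht) (irr_unitary h2 hq) (rk_unitary h2) h2 β

/-- automorphisms of the projective symplectic groups -/
theorem aut_symplectic [Finite K] (hσ : ∀ x, P.σ x = x) (halt : ∀ v, P.B v v = 0)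
    (h3 : 2 < Module.finrank K V) (hq : (2 : K) ≠ 0 ∨ 4 < Module.finrank K V)
    (β : MulAut (G ⧸ center G)) : P.Ind β := by
  haveI := P.fin
  haveI : Finite V := Module.finite_of_finite K
  haveI := nontrivial_W (P := P) h3
  refine ind_symplectic ?_ (irr_symplectic hσ halt) (rk_symplectic halt) hσ halt β
  by_cases h2 : (2 : K) = 0
  · haveI : CharP K 2 := CharTwo.of_one_ne_zero_of_two_eq_zero one_ne_zero h2
    exact U1_char_two hσ halt (hq.resolve_left (not_not.2 h2))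
  · exact U1_of_trace (t := 2⁻¹) (by rw [hσ]; field_simp; norm_num)

end Polar

end CfsgH7
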