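import Cfsg.Agent.H7.Polar5
import Cfsg.Agent.H7.PSLField

set_option autoImplicit false

namespace CfsgH7

open Subgroup Matrix

theorem exists_matrix_of_semilinear {K ι : Type*} [Field K] [Fintype ι] [DecidableEq ι]
    (α : K ≃+* K) (T : (ι → K) ≃+ (ι → K)) (hT : ∀ (k : K) v, T (k • v) = α k • T v) :
    ∃ M : GL ι K, ∀ v, T v = (M : Matrix ι ι K) *ᵥ (α ∘ v) := by
  let L : (ι → K) →ₗ[K] (ι → K) :=
    { toFun := fun v => T (α.symm ∘ v)
      map_add' := fun u v => by
        rw [← map_add]; congr 1; ext; simp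
      map_smul' := fun k v => by
        rw [RingHom.id_apply, ← α.apply_symm_apply k, ← hT]; congr 1; ext; simp }
  have hL : ∀ v, LinearMap.toMatrix' L *ᵥ v = T (α.symm ∘ v) := fun v =>
    LinearMap.toMatrix'_mulVec L v
  have hu : IsUnit (LinearMap.toMatrix' L) := by
    rw [← Matrix.mulVec_injective_iff_isUnit]
    intro u v h
    simp only [hL] at h
    exact α.symm.injective.comp_left (T.injective h)
  refine ⟨hu.unit, fun v => ?_⟩
  rw [IsUnit.unit_spec, hL]
  congr 1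
  ext; simp

/-- restriction of an action by automorphisms to an invariant subgroup -/
def restrAut {Γ G : Type*} [Group Γ] [Group G] (Φ : Γ →* MulAut G) (H : Subgroup G)
    (h : ∀ γ, ∀ x ∈ H, Φ γ x ∈ H) : Γ →* MulAut H where
  toFun γ :=
    { toFun := fun x => ⟨Φ γ x, h γ x x.2⟩
      invFun := fun x => ⟨Φ γ⁻¹ x, h _ x x.2⟩
      left_inv := fun x => Subtype.ext (by simp)
      right_inv := fun x => Subtype.ext (by simp)
      map_mul' := fun x y => Subtype.ext (map_mul _ _ _) }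
  map_one' := by ext; simp
  map_mul' a b := by ext; simp

theorem restrAut_coe {Γ G : Type*} [Group Γ] [Group G] (Φ : Γ →* MulAut G) (H : Subgroup G)
    (h : ∀ γ, ∀ x ∈ H, Φ γ x ∈ H) (γ : Γ) (x : H) : (restrAut Φ H h γ x : G) = Φ γ x := rfl

namespace Polar

variable {K V G : Type*} [Field K] [AddCommGroup V] [Module K V] [Group G] {P : Polar K V G}

theorem rigid [Finite K] [Nontrivial P.W] {α : K ≃+* K} (T : V →+ V) (hinj : Function.Injective T)
    (hT : ∀ (k : K) v, T (k • v) = α k • T v)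
    (h : ∀ g, ∃ c : K, ∀ v, P.ρ g (T v) = c • T (P.ρ g v)) : α = 1 ∧ ∃ c : K, ∀ v, T v = c • v := by
  obtain ⟨p, hp⟩ := CharP.exists K
  haveI := Fact.mk (CharP.char_is_prime K p)
  have h1 : ∀ x, P.Iso x → ∃ c : K, T x = c • x := by
    intro x hx
    obtain ⟨t, ht⟩ := exists_isT hx (map_one P.σ)
    obtain ⟨c, hc⟩ := h t
    have hx' : P.ρ t x = x := by rw [ht, hx.2]; simp
    have hc1 : c = 1 := eq_one_of_pow_char (p := p) (k := 1) (v := T x)
      (fun h0 => hx.1 (hinj (by rw [h0, map_zero]))) (by rw [hc, hx'])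
      (by rw [pow_one, ht.pow_char hx.2])
    obtain ⟨v, hv⟩ := P.exists_B_eq hx.1 1
    have := hc v
    rw [hc1, one_smul, ht, ht, map_add, add_right_inj, hv, mul_one, one_smul] at this
    exact ⟨_, this.symm⟩
  obtain ⟨l, hl⟩ := h1 _ iso_e
  have hl0 : l ≠ 0 := by
    rintro rfl
    exact P.e_ne (hinj (by rw [hl, zero_smul, map_zero]))
  have key : ∀ w c, P.Adm w c → T (P.pt w c) = l • P.pt w c := by
    intro w c hc
    obtain ⟨n, hn⟩ := h1 _ hc.iso
    obtain ⟨n', hn'⟩ := h1 (P.pt w (c + 1)) (Adm.iso (by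
      unfold Adm at hc ⊢
      rw [map_add, map_one]
      linear_combination hc))
    have e : P.pt w (c + 1) = P.pt w c + P.e := by simp [pt, add_smul, add_assoc]
    rw [e, map_add, hn, hl] at hn'
    have h1 := congrArg (P.B · P.e) hn'
    have h2 := congrArg (P.B · P.f) hn'
    simp at h1 h2
    rw [hn]
    congr 1
    rw [← h1] at h2
    linear_combination -h2
  have hf : T P.f = l • P.f := by simpa using key 0 0 P.adm_zero
  have hW : ∀ w : P.W, P.pr (T w) = l • w := by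
    intro w
    obtain ⟨c, hc⟩ := P.hc w
    have := congrArg P.pr (key w c hc)
    simpa [pt, hT, hl, hf] using this
  have hα : α = 1 := by
    ext k
    obtain ⟨x, hx⟩ := exists_ne (0 : P.W)
    have := hW (k • x)
    rw [Submodule.coe_smul, hT, map_smul, hW, smul_comm] at this
    exact smul_left_injective K hx (smul_right_injective _ hl0 this)
  subst hα
  exact ⟨rfl, scalar_of_iso (P := P) ⟨⟨T, map_add T⟩, hT⟩ h1⟩

section matrix

variable {ι : Type*} [Fintype ι] [DecidableEq ι] {P : Polar K (ι → K) G}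
  {mat : G → Matrix ι ι K}

theorem Ind.matrix (hρ : ∀ g v, P.ρ g v = mat g *ᵥ v) {β : MulAut (G ⧸ center G)} (h : P.Ind β) :
    ∃ (M : GL ι K) (α : K ≃+* K) (m : K), m ≠ 0 ∧ P.σ m = m ∧
      (∀ u v, P.B ((M : Matrix ι ι K) *ᵥ (α ∘ u)) ((M : Matrix ι ι K) *ᵥ (α ∘ v)) =
        m * α (P.B u v)) ∧
      ∀ s s', mat s' = (M : Matrix ι ι K) * (mat s).map α * ((M⁻¹ : GL ι K) : Matrix ι ι K) →
        β (QuotientGroup.mk s) = QuotientGroup.mk s' := by
  obtain ⟨α, T, m, hm0, hm1, hT, hB, hg⟩ := h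
  obtain ⟨M, hM⟩ := exists_matrix_of_semilinear α T hT
  refine ⟨M, α, m, hm0, hm1, fun u v => by rw [← hM, ← hM, hB], fun s s' e => ?_⟩
  obtain ⟨g', hg'⟩ := exists_lift β s
  obtain ⟨c, hc⟩ := hg s g' hg'
  rw [hg']
  refine mk_eq_of_smul (P := P) (c := c) fun v => ?_
  obtain ⟨v, rfl⟩ := T.surjective v
  rw [hc, hM, hM, hρ, hρ, e, map_mulVec_comp, mulVec_mulVec, mulVec_mulVec, Matrix.mul_assoc,
    Units.inv_mul, mul_one]

theorem rigid_matrix [Finite K] [Nontrivial P.W] (hρ : ∀ g v, P.ρ g v = mat g *ᵥ v) {M : GL ι K}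
    {α : K ≃+* K} (h : ∀ s, ∃ s', mat s' = (M : Matrix ι ι K) * (mat s).map α *
      ((M⁻¹ : GL ι K) : Matrix ι ι K) ∧ (QuotientGroup.mk s' : G ⧸ center G) = QuotientGroup.mk s) :
    α = 1 ∧ ∃ c : K, (M : Matrix ι ι K) = c • 1 := by
  obtain ⟨h1, c, hc⟩ := rigid (P := P) (α := α) (semiT α (M : Matrix ι ι K)) (by
      intro u v e
      exact α.injective.comp_left (Matrix.mulVec_injective_iff_isUnit.2 M.isUnit e))
    (semiT_smul α _) (fun s => by
      obtain ⟨s', e1, e2⟩ := h s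
      obtain ⟨c, hc⟩ := smul_of_mk_eq (P := P) e2.symm
      refine ⟨c, fun v => ?_⟩
      rw [hc, semiT_apply, semiT_apply, hρ, hρ, e1, map_mulVec_comp, mulVec_mulVec, mulVec_mulVec,
        Matrix.mul_assoc, Units.inv_mul, mul_one])
  subst h1
  refine ⟨rfl, c, Matrix.ext_iff_mulVec.2 fun v => ?_⟩
  rw [smul_mulVec, one_mulVec, ← hc]
  rfl

end matrix

end Polar

end CfsgH7
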