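import Cfsg.Agent.H7.SD3
import Cfsg.Agent.SF.Final

namespace CfsgH7.RI

universe u

theorem specDisc (n : ℕ) : SpecDisc.{u} n := specDisc_of CfsgSF.specSF n

end CfsgH7.RI
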