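import Cfsg.Agent.H7.RT1
import Cfsg.Agent.H7.RIDisc

/-! Root involutions (helper7): `E_d ∪ 1` is a subgroup in the non-degenerate case. -/

set_option autoImplicit false
set_option linter.unusedSectionVars false

namespace CfsgH7.RI
open Cfsg CfsgH9 Subgroup

variable {G : Type*} [Group G] [Finite G] {D : Set G}
  {a a' b b' c c' c2 d d' e e' f g h m n p q r s t u v v' w x x' y z : G}

theorem EE_le_wd (hD : RI D) (hy : y ∈ Wd D c) (hc : c ∈ D) : EE D y ≤ closure (Wd D c) :=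
  closure_mono fun e he => ⟨he.1, ((he.2 c hc).1 hy.2.1.symm).symm, fun x hx cx o =>
    hy.2.2 x hx cx (he.2.symm.od' hD he.1 hy.1 hx o)⟩

theorem mem_pCore_of_not_od (hD : IsRootInvolutionSet D) (hd : d ∈ D) (hu : u ∈ EE D d)
    (h : ∀ y ∈ D, ¬ Od y (u * y * u)) : u ∈ pCore 2 G := by
  have hR := RI.of_set hD
  haveI : Fact (Nat.Prime 2) := ⟨Nat.prime_two⟩
  have u2 := EE.sq hR hd hu
  have ui : u⁻¹ = u := inv_eq_of_mul_eq_one_right u2
  refine CfsgL0.le_pCore (CfsgH4.baer_suzuki_elt u fun g => ?_) (Subgroup.subset_normalClosure rfl)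
  have hy := hD.conj_mem d hd g
  have hy' := hD.conj_mem _ hy u
  have h1 := EE.conj hR (top_mem hD g) hu
  have h2 := EE.conj hR (top_mem hD u) h1
  have h4 := EE.sq hR hy h1
  have h5 := EE.sq hR hy' h2
  have key : ∃ k, (u * (g * u * g⁻¹) * u⁻¹ * (g * u * g⁻¹)) ^ 2 ^ k = 1 := by
    by_cases c : Commute (g * d * g⁻¹) (u * (g * d * g⁻¹) * u⁻¹)
    · refine ⟨1, ?_⟩
      rw [pow_one, (EE.commute' h1 h2 hy c).symm.mul_pow, pow_two, pow_two, h4, h5, mul_one]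
    obtain ⟨c, k⟩ := exists_K hR hy hy' c (by rw [ui]; exact h _ hy)
    have hc := k.hc hR
    obtain ⟨j, hj⟩ := Wd.pgroup hR c ⟨_, mul_mem
      (EE_le_wd hR ((XT.of_xp hc ((k.xb hR).symm k.hb)).wd hR) hc h2)
      (EE_le_wd hR ((XT.of_xp hc ((k.xa hR).symm k.ha)).wd hR) hc h1)⟩
    exact ⟨j, congrArg Subtype.val hj⟩
  obtain ⟨k, hk⟩ := key
  refine CfsgH4.dih_isPGroup u2 h4 (k := k + 1) ?_
  rw [pow_succ', pow_mul, ← hk, ui, pow_two]
  simp only [mul_assoc]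

/-- hypotheses of the non-degenerate case -/
structure HG (D : Set G) : Prop extends HF D where
  set : IsRootInvolutionSet D
  o2 : pCore 2 G = ⊥
  z : ∀ z : G, (∀ g, Commute g z) → z = 1

theorem HG.eq_one (hR : HG D) (hd : d ∈ D) (hx : x ∈ D) (o : Od d x) (h1 : ∀ y, XP D d y → Commute y z)
    (h2 : Commute x z) : z = 1 := by
  obtain ⟨a, ha, b, hb, h4⟩ := hR.fo
  have := gen_top (specDisc _) hR.set hR.cl ha hb h4 hd hx o (U := centralizer {z})
    (fun y hy => mem_centralizer_singleton_iff.2 (h1 y hy)) (mem_centralizer_singleton_iff.2 h2)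
  exact hR.z z fun g => mem_centralizer_singleton_iff.1 (this ▸ mem_top g)

/-- the `S₃` on a line -/
theorem HC.line_swap (hR : HC D) (ha : a ∈ D) (h : XP D a b) (n : ¬ Eqv D a b) :
    ∃ s ∈ D, s * a * s⁻¹ = b ∧ ∀ z ∈ EE D a, z ∈ EE D b → Commute s z := by
  have hD := hR.toRI
  obtain ⟨s, k1⟩ := T1 hD hR.cl ha h n
  obtain ⟨t, k2⟩ := k1.next hD hR.cl
  exact ⟨_, (T2 hD k2 k1).mem hD, swap3 hD k1 k2, fun z h1 h2 =>
    (commute3 (EE.commute h1 k2.ha (k2.ca hD)).symm (EE.commute h2 k1.ha (k1.ca hD)).symm).symm⟩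

theorem HF.fin2 (hR : HF D) (q : Eqv D e f) (k1 : K D n a e) (hx : XP D a f) (hb : a * (e * f) ∈ D)
    (nq : ¬ Eqv D a (a * (e * f))) : e * f ∈ D := by
  have hD := hR.toRI
  have ha := k1.hb
  have he := k1.hc hD
  have hf := hx.1
  have cef := q.commute he
  have cae := k1.cb hD
  have caf := hx.cm
  have cnf : Commute n f := (q n k1.ha).1 (k1.ca hD)
  obtain ⟨t, k2⟩ := k1.next hD hR.cl
  have o := T2 hD k1 k2
  obtain ⟨g1, k3⟩ := k2.eqv_right hD hf q
  have hg := k3.hc hD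
  have q1 := hR.lemB ha k3 (XT.of_xp ha ((k2.xa hD).symm k2.ha)) (XT.of_xp ha hx)
  obtain ⟨h1, k4, -, c1⟩ := T5 hD o cnf k3
  have q2 := hR.lemB he k4 (XT.of_xp he ((k1.xa hD).symm k1.ha)) ⟨f, hf, q, k3.xb hD⟩
  have hh := k4.hc hD
  have m1 : f * h1 ∈ EE D e := mul_mem (RI.mem_EE hf q) (RI.mem_EE hh q2)
  have m2 := EE.conj hD (mcl3 k1.ha k2.ha) m1
  rw [swap3 hD k2 k1, conj_of_commute (commute3 (EE.commute m1 k1.ha (k1.ca hD)).symm c1.symm).symm] at m2
  have m3 : a * g1 ∈ EE D a := mul_mem (self_EE ha) (RI.mem_EE hg q1)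
  have cgf := k3.cb hD
  have cge : Commute g1 e := (q g1 hg).2 cgf.symm
  have e1 : t * (a * (e * f)) * t⁻¹ = a * (e * f) * (a * g1) := by
    rw [cj_mul, cj_mul, k2.fix hD, k2.act hD, k3.act hD, mul_assoc e, ← mul_assoc a f, caf.eq]
    simp only [mul_assoc]
  have m4 : a * g1 = 1 ∨ a * g1 ∈ D := by
    rw [hD.inv k2.ha] at e1
    have := hD.comm_mem_or hb k2.ha fun o' => by
      have := o'.conj_self hD hb k2.ha
      rw [e1] at this
      have o2 := this.2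
      rw [hD.sq_assoc hb] at o2
      exact this.1 (by rw [eq_one_of_odd_of_sq o2 (EE.sq hD ha m3), mul_one])
    rwa [mul_assoc, mul_assoc, ← mul_assoc t, e1, hD.sq_assoc hb] at this
  rcases m4 with e2 | m4
  · rw [← hD.inv ha, inv_mul_eq_one] at e2
    subst e2
    rw [← k4.eq, k1.eq, ← cef.eq] at m2
    exact absurd (hR.eqv ha (mul_mem (self_EE ha) m2) hb) nq
  obtain ⟨μ, k5⟩ := k1.eqv_right hD m4 (hR.eqv ha m3 m4)
  have e2 : μ = e * h1 := k5.eq_of_act hD (by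
    rw [cj_mul, k1.act hD, k4.act hD, mul_assoc, ← mul_assoc e, ← cge.eq]; simp only [mul_assoc])
  have hμ := k5.hc hD
  have q3 : Eqv D e μ := hR.eqv he (e2 ▸ mul_mem (self_EE he) (RI.mem_EE hh q2)) hμ
  have cfh := (q.symm.trans q2).commute hf
  have e3 : e * f = μ * (f * h1) := by rw [e2, cfh.eq, mul_assoc, hD.sq_assoc hh]
  have m5 : g1 * (f * h1) ∈ D := by
    have := hD.conj_closure (mcl k1.ha) (k3.xb hD).2.2.2
    rwa [cj_mul, conj_of_commute cnf, k4.act hD, ← mul_assoc, cgf.eq, mul_assoc] at this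
  have q4 := hR.eqv ha (mul_mem (RI.mem_EE hg q1) m2) m5
  have n1 : ¬ Eqv D μ (g1 * (f * h1)) := fun q5 => k1.not_eqv hD (q3.trans (q5.trans q4.symm))
  have c2 : Commute μ (g1 * (f * h1)) := (q4 μ hμ).1 ((q3 a ha).1 cae).symm
  obtain ⟨s, hs, e4, c3⟩ := hR.line_swap hμ ⟨m5, c2, fun e5 => n1 (e5 ▸ Eqv.refl D _), by
    have := hD.conj_closure (mcl k2.ha) hb
    rwa [e1, mul_assoc a, ← mul_assoc (e * f), ← (cae.mul_right caf).eq, mul_assoc a, hD.sq_assoc ha, e3, mul_assoc,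
      ← (cgf.symm.mul_right (k4.cb hD)).eq] at this⟩ n1
  have c4 := c3 _ (EE.eq q3 ▸ m1) (EE.eq q4 ▸ m2)
  have := hD.conj_closure (mcl hs) hg
  rwa [← mul_one g1, ← EE.sq hD he m1, ← mul_assoc g1, cj_mul, cj_inv hD hs e4, conj_of_commute c4, ← e3] at this

theorem HG.he (hR : HG D) : HE D := by
  have hD := hR.toRI
  refine ⟨hD, hR.cl, fun e he f hf q ne => by_contra fun hu => ?_⟩
  have mu : e * f ∈ EE D e := mul_mem (self_EE he) (RI.mem_EE hf q)
  have u2 := EE.sq hD he mu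
  have u1 : e * f ≠ 1 := fun e1 => ne (by rwa [← hD.inv he, inv_mul_eq_one] at e1)
  have eu : e * (e * f) = f := hD.sq_assoc he f
  generalize e * f = u at hu mu u2 u1 eu
  have ui : u⁻¹ = u := inv_eq_of_mul_eq_one_right u2
  by_cases h0 : ∀ y ∈ D, ¬ Od y (u * y * u)
  · exact u1 (mem_bot.1 (hR.o2 ▸ mem_pCore_of_not_od hR.set he mu h0))
  push Not at h0
  obtain ⟨x, hx, h0⟩ := h0
  obtain ⟨c, hc, ocx, -, ccu, cwx, -⟩ := mid_of_invol hD u2 (fun d hd => by
    have := hR.set.conj_mem d hd u; rwa [ui] at this) hx h0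
  have wd : ∀ {a y}, a ∈ D → y ∈ D → a * u ∈ D → Commute a u → Commute y u → ¬ Od a y := fun ha hy h1 c1 c2 o =>
    u1 (hD.lemD hy o.symm u2 c2.symm c1.symm (c1.eq ▸ h1))
  obtain ⟨p, hp, hq, q1, cp⟩ : ∃ p ∈ D, p * u ∈ D ∧ Eqv D p (p * u) ∧ Commute c p := by
    by_cases c1 : Commute c e
    · exact ⟨e, he, eu ▸ hf, eu ▸ q, c1⟩
    have ceu := EE.commute mu he (Commute.refl e)
    obtain ⟨p, k1⟩ := exists_K hD hc he c1 fun o => wd he hc (eu ▸ hf) ceu ccu o.symm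
    obtain ⟨n, k2⟩ := k1.next hD hR.cl
    have m := (T2 hD k1 k2).mem hD
    have a1 := cj_inv hD m (swap3 hD k2 k1)
    have c2 := conj_of_commute (commute3 ccu.symm (EE.commute mu k2.ha (k2.ca hD)).symm).symm
    have h1 := hD.conj_closure (mcl m) hf
    have h2 := q.conj hD (mcl m)
    rw [← eu, cj_mul, a1, c2] at h1
    rw [← eu, cj_mul, a1, c2] at h2
    exact ⟨p, k1.hc hD, h1, h2, k1.ca hD⟩
  have mp : u ∈ EE D p := by
    have := mul_mem (self_EE hp) (RI.mem_EE hq q1)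
    rwa [hD.sq_assoc hp] at this
  have cpu := EE.commute mp hp (Commute.refl p)
  have opx : Od p x := by_contra fun n1 => hD.lemA' hx hp hq (fun o => n1 o.symm)
    (q1.not_od hD hp hq hx fun o => n1 o.symm) (by
      have := h0.conj p
      rwa [cj_mul, cj_mul, conj_of_commute cpu, hD.inv hp, show u * (p * x * p) * u = u * p * x * (p * u) by group,
        ← cpu.eq] at this)
  obtain ⟨h, hh, e1, hc'⟩ := exists_conj_via hD hp hc hx opx ocx
  have c1 := hc' (u * c) (cpu.symm.mul_left cp) (ccu.symm.mul_left (Commute.refl c)) cwx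
  have npc : ¬ Eqv D p c := fun q2 => by
    have m1 := mul_mem mp (RI.mem_EE hc q2)
    have := hR.eq_one hp hx opx (fun y hy => EE.commute m1 hy.1 hy.cm.symm) cwx.symm
    rw [← ui, inv_mul_eq_one] at this
    exact hu (this ▸ hc)
  have q2 := q1.conj hD hh
  rw [e1] at q2
  have ha := hD.conj_closure hh hq
  have e2 : h * (p * u) * h⁻¹ * u = h * c * h⁻¹ := by
    have e3 : p * u = p * (u * c) * c := by rw [mul_assoc, mul_assoc, hD.sq c hc, mul_one]
    have e4 : h * (p * u) * h⁻¹ = u * (h * c * h⁻¹) := by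
      rw [e3, cj_mul, cj_mul, e1, conj_of_commute c1.symm, ← ccu.eq, hD.sq_assoc hc]
    rw [((q2 _ hp).1 cp.symm |> fun c => EE.commute mp ha c.symm).eq, e4, ← mul_assoc, u2, one_mul]
  refine descent (Wd.pgroup hD p) (A := {a | a ∈ D ∧ Commute a p ∧ a * u ∈ D ∧ ¬ Eqv D a (a * u)})
    (fun a ha => subset_closure ⟨ha.1, ha.2.1, fun y hy cy => wd ha.1 hy ha.2.2.1 (EE.commute mp ha.1 ha.2.1)
      (EE.commute mp hy cy)⟩) (fun h => hD.ne 1 h.1 rfl) (t := h * (p * u) * h⁻¹)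
    ⟨ha, ((q2 _ hp).1 cp.symm).symm, e2 ▸ hD.conj_closure hh hc, fun q3 => npc ?_⟩ ?_
  · rw [e2] at q3
    have := (q2.trans q3).conj hD (inv_mem hh)
    nth_rewrite 1 [← e1] at this
    simpa [mul_assoc] using this
  rintro a ⟨ha, c2, hb, nq⟩
  have cau := EE.commute mp ha c2
  have npa : ¬ Eqv D p a := fun q3 => nq (q3.symm.trans (hR.eqv hp (mul_mem (RI.mem_EE ha q3) mp) hb))
  have wa : ∀ y ∈ D, Commute y p → ¬ Od a y := fun y hy cy => wd ha hy hb cau (EE.commute mp hy cy)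
  obtain ⟨y, n, φ, o, k1, k2, k3, -⟩ := lemS hD hR.cl ha hp c2 npa wa
  have cnu := EE.commute mp k2.hb (k1.cb hD).symm
  have k4 : K D (a * u) n φ := K.of_act hD hb k2.hb (hD.ne _ (k2.hc hD))
    (wd hb k2.hb (by rwa [mul_assoc, u2, mul_one]) (cau.mul_left (Commute.refl u)) cnu)
    (by rw [cj_cj, conj_of_commute cnu.symm, k2.act hD])
  have o2 := T2 hD k4 k3
  obtain ⟨n2, k5⟩ := k1.eqv_right hD hq q1
  obtain ⟨h2, k6, -, -⟩ := T5 hD o ((q1 a ha).1 c2) k5
  have c3 : Commute n2 p := (q1 n2 k6.hb).2 (k5.cb hD).symm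
  have c4 := EE.commute mp k6.hb c3
  have e3 : y * u * y⁻¹ = u * (n * n2) := by
    have : u = p * (p * u) := (hD.sq_assoc hp u).symm
    conv_lhs => rw [this, cj_mul, k1.act hD, k5.act hD, mul_assoc p n, ← mul_assoc n,
      ((q1 n k2.hb).1 (k1.cb hD).symm).eq, mul_assoc (p * u), ← mul_assoc p, ← this]
  have e4 : a * (y * u * y⁻¹) * a⁻¹ = y * u * y⁻¹ * u := by
    have e5 : u = a * (a * u) := (hD.sq_assoc ha u).symm
    have i1 := hD.inv ha
    have i2 := hD.inv o.hy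
    have r1 := o.eq
    have r2 := o2.eq
    have c5 : Commute a (a * u) := (Commute.refl a).mul_right cau
    generalize a * u = b at e5 r2 c5
    rw [e5, i1, i2]
    calc _ = a * y * a * b * y * a := by group
      _ = y * a * (y * b * y) * a := by rw [r1]; group
      _ = y * a * b * y * (b * a) := by rw [← r2]; group
      _ = _ := by rw [← c5.eq]; group
  have e5 : h2 = φ * u := by
    rw [e3, cj_mul, cj_mul, conj_of_commute cau, k2.act hD, k6.act hD, mul_assoc u, mul_assoc n, mul_assoc n] at e4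
    have e6 := mul_left_cancel (mul_left_cancel e4)
    have e7 : h2 * n2 = φ * u * n2 := by
      rw [← (k6.cb hD).eq, mul_assoc, ← c4.eq, ← e6, hD.sq_assoc (k2.hc hD)]
    exact mul_right_cancel e7
  have hφ := k2.hc hD
  by_cases q3 : Eqv D φ (φ * u)
  · have e6 : φ * (φ * u) = u := hD.sq_assoc hφ u
    exact absurd (e6 ▸ hR.fin2 q3 (k2.symm hD) (e5 ▸ k6.xa hD) (e6.symm ▸ hb) (e6.symm ▸ nq)) hu
  refine ⟨n, subset_closure ((XT.of_xp hp (k1.xb hD)).wd hD), 1, ?_⟩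
  rw [pow_one, hD.inv ha, hD.inv k2.hb, k2.eq]
  exact ⟨hφ, (k2.commute c2.symm (k1.cb hD)).symm, e5 ▸ k6.hc hD, q3⟩

theorem HG.hn (hR : HG D) : HN D := ⟨hR.he, hR.fo⟩

end CfsgH7.RI
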