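import Cfsg.Agent.H7.RT2

/-! Root involutions (helper7): far pairs force a geometry without planes and polar pairs. -/

set_option autoImplicit false
set_option linter.unusedSectionVars false

namespace CfsgH7.RI
open Cfsg CfsgH9 Subgroup

variable {G : Type*} [Group G] [Finite G] {D : Set G}
  {a a' b b' c c' c2 d d' e e' f g h m n p p' q r s t u v v' w x x' y z κ : G}

theorem HN.hc (hR : HN D) : HC D := ⟨hR.toRI, hR.cl⟩

theorem HN.xt_xp (hR : HN D) (hd : d ∈ D) (h : XT D d v) (n : ¬ Eqv D d v) : XP D d v :=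
  Good.xp hR.toHE hd ⟨h, n, hR.rr h⟩

theorem HN.xp_eqv (hR : HN D) (hd : d ∈ D) (h : XP D d v) (n : ¬ Eqv D d v) (hv : v' ∈ D) (q : Eqv D v v') :
    XP D d v' := ((hR.good_of hd h n).eqv_right hR.toHE hd hv q.symm).xp hR.toHE hd

theorem HN.bij (hR : HN D) (k : K D a w v) (he : e ∈ D) (q : Eqv D v e) : ∃ w' ∈ D, Eqv D w' w ∧ K D a w' e :=
  have hD := hR.toRI
  (hR.good_of (k.hc hD) ((k.xb hD).symm k.hb) (k.not_eqv hD)).bij hR.toHE (k.hc hD)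
    (XT.of_xp (k.hc hD) ((k.xa hD).symm k.ha)) (k.nc hD) he q

theorem HN.bijE (hR : HN D) (k : K D a w v) (he : e ∈ EE D v) : ∃ w' ∈ EE D w, a * w' * a⁻¹ = w' * e := by
  rcases (hR.mem_EE (k.hc hR.toRI)).1 he with rfl | ⟨h1, h2⟩
  · exact ⟨1, one_mem _, by simp⟩
  obtain ⟨w', h3, h4, k1⟩ := hR.bij k h1 h2
  exact ⟨w', RI.mem_EE h3 h4.symm, k1.act hR.toRI⟩

theorem HN.Keqv (hR : HN D) (k : K D a b c) (ha : a' ∈ D) (q1 : Eqv D a a') (hb : b' ∈ D) (q2 : Eqv D b b') :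
    ∃ c', K D a' b' c' ∧ Eqv D c c' := by
  have hD := hR.toRI
  obtain ⟨c1, k1⟩ := (k.symm hD).eqv_right hD ha q1
  obtain ⟨c', k2⟩ := (k1.symm hD).eqv_right hD hb q2
  exact ⟨c', k2, hR.lemB (k.hc hD) k2 (hR.xp_eqv (k.hc hD) ((k.xa hD).symm k.ha) ((k.symm hD).not_eqv hD) ha q1)
    (hR.xp_eqv (k.hc hD) ((k.xb hD).symm k.hb) (k.not_eqv hD) hb q2)⟩

theorem HN.wdK (hR : HN D) (hd : d ∈ D) (ha : a ∈ Wd D d) (hb : b ∈ Wd D d) (n : ¬ Commute a b) :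
    ∃ c, K D a b c ∧ Eqv D d c := by
  have hD := hR.toRI
  obtain ⟨c, k⟩ := exists_K hD ha.1 hb.1 n (ha.2.2 b hb.1 hb.2.1)
  exact ⟨c, k, hR.lemB hd k (hR.lemA hd ha fun e => n (e ▸ hb.2.1.symm)) (hR.lemA hd hb fun e => n (e ▸ ha.2.1))⟩

theorem _root_.CfsgH9.XP.wd (hD : RI D) (hd : d ∈ D) (h : XP D d v) : v ∈ Wd D d := (XT.of_xp hd h).wd hD

theorem Eqv.wd (hD : RI D) (q : Eqv D d e) (hd : d ∈ D) (he : e ∈ D) : e ∈ Wd D d :=
  ⟨he, (q.commute hd).symm, fun x hx c o => o.not_comm hD he hx ((q x hx).1 c).symm⟩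

theorem wd_self (hD : RI D) (hd : d ∈ D) : d ∈ Wd D d := (Eqv.refl D d).wd hD hd hd

theorem K.wa (hD : RI D) (k : K D a b c) : a ∈ Wd D c := ((k.xa hD).symm k.ha).wd hD (k.hc hD)

theorem K.wb (hD : RI D) (k : K D a b c) : b ∈ Wd D c := ((k.xb hD).symm k.hb).wd hD (k.hc hD)

/-- the group `M_d` -/
abbrev MM (D : Set G) (d : G) : Subgroup G := closure (Wd D d)

theorem mMM (h : a ∈ Wd D d) : a ∈ MM D d := subset_closure h

theorem MM.cm (h : g ∈ MM D d) (he : e ∈ EE D d) : Commute g e :=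
  closure_induction (fun x hx => EE.commute he hx.1 hx.2.1) (Commute.one_left e)
    (fun _ _ _ _ h1 h2 => h1.mul_left h2) (fun _ _ h => h.inv_left) h

theorem Wd.conj' (hD : RI D) (hw : w ∈ Wd D d) (hg : g ∈ closure D) : g * w * g⁻¹ ∈ Wd D (g * d * g⁻¹) :=
  ⟨hD.conj_closure hg hw.1, commute_cj hw.2.1 g, fun x hx cx o => hw.2.2 _
    (hD.conj_closure (inv_mem hg) hx) (by simpa [mul_assoc] using commute_cj cx g⁻¹) (by
      simpa [mul_assoc] using o.conj g⁻¹)⟩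

theorem MM.conj (hD : RI D) (h : a ∈ MM D d) (hg : g ∈ closure D) : g * a * g⁻¹ ∈ MM D (g * d * g⁻¹) := by
  induction h using closure_induction with
  | one => simp
  | mem x hx => exact mMM (Wd.conj' hD hx hg)
  | mul x y _ _ ihx ihy => rw [cj_mul]; exact mul_mem ihx ihy
  | inv x _ ih => convert inv_mem ih using 1; group

theorem MM.eq (q : Eqv D d e) (hd : d ∈ D) (he : e ∈ D) : MM D d = MM D e := by
  have : Wd D d = Wd D e := Set.ext fun w => ⟨fun h => ⟨h.1, (q w h.1).1 h.2.1, fun x hx c => h.2.2 x hx ((q x hx).2 c)⟩,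
    fun h => ⟨h.1, (q w h.1).2 h.2.1, fun x hx c => h.2.2 x hx ((q x hx).1 c)⟩⟩
  unfold MM; rw [this]

theorem MM.le : MM D d ≤ closure D := closure_mono fun _ h => h.1

theorem EE.le : EE D d ≤ closure D := closure_mono fun _ h => h.1

theorem HN.br (hR : HN D) (hd : d ∈ D) (ha : a ∈ MM D d) (hb : b ∈ MM D d) : ∃ e ∈ EE D d, a * b * a⁻¹ = b * e := by
  have := hR.comm_le hd (commutator_mem_commutator ha hb)
  refine ⟨_, this, ?_⟩
  rw [(MM.cm hb this).eq, commutatorElement_def, inv_mul_cancel_right]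

theorem HN.line_mem (hR : HN D) (ha : a ∈ D) (h : XP D a c) (n : ¬ Eqv D a c) (h1 : a' ∈ EE D a) (h2 : c' ∈ EE D c) :
    a' * c' = 1 ∨ a' * c' ∈ D := by
  rcases (hR.mem_EE ha).1 h1 with rfl | ⟨h3, h4⟩
  · rw [one_mul]; exact ((hR.mem_EE h.1).1 h2).imp_right And.left
  rcases (hR.mem_EE h.1).1 h2 with rfl | ⟨h5, h6⟩
  · rw [mul_one]; exact Or.inr h3
  have := hR.xp_eqv h5 ((hR.xp_eqv ha h n h5 h6).symm ha) (fun q => n (h6.trans q).symm) h3 h4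
  exact Or.inr (this.symm h5).2.2.2

theorem HN.EE_inf (hR : HN D) (ha : a ∈ D) (hb : b ∈ D) (n : ¬ Eqv D a b) (h1 : z ∈ EE D a) (h2 : z ∈ EE D b) :
    z = 1 := ((hR.mem_EE ha).1 h1).resolve_right fun h => n (h.2.trans (hR.hc.eqv hb h2 h.1).symm)

theorem s4_act (hD : RI D) (o1 : O3 D a y) (o2 : O3 D b y) (c : Commute a b) :
    a * (y * (a * b) * y⁻¹) * a⁻¹ = y * (a * b) * y⁻¹ * (a * b) := by
  rw [hD.inv o1.ha, hD.inv o1.hy]
  calc _ = a * y * a * b * y * a := by group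
    _ = y * a * (y * b * y) * a := by rw [o1.eq]; group
    _ = y * a * b * y * (b * a) := by rw [← o2.eq]; group
    _ = _ := by rw [← c.eq]; group

theorem s4_not_od (hD : RI D) (o1 : O3 D a y) (o2 : O3 D b y) (c : Commute a b) (h : a * b ∈ D) : ¬ Od (a * b) y :=
  fun o => nc hD h (hD.conj y o1.hy _ h) (o.conj_self hD h o1.hy) (commute_of_conj_eq (by
    have e1 := s4_act hD o1 o2 c
    have e2 := s4_act hD o2 o1 c.symm
    rw [← c.eq] at e2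
    rw [hD.inv o1.hy] at e1 e2
    rw [cj_cj, e2, cj_mul, e1, conj_of_commute ((Commute.refl a).mul_right c), mul_assoc, hD.sq _ h, mul_one]))

theorem s4_swap (hD : RI D) (o1 : O3 D a y) (o2 : O3 D b y) (c : Commute a b) :
    y * (a * b) * y⁻¹ * a * (y * (a * b) * y⁻¹)⁻¹ = b := by
  have e1 : a * b * a = b := by rw [c.eq, mul_assoc, hD.sq a o1.ha, mul_one]
  rw [mul_inv_rev, mul_inv_rev, mul_inv_rev, inv_inv, hD.inv o1.ha, hD.inv o1.hy, hD.inv o2.ha]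
  calc _ = y * a * b * (y * a * y) * b * a * y := by group
    _ = y * (a * b * a) * y * (a * b * a) * y := by rw [← o1.eq]; group
    _ = y * (b * y * b) * y := by rw [e1]; group
    _ = b := by rw [o2.eq, mul_assoc y b y, hD.sq_assoc o1.hy, mul_assoc, hD.sq y o1.hy, mul_one]

/-- a normalised path of length three -/
structure P3 (D : Set G) (u v w x : G) : Prop where
  k1 : K D u w v
  k2 : K D x v w

theorem P3.symm (h : P3 D u v w x) : P3 D x w v u := ⟨h.k2, h.k1⟩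

theorem P3.o3 (hD : RI D) (h : P3 D u v w x) : O3 D u x := T2 hD h.k1 h.k2

theorem P3.conj (hD : RI D) (h : P3 D u v w x) (hg : g ∈ closure D) :
    P3 D (g * u * g⁻¹) (g * v * g⁻¹) (g * w * g⁻¹) (g * x * g⁻¹) := ⟨h.k1.conj hD hg, h.k2.conj hD hg⟩

theorem P3.eqv (hR : HN D) (h : P3 D u v w x) (ha : a ∈ D) (q : Eqv D u a) :
    ∃ v' x', Eqv D v v' ∧ Eqv D x x' ∧ P3 D a v' w x' := by
  have hD := hR.toRI
  obtain ⟨v', k1, q1⟩ := hR.Keqv h.k1 ha q h.k1.hb (Eqv.refl D w)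
  obtain ⟨w', k2, q2⟩ := hR.Keqv h.k2 h.k2.ha (Eqv.refl D x) (k1.hc hD) q1
  obtain ⟨x', -, q3, k3⟩ := hR.bij (k2.symm hD) h.k1.hb q2.symm
  exact ⟨v', x', q1, q3.symm, k1, k3.symm hD⟩

def Far (D : Set G) (d x : G) : Prop := Od d x ∧ ∀ v, XP D d v → Od v x

theorem HN.path (hR : HN D) (hd : d ∈ D) (hx : x ∈ D) (o : Od d x) (n : ¬ Far D d x) :
    ∃ v w x', Eqv D x x' ∧ P3 D d v w x' := by
  have hD := hR.toRI
  obtain ⟨v0, h1, h2⟩ : ∃ v, XP D d v ∧ ¬ Od v x := by_contra fun H => n ⟨o, fun v hv => by_contra fun o => H ⟨v, hv, o⟩⟩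
  obtain ⟨w, k1⟩ := h1.exists_K hD hx o h2
  obtain ⟨v, k2⟩ := lemB' hD hd o h1.cm k1
  obtain ⟨w1, k3, q⟩ := hR.wdK k2.hb (k1.wa hD) ((k2.xb hD).wd hD k2.hb)
    fun c => (k2.xa hD).not_comm hD hx o c.symm
  obtain ⟨x', -, q1, k4⟩ := hR.bij (k3.symm hD) k2.hb q.symm
  exact ⟨v, w, x', q1.symm, k2, k4.symm hD⟩

theorem P3.not_far (hD : RI D) (h : P3 D u v w x) : ¬ Far D u x := fun f =>
  h.k2.fo.not_od (f.2 v (h.k1.xa hD)).symm

theorem Far.eqv (hD : RI D) (f : Far D d x) (hd : d ∈ D) (hx : x ∈ D) (hx' : x' ∈ D) (q : Eqv D x x') : Far D d x' :=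
  ⟨(q.od' hD hx hx' hd f.1.symm).symm, fun v hv => (q.od' hD hx hx' hv.1 (f.2 v hv).symm).symm⟩

theorem Far.symm (hR : HN D) (f : Far D d x) (hd : d ∈ D) (hx : x ∈ D) : Far D x d := by_contra fun n => by
  obtain ⟨v, w, d', q, h⟩ := hR.path hx hd f.1.symm n
  have hD := hR.toRI
  have := f.2 w (hR.xp_eqv h.k1.hb ((h.k2.xa hD).symm h.k2.ha) ((h.k2.symm hD).not_eqv hD) hd q.symm |>.symm h.k1.hb)
  exact h.k1.fo.not_od this.symm

theorem Far.eqv' (hR : HN D) (f : Far D d x) (hd : d ∈ D) (hx : x ∈ D) (hd' : d' ∈ D) (q : Eqv D d d') :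
    Far D d' x := ((f.symm hR hd hx).eqv hR.toRI hx hd hd' q).symm hR hx hd'

theorem Far.conj (hD : RI D) (f : Far D d x) (hg : g ∈ closure D) : Far D (g * d * g⁻¹) (g * x * g⁻¹) :=
  ⟨f.1.conj g, fun v hv => by
    have := (f.2 (g⁻¹ * v * g⁻¹⁻¹) (by simpa [mul_assoc] using hv.conj hD (inv_mem hg))).conj g
    simpa [mul_assoc] using this⟩

theorem HN.exists_o3 (hR : HN D) (hd : d ∈ D) (hx : x ∈ D) (o : Od d x) (n : ¬ Far D d x) :
    ∃ x' ∈ D, Eqv D x x' ∧ O3 D d x' := by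
  obtain ⟨v, w, x', q, h⟩ := hR.path hd hx o n
  exact ⟨x', h.k2.ha, q, h.o3 hR.toRI⟩

theorem HG.lemZ (hR : HG D) (hc : c ∈ D) (hd : d ∈ D) (c1 : Commute c d) (H : ∀ v, XP D d v → Commute v c) :
    Eqv D d c := by_contra fun n => by
  have hD := hR.toRI
  obtain ⟨x, hx, o, n1⟩ := exists_od_not_od hD hR.cl hd hc (aset_ne hD hR.cl hd hc n)
  obtain ⟨g, k⟩ := exists_K hD hx hc (fun c2 => hD.ne c hc (hR.eq_one hd hx o H c2)) fun o => n1 o.symm
  obtain ⟨f, k1⟩ := lemB' hD hd o c1.symm k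
  obtain ⟨t, k2⟩ := (k1.symm hD).next hD hR.cl
  exact ((k.xb hD).symm hc).not_comm hD k2.ha (T2 hD (k1.symm hD) k2).od (H t ((k2.xa hD).symm k2.ha)).symm

theorem brK_wd (hD : RI D) (k : K D c v g) (hv : v ∈ Wd D d) (c1 : Commute c d) : g ∈ Wd D d := by
  have := mul_mem (mMM hv) (mMM (Wd.conj hD hv (mcl k.ha) c1))
  rw [k.act hD, hD.sq_assoc k.hb] at this
  exact Wd.of_mem hD (k.hc hD) this

theorem Far.cent (hR : HG D) (f : Far D d x) (hd : d ∈ D) (hx : x ∈ D) (hc : c ∈ D) (c1 : Commute c d) : Od c x := by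
  have hD := hR.toRI
  by_contra n
  by_cases c2 : Commute x c
  · by_cases q : Eqv D d c
    · exact n (q.od' hD hd hc hx f.1)
    obtain ⟨v, hv, n1⟩ : ∃ v, XP D d v ∧ ¬ Commute v c :=
      by_contra fun H => q (hR.lemZ hc hd c1 fun v hv => by_contra fun c => H ⟨v, hv, c⟩)
    obtain ⟨g, k⟩ := exists_K hD hc hv.1 (fun c => n1 (Commute.symm c)) fun o => hv.not_od hD hd hc c1.symm o.symm
    refine (k.xa hD).not_od hD hc hx c2.symm ?_
    by_cases e : g = d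
    · exact e ▸ f.1
    · exact f.2 g (hR.hn.lemA hd (brK_wd hD k (hv.wd hD hd) c1) e)
  obtain ⟨n', k⟩ := exists_K hD hx hc c2 fun o => n o.symm
  obtain ⟨f', k1⟩ := lemB' hD hd f.1 c1.symm k
  exact (k1.xb hD).not_od hD k1.hb hx (k.ca hD).symm (f.2 f' (k1.xa hD))

/-- at most one point of a line of odd partners of `x` is not far from `x` -/
theorem HN.F2 (hR : HN D) (hp : p ∈ D) (hx : x ∈ D) (h : XP D p p') (n : ¬ Eqv D p p')
    (H : ∀ z ∈ D, z ∈ EE D p ⊔ EE D p' → Od z x) : Far D p x ∨ Far D p' x := by_contra fun H1 => by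
  have hD := hR.toRI
  have o1 := H p hp (mem_sup_left (self_EE hp))
  have o2 := H p' h.1 (mem_sup_right (self_EE h.1))
  obtain ⟨a, ha, q1, r1⟩ := hR.exists_o3 hx hp o1.symm fun f => H1 (Or.inl (f.symm hR hx hp))
  obtain ⟨b, hb, q2, r2⟩ := hR.exists_o3 hx h.1 o2.symm fun f => H1 (Or.inr (f.symm hR hx h.1))
  have m1 := RI.mem_EE ha q1
  have m2 := RI.mem_EE hb q2
  rcases hR.line_mem hp h n m1 m2 with e | m
  · rw [← hD.inv ha, inv_mul_eq_one] at e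
    exact n (q1.trans (e ▸ q2).symm)
  exact s4_not_od hD r1.symm r2.symm (EE.commute' m1 m2 hp h.cm) m (H _ m (mul_mem_sup m1 m2))

theorem sup_cm (hd : d ∈ D) (h1 : Commute d p) (h2 : Commute d p') (hz : z ∈ EE D p ⊔ EE D p') : Commute z d := by
  have : EE D p ⊔ EE D p' ≤ centralizer {d} := sup_le
    (fun e he => mem_centralizer_singleton_iff.2 (EE.commute he hd h1).symm)
    (fun e he => mem_centralizer_singleton_iff.2 (EE.commute he hd h2).symm)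
  exact mem_centralizer_singleton_iff.1 (this hz)

/-- a far pair at distance four -/
structure P4 (D : Set G) (d u v w x : G) : Prop extends P3 D u v w x where
  k3 : K D d v u
  far : Far D d x

theorem P4.symm (hR : HN D) (h : P4 D d u v w x) : P4 D x w v u d :=
  ⟨⟨h.k1.symm hR.toRI, h.k3⟩, h.k2, h.far.symm hR h.k3.ha h.k2.ha⟩

theorem HG.exists_P4 (hR : HG D) (hd : d ∈ D) (hx : x ∈ D) (f : Far D d x) : ∃ d u v w x, P4 D d u v w x := by
  have hD := hR.toRI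
  have hN := hR.hn
  obtain ⟨a, ha, b, hb, h4⟩ := hR.fo
  have key : ∀ y, ER D x y → Far D y x → ∃ u ∈ D, ∃ d, XP D u d ∧ ¬ Far D u x ∧ Far D d x := fun y h => by
    induction h with
    | refl => exact fun f => (od_irrefl f.1).elim
    | @tail u y h1 h2 ih =>
      intro f
      by_cases f1 : Far D u x
      · exact ih f1
      · exact ⟨u, h2.1, y, xp_of_adj h2, f1, f⟩
  obtain ⟨u, hu, d, h1, n, f⟩ := key d (er_connected (specDisc _) hD hR.cl ha hb h4 hx hd) f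
  obtain ⟨v, w, x', q, h⟩ := hN.path hu hx (f.2 u (h1.symm hu)) n
  replace f := f.eqv hD h1.1 hx h.k2.ha q
  obtain ⟨u', k, q1⟩ := hN.wdK hu ((h.k1.xa hD).wd hD hu) (h1.wd hD hu) fun c =>
    h.k2.fo.not_od (f.cent hR h1.1 h.k2.ha h.k2.hb c).symm
  obtain ⟨d', hd', q2, k1⟩ := hN.bij k hu q1.symm
  exact ⟨d', u, v, w, x', h, k1.symm hD, f.eqv' hN h1.1 h.k2.ha hd' q2.symm⟩

theorem P4.no_cent (hR : HG D) (h : P4 D d u v w x) (hc : c ∈ D) (c1 : Commute c u) (c2 : Commute c x) : False := by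
  have hD := hR.toRI
  have hd := h.k3.ha
  have hx := h.k2.ha
  by_cases c3 : Commute c d
  · exact nc hD hc hx (h.far.cent hR hd hx hc c3) c2
  obtain ⟨g, k⟩ := exists_K hD hc hd c3 fun o => (h.k3.wa hD).2.2 c hc c1 o.symm
  exact (k.xa hD).not_od hD hc hx c2 (h.far.cent hR hd hx (k.hc hD) (k.cb hD).symm)

/-- `κ` lies on the line through `v` and `w` -/
def OnL (D : Set G) (v w κ : G) : Prop := ∃ v' ∈ EE D v, ∃ w' ∈ EE D w, κ = v' * w'

theorem OnL.symm (h : OnL D v w κ) (hv : v ∈ D) (c : Commute v w) : OnL D w v κ := by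
  obtain ⟨a, h1, b, h2, rfl⟩ := h
  exact ⟨b, h2, a, h1, EE.commute' h1 h2 hv c⟩

theorem OnL.cm (h : OnL D v w κ) (hy : y ∈ D) (h1 : Commute y v) (h2 : Commute y w) : Commute y κ := by
  obtain ⟨a, h3, b, h4, rfl⟩ := h
  exact (EE.commute h3 hy h1).mul_right (EE.commute h4 hy h2)

theorem HN.wd_mul (hR : HN D) (hw : w ∈ D) (hκ : κ ∈ Wd D w) (he : e ∈ EE D w) : κ * e = 1 ∨ κ * e ∈ D := by
  by_cases q : Eqv D w κ
  · exact ((hR.mem_EE hw).1 (mul_mem (RI.mem_EE hκ.1 q) he)).imp_right And.left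
  · exact hR.line_mem hκ.1 ((hR.lemA hw hκ fun e => q (e ▸ Eqv.refl D _)).symm hw) (fun q' => q q'.symm)
      (self_EE hκ.1) he

theorem P4.stepA (hR : HG D) (h : P4 D d u v w x) (h1 : κ ∈ Wd D v) (h2 : κ ∈ Wd D w) : OnL D v w κ := by
  have hD := hR.toRI
  have hN := hR.hn
  have hv := h.k2.hb
  have hw := h.k1.hb
  obtain ⟨e, m1, e1⟩ := hN.br hv (mMM (h.k1.wa hD)) (mMM h1)
  obtain ⟨w', m2, e2⟩ := hN.bijE h.k1 m1
  have cvw := h.k2.cb hD
  have c1 : Commute u (κ * w') := commute_of_conj_eq (by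
    rw [cj_mul, e1, e2, mul_assoc, ← mul_assoc e, (EE.commute' m1 m2 hv cvw).eq, mul_assoc w', EE.sq hD hv m1, mul_one])
  have w2 := EE.sq hD hw m2
  rcases hN.wd_mul hw h2 m2 with e3 | m3
  · exact ⟨1, one_mem _, w', m2, by rw [one_mul, ← mul_one κ, ← w2, ← mul_assoc, e3, one_mul]⟩
  have m4 := EE_le_wd hD (h.k1.wb hD) hv m2
  have m5 := EE_le_wd hD (wd_self hD hw) hw m2
  obtain ⟨e', m6, e3⟩ := hN.br hw (mMM (h.k2.wa hD)) (mul_mem (mMM h2) m5)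
  obtain ⟨v', m7, e4⟩ := hN.bijE h.k2 m6
  have c2 : Commute x (κ * w' * v') := commute_of_conj_eq (by
    rw [cj_mul, e3, e4, mul_assoc, ← mul_assoc e', (EE.commute' m6 m7 hw cvw.symm).eq, mul_assoc v', EE.sq hD hw m6,
      mul_one])
  rcases hN.wd_mul hv (Wd.of_mem hD m3 (mul_mem (mMM h1) m4)) m7 with e5 | m8
  · refine ⟨v', m7, w', m2, ?_⟩
    rw [← mul_one κ, ← w2, ← mul_assoc, ← mul_one (κ * w'), ← EE.sq hD hv m7, ← mul_assoc (κ * w'), e5, one_mul]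
  · exact (h.no_cent hR m8 (c1.mul_right (EE.commute m7 h.k1.ha (h.k1.ca hD))).symm c2.symm).elim

theorem P4.stepB (hR : HG D) (h : P4 D d u v w x) (hκ : κ ∈ D) (c1 : Commute κ u) (c2 : Commute κ w) :
    Eqv D v κ := by
  have hD := hR.toRI
  have hN := hR.hn
  have hv := h.k2.hb
  have hw := h.k1.hb
  have hu := h.k1.ha
  have hx := h.k2.ha
  have o := h.o3 hD
  have c3 : Commute κ v := h.k1.commute c1 c2
  obtain ⟨w', k1⟩ := exists_K hD hx hκ (fun c => h.no_cent hR hκ c1 (Commute.symm c)) ((h.k2.wa hD).2.2 κ hκ c2)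
  have m1 := brK_wd hD (k1.symm hD) (h.k2.wa hD) c2
  have q : Eqv D w w' := by
    obtain ⟨g, k2, k3, -⟩ := T5 hD o c1.symm k1
    have c4 : Commute v w' := by
      have := commute_cj c3 x
      rw [k1.act hD, h.k2.act hD] at this
      have := c3.inv_left.mul_left (by simpa using this.mul_right (c2.mul_left m1.2.1).inv_right : Commute (κ * w') v)
      rw [inv_mul_cancel_left] at this
      exact this.symm
    obtain ⟨v1, m2, u1, m3, e1⟩ := (h.symm hN).stepA hR (brK_wd hD (k2.symm hD) (h.k1.wa hD) c4.symm)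
      ((k2.xa hD).wd hD hu)
    rcases (hN.mem_EE hu).1 m3 with rfl | ⟨hu1, q1⟩
    · rw [mul_one] at e1
      obtain ⟨w2, k4, q2⟩ := hN.Keqv h.k2 hx (Eqv.refl D x) k3.hb (hN.hc.eqv hv (e1 ▸ m2) k3.hb)
      rwa [← k4.eq, k3.eq] at q2
    exfalso
    obtain ⟨w1, m4, e2⟩ := hN.br hw (mMM (h.k2.wa hD)) (EE_le_wd hD ((h.k2.xb hD).symm hv |>.wd hD hw) hw m2)
    have o1 := (q1.od' hD hu hu1 hx o.od).conj_self hD hu1 hx
    have e3 : u1 = v1 * g := by rw [e1, ← mul_assoc, EE.sq hD hv m2, one_mul]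
    have c5 := EE.commute m4 m1.1 m1.2.1
    obtain ⟨v2, m5, e5⟩ := hN.br hv (mMM (brK_wd hD (k2.symm hD) (h.k1.wa hD) c4.symm))
      (EE_le_wd hD (h.k1.wb hD) hv m4)
    have c8 := EE.commute' m4 m5 hw (h.k2.cb hD).symm
    have e4 : u1 * (x * u1 * x) = w1 * v2 * w' := by
      nth_rewrite 2 [← hD.inv hx]
      have c6 : Commute g v1 := e1 ▸ (Commute.refl v1).mul_left (EE.commute m2 hu1 ((q1 v hv).1 (h.k1.ca hD).symm).symm)
      rw [e3, cj_mul, e2, k3.act hD, ← e5, hD.inv k3.hb, ← c6.eq, mul_assoc g, mul_assoc v1 w1, ← mul_assoc v1,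
        EE.sq hD hv m2]
      group
    exact o1.mul_ne_one hD hu1 (eq_one_of_odd_of_sq o1.2 (by
      rw [e4, ← pow_two, (c5.symm.mul_left (EE.commute m5 m1.1 c4.symm).symm).mul_pow, c8.mul_pow, pow_two, pow_two,
        pow_two, hD.sq _ m1.1, EE.sq hD hw m4, EE.sq hD hv m5, mul_one, mul_one]))
  have x1 := hN.xp_eqv hκ (k1.xb hD) (fun q' => k1.not_eqv hD q'.symm) hw q.symm
  have k2 : K D u (κ * w) v := K.of_act hD hu x1.2.2.2 (hD.ne v hv)
    (fun o' => (x1.mul hD hκ).not_od hD hκ hu c1 o'.symm)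
    (by rw [cj_mul, conj_of_commute c1.symm, h.k1.act hD, mul_assoc])
  have m2 := mul_mem (mMM (k2.wb hD)) (mMM (h.k1.wb hD))
  rw [mul_assoc, hD.sq w hw, mul_one] at m2
  obtain ⟨v1, m3, w1, m4, e1⟩ := h.stepA hR (Wd.of_mem hD hκ m2) ((x1.symm hκ).wd hD hw)
  have := hN.eq_one hw m4 hu (by
    have := (EE.commute m3 hu (h.k1.ca hD)).inv_right.mul_right c1.symm
    rwa [e1, inv_mul_cancel_left] at this) (h.k1.nc hD)
  rw [this, mul_one] at e1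
  exact hN.hc.eqv hv (e1 ▸ m3) hκ

/-- no plane contains the line through `v` and `a` -/
def NPl (D : Set G) (v a : G) : Prop := ∀ b ∈ Wd D v, b ∈ Wd D a → OnL D v a b

theorem OnL.conj (hD : RI D) (h : OnL D v w κ) (hg : g ∈ closure D) :
    OnL D (g * v * g⁻¹) (g * w * g⁻¹) (g * κ * g⁻¹) := by
  obtain ⟨a, h1, b, h2, rfl⟩ := h
  exact ⟨_, EE.conj hD hg h1, _, EE.conj hD hg h2, cj_mul _ _ _⟩

theorem NPl.conj (hD : RI D) (h : NPl D v a) (hg : g ∈ closure D) : NPl D (g * v * g⁻¹) (g * a * g⁻¹) :=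
  fun b h1 h2 => by
    have := (h (g⁻¹ * b * g⁻¹⁻¹) (by simpa [mul_assoc] using Wd.conj' hD h1 (inv_mem hg))
      (by simpa [mul_assoc] using Wd.conj' hD h2 (inv_mem hg))).conj hD hg
    simpa [mul_assoc] using this

theorem NPl.eqv (hD : RI D) (h : NPl D v a) (ha : a ∈ D) (ha' : a' ∈ D) (q : Eqv D a a') : NPl D v a' :=
  fun b h1 h2 => by
    obtain ⟨v', h3, w', h4, e⟩ := h b h1 (Wd.of_mem hD h2.1 ((MM.eq q ha ha').ge (mMM h2)))
    exact ⟨v', h3, w', EE.eq q ▸ h4, e⟩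

/-- a line is determined by two of its points -/
theorem HN.line_conj (hR : HN D) (hv : v ∈ D) (ha : a ∈ Wd D v) (n : ¬ Eqv D v a) (hκ : κ ∈ D) (h : OnL D v a κ)
    (n1 : ¬ Eqv D v κ) : ∃ t ∈ MM D v, Eqv D (t * a * t⁻¹) κ := by
  have hD := hR.toRI
  obtain ⟨v', h1, a', h2, rfl⟩ := h
  rcases (hR.mem_EE ha.1).1 h2 with rfl | ⟨h3, q⟩
  · rw [mul_one] at hκ n1; exact absurd (hR.hc.eqv hv h1 hκ) n1
  rcases (hR.mem_EE hv).1 h1 with rfl | ⟨h4, q1⟩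
  · exact ⟨1, one_mem _, by simpa using q⟩
  obtain ⟨t, k⟩ := T1 hD hR.cl h3 (hR.xp_eqv h3 ((hR.xp_eqv hv (hR.lemA hv ha fun e => n (e ▸ Eqv.refl D _)) n h3
    q).symm hv) (fun q2 => n (q.trans q2).symm) h4 q1) fun q2 => n (q1.trans (q.trans q2).symm)
  refine ⟨t, MM.eq q1 hv h4 ▸ mMM (k.wa hD), ?_⟩
  have := q.conj hD (mcl k.ha)
  rwa [k.act hD, (k.cb hD).eq] at this

theorem HN.onL_trans (hR : HN D) (hv : v ∈ D) (ha : a ∈ Wd D v) (h : OnL D v a κ) (hκ : κ ∈ D)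
    (h1 : OnL D v κ b) : OnL D v a b := by
  have hD := hR.toRI
  by_cases n : Eqv D v a
  · obtain ⟨v', h2, a', h3, rfl⟩ := h
    obtain ⟨v'', h4, b', h5, rfl⟩ := h1
    rw [← EE.eq n] at h3
    rw [← EE.eq (hR.hc.eqv hv (mul_mem h2 h3) hκ)] at h5
    exact ⟨_, mul_mem h4 h5, 1, one_mem _, (mul_one _).symm⟩
  obtain ⟨v'', h4, b', h5, rfl⟩ := h1
  by_cases n1 : Eqv D v κ
  · exact ⟨_, mul_mem h4 (EE.eq n1 ▸ h5), 1, one_mem _, (mul_one _).symm⟩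
  obtain ⟨t, ht, q⟩ := hR.line_conj hv ha n hκ h n1
  have := EE.conj hD (inv_mem (MM.le ht)) (EE.eq q ▸ h5)
  rw [show t⁻¹ * (t * a * t⁻¹) * t⁻¹⁻¹ = a by group] at this
  obtain ⟨e, he, e1⟩ := hR.br hv ht (EE_le_wd hD ha hv this)
  refine ⟨_, mul_mem h4 he, _, this, ?_⟩
  rw [mul_assoc, ← (MM.cm (EE_le_wd hD ha hv this) he).eq, ← e1]
  group

theorem HN.onL_symm (hR : HN D) (hv : v ∈ D) (ha : a ∈ Wd D v) (n : ¬ Eqv D v a) (hκ : κ ∈ D) (h : OnL D v a κ)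
    (n1 : ¬ Eqv D v κ) : OnL D v κ a := by
  have hD := hR.toRI
  obtain ⟨t, ht, q⟩ := hR.line_conj hv ha n hκ h n1
  obtain ⟨e, he, e1⟩ := hR.br hv ht (mMM ha)
  refine ⟨e, he, _, EE.eq q ▸ self_EE (hD.conj_closure (MM.le ht) ha.1), ?_⟩
  rw [e1, (MM.cm (mMM ha) he).eq, ← mul_assoc, EE.sq hD hv he, one_mul]

theorem P4.npl (hR : HG D) (h : P4 D d u v w x) (ha : a ∈ Wd D v) (n : ¬ Eqv D v a) : NPl D v a := by
  have hD := hR.toRI
  have hN := hR.hn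
  have hv := h.k2.hb
  have hw := h.k1.hb
  have hu := h.k1.ha
  have key : ∀ κ ∈ Wd D v, ¬ Eqv D v κ → Commute κ w → NPl D v κ := fun κ h1 n1 c1 => by
    obtain ⟨v', k, q⟩ := hN.wdK hv (h.k1.wa hD) h1 fun c => n1 (h.stepB hR h1.1 c.symm c1)
    obtain ⟨κ', h2, q1, k1⟩ := hN.bij k hv q.symm
    have c2 : Commute w κ' := (q1 w hw).2 c1.symm
    have o1 := T2 hD (h.k1.symm hD) h.k3
    have o2 := T2 hD (k1.symm hD) h.k3
    have m := mul_mem (mul_mem (mcl h.k3.ha) (mul_mem (mcl hw) (mcl h2))) (inv_mem (mcl h.k3.ha))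
    have := NPl.conj hD (v := v) (a := w) (fun b h1 h2 => h.stepA hR h1 h2) m
    rw [s4_swap hD o1 o2 c2] at this
    have e1 : d * (w * κ') * d⁻¹ * v * (d * (w * κ') * d⁻¹)⁻¹ = v := by
      have : d⁻¹ * v * d = v * u := by rw [← h.k3.act hD, hD.inv h.k3.ha]
      rw [cj_cj, cj_cj d, inv_inv, this, cj_mul (w * κ') v u, cj_cj w κ' u,
        (k1.symm hD).act hD, cj_mul w u, (h.k1.symm hD).act hD, (h.k1.symm hD).fix hD,
        conj_of_commute ((h.k1.cb hD).mul_left (k1.cb hD)), mul_assoc u, hD.sq v hv, mul_one, ← h.k3.act hD, ← cj_cj,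
        hD.sq d h.k3.ha, one_mul, inv_one, mul_one]
    rw [e1] at this
    exact this.eqv hD h2 h1.1 q1
  intro b h1 h2
  by_contra H
  by_cases c1 : Commute a w
  · exact H (key a ha n c1 b h1 h2)
  have n1 : ¬ Eqv D v b := fun q => H ⟨b, RI.mem_EE h1.1 q, 1, one_mem _, (mul_one _).symm⟩
  have n2 : ¬ Eqv D a b := fun q => H ⟨1, one_mem _, b, RI.mem_EE h1.1 q, (one_mul _).symm⟩
  have x1 := hN.lemA ha.1 h2 fun e => n2 (e ▸ Eqv.refl D _)
  by_cases c2 : Commute b w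
  · exact H (hN.onL_symm hv h1 n1 ha.1 (key b h1 n1 c2 a ha ((x1.symm ha.1).wd hD h1.1)) n)
  obtain ⟨v1, k1, q1⟩ := hN.wdK hv (h.k1.wb hD) h1 fun c => c2 c.symm
  obtain ⟨v2, k2, q2⟩ := hN.wdK hv (h.k1.wb hD) ha fun c => c1 c.symm
  obtain ⟨a', h3, q3, k3⟩ := hN.bij k2 (k1.hc hD) (q2.symm.trans q1)
  have m1 := RI.mem_EE h3 q3.symm
  have x2 := hN.xp_eqv h1.1 (x1.symm ha.1) (fun q => n2 q.symm) h3 q3.symm
  have m2 := x2.2.2.2
  have m3 := Wd.of_mem hD m2 (mul_mem (mMM h1) (EE_le_wd hD ha hv m1))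
  have e1 : b = b * a' * a' := by rw [mul_assoc, hD.sq _ h3, mul_one]
  have l1 : ∀ {κ}, OnL D v a κ → κ = b * a' → False := fun ⟨v', h4, a'', h5, e2⟩ e3 =>
    H ⟨v', h4, _, mul_mem h5 m1, by rw [← mul_assoc, ← e2, e3, ← e1]⟩
  have n3 : ¬ Eqv D v (b * a') := fun q => l1 ⟨_, RI.mem_EE m2 q, 1, one_mem _, (mul_one _).symm⟩ rfl
  have m4 := Wd.of_mem hD m2 (mul_mem (mMM h2) (EE_le_wd hD (wd_self hD ha.1) ha.1 m1))
  have n4 : ¬ Eqv D a (b * a') := fun q => l1 ⟨1, one_mem _, _, RI.mem_EE m2 q, (one_mul _).symm⟩ rfl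
  refine l1 (hN.onL_symm hv m3 n3 ha.1 (key _ m3 n3 (commute_of_conj_eq ?_).symm a ha
    (((hN.lemA ha.1 m4 fun e => n4 (e ▸ Eqv.refl D _)).symm ha.1).wd hD m2)) n) rfl
  rw [cj_mul, k1.act hD, k3.act hD, (k3.cb hD).eq, mul_assoc, hD.sq_assoc (k1.hc hD)]

/-- geometries without planes and polar pairs -/
structure HP (D : Set G) : Prop extends HN D where
  np1 : ∀ a ∈ D, ∀ b ∈ D, Commute b a → b ∈ Wd D a
  np2 : ∀ v ∈ D, ∀ a ∈ D, Commute a v → ¬ Eqv D v a → ∀ b ∈ D, Commute b v → Commute b a → OnL D v a b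

theorem P4.hp (hR : HG D) (h : P4 D d u v w x) : HP D := by
  have hD := hR.toRI
  have hN := hR.hn
  have k1 : ∀ p ∈ D, ∀ a ∈ Wd D p, ¬ Eqv D p a → NPl D p a := fun p hp a ha n => by
    obtain ⟨g, hg, rfl⟩ := hR.cl v h.k2.hb p hp
    have := (h.npl hR (a := g⁻¹ * a * g⁻¹⁻¹) (by simpa [mul_assoc] using Wd.conj' hD ha (inv_mem hg)) fun q =>
      n (by simpa [mul_assoc] using q.conj hD hg)).conj hD hg
    simpa [mul_assoc] using this
  have k2 : ∀ a ∈ D, ∀ b ∈ D, Commute b a → b ∈ Wd D a := fun a ha b hb c => by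
    by_cases q : Eqv D a b
    · exact q.wd hD ha hb
    obtain ⟨y, hy, n1⟩ : ∃ y, XP D a y ∧ ¬ Commute y b :=
      by_contra fun H => q (hR.lemZ hb ha c fun v hv => by_contra fun c => H ⟨v, hv, c⟩)
    obtain ⟨g, k⟩ := exists_K hD hb hy.1 (fun c => n1 (Commute.symm c)) fun o => hy.not_od hD ha hb c.symm o.symm
    by_cases q1 : Eqv D g a
    · exact Wd.of_mem hD hb ((MM.eq q1 (k.hc hD) ha).le (mMM (k.wa hD)))
    exact (n1 ((k1 a ha g (brK_wd hD k (hy.wd hD ha) c) (fun q => q1 q.symm) y (hy.wd hD ha) (k.wb hD)).cm hb c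
      (k.ca hD)).symm).elim
  exact ⟨hN, k2, fun v hv a ha c n b hb c1 c2 => k1 v hv a (k2 v hv a ha c) n b (k2 v hv b hb c1) (k2 a ha b hb c2)⟩

end CfsgH7.RI
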