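import Cfsg.Agent.H7.RT3

/-! Root involutions (helper7): a duality lemma and the bound `2 ^ 10`. -/

set_option autoImplicit false
set_option linter.unusedSectionVars false

namespace CfsgH7.RI
open Cfsg CfsgH9 Subgroup

variable {G : Type*} [Group G] [Finite G] {D : Set G}
  {a a' b b' c c' c2 d d' e e' f g h m n p p' q r s t u v v' w x x' y z κ : G}

theorem dual_le {S T S0 T0 : Subgroup G} (β : G → G → ℂˣ)
    (h1 : ∀ a ∈ S, ∀ a' ∈ S, ∀ b ∈ T, β (a * a') b = β a b * β a' b)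
    (h2 : ∀ a ∈ S, ∀ b ∈ T, ∀ b' ∈ T, β a (b * b') = β a b * β a b')
    (h3 : ∀ a ∈ S, ∀ b ∈ T, b ∈ T0 → β a b = 1) (h4 : ∀ a ∈ S, (∀ b ∈ T, β a b = 1) → a ∈ S0) :
    S0.relIndex S ≤ T0.relIndex T := by
  classical
  let Φ : S →* (T →* ℂˣ) := MonoidHom.mk' (fun a => MonoidHom.mk' (fun b => β a b) fun b b' => h2 a a.2 b b.2 b' b'.2)
    fun a a' => MonoidHom.ext fun b => h1 a a.2 a' a'.2 b b.2
  let N := Φ.flip.ker
  have k1 : S0.relIndex S ≤ Φ.ker.index := Nat.le_of_dvd (Nat.pos_of_ne_zero index_ne_zero_of_finite)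
    (index_dvd_of_le fun a ha => h4 a a.2 fun b hb => DFunLike.congr_fun (MonoidHom.mem_ker.1 ha) ⟨b, hb⟩)
  have k2 : N.index ≤ T0.relIndex T := Nat.le_of_dvd (Nat.pos_of_ne_zero index_ne_zero_of_finite)
    (index_dvd_of_le fun b hb => MonoidHom.mem_ker.2 (MonoidHom.ext fun a => h3 a a.2 b b.2 hb))
  refine k1.trans (le_trans ?_ k2)
  rw [index_ker, index_eq_card]
  let F : Φ.range → (T ⧸ N →* ℂ) := fun φ => (Units.coeHom ℂ).comp (QuotientGroup.lift N φ.1 fun b hb => by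
    obtain ⟨a, e⟩ := φ.2
    rw [← e]; exact DFunLike.congr_fun (MonoidHom.mem_ker.1 hb) a)
  have hF : Function.Injective F := fun φ ψ e => Subtype.ext (MonoidHom.ext fun b =>
    Units.ext (DFunLike.congr_fun e (b : T ⧸ N)))
  haveI := Fintype.ofFinite (T ⧸ N)
  haveI : Finite Φ.range := Finite.of_surjective _ Φ.rangeRestrict_surjective
  haveI := Fintype.ofFinite Φ.range
  have := ((linearIndependent_monoidHom (T ⧸ N) ℂ).comp F hF).fintype_card_le_finrank
  rwa [Module.finrank_fintype_fun_eq_card, ← Nat.card_eq_fintype_card, ← Nat.card_eq_fintype_card] at this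

theorem HN.exists_pair (hR : HN D) (hd : d ∈ D) : ∃ β : G → G → ℂˣ,
    (∀ a ∈ MM D d, ∀ a' ∈ MM D d, ∀ b ∈ MM D d, β (a * a') b = β a b * β a' b) ∧
    (∀ a ∈ MM D d, ∀ b ∈ MM D d, ∀ b' ∈ MM D d, β a (b * b') = β a b * β a b') ∧
    (∀ a b, Commute a b → β a b = 1) ∧ ∀ a b, a * b * a⁻¹ = b * d → β a b ≠ 1 := by
  classical
  letI : CommGroup (EE D d) := { (inferInstance : Group (EE D d)) with
    mul_comm := fun x y => Subtype.ext (EE.commute' x.2 y.2 hd (Commute.refl d)) }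
  haveI : NeZero (Monoid.exponent (EE D d)) := ⟨Monoid.exponent_ne_zero_of_finite⟩
  obtain ⟨φ, hφ⟩ := CommGroup.exists_apply_ne_one_of_hasEnoughRootsOfUnity (EE D d) ℂ (a := ⟨d, self_EE hd⟩)
    fun e => hR.ne d hd (congrArg Subtype.val e)
  have k : ∀ {a b e} (he : e ∈ EE D d), a * b * a⁻¹ = b * e →
      (if h : b⁻¹ * (a * b * a⁻¹) ∈ EE D d then φ ⟨_, h⟩ else 1) = φ ⟨e, he⟩ := fun he e1 => by
    simp only [e1, inv_mul_cancel_left, he, dif_pos]
  refine ⟨fun a b => if h : b⁻¹ * (a * b * a⁻¹) ∈ EE D d then φ ⟨_, h⟩ else 1, fun a ha a' ha' b hb => ?_,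
    fun a ha b hb b' hb' => ?_, fun a b c => ?_, fun a b e => ?_⟩
  · obtain ⟨e, m1, e1⟩ := hR.br hd ha hb
    obtain ⟨e', m2, e2⟩ := hR.br hd ha' hb
    simp only
    rw [k m1 e1, k m2 e2, k (mul_mem m1 m2) (by rw [cj_cj, e2, cj_mul, e1, conj_of_commute (MM.cm ha m2), mul_assoc]),
      ← map_mul]
    rfl
  · obtain ⟨e, m1, e1⟩ := hR.br hd ha hb
    obtain ⟨e', m2, e2⟩ := hR.br hd ha hb'
    simp only
    rw [k m1 e1, k m2 e2, k (mul_mem m1 m2) (by
      rw [cj_mul, e1, e2, mul_assoc, ← mul_assoc e, ← (MM.cm hb' m1).eq]; simp only [mul_assoc]), ← map_mul]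
    rfl
  · simp only
    rw [k (one_mem _) (by rw [conj_of_commute c, mul_one])]
    exact map_one φ
  · simp only
    rwa [k (self_EE hd) e]

theorem relIndex_le_ncard {α : Type*} {C M : Subgroup G} (f : G → α) {T : Set α} (hT : T.Finite)
    (h1 : ∀ g ∈ M, f g ∈ T) (h2 : ∀ g ∈ M, ∀ g' ∈ M, f g = f g' → g⁻¹ * g' ∈ C) : C.relIndex M ≤ T.ncard := by
  haveI := hT.to_subtype
  rw [← Nat.card_coe_set_eq]
  refine Nat.card_le_card_of_injective (fun q : M ⧸ C.subgroupOf M => (⟨f q.out, h1 _ q.out.2⟩ : T)) fun q q' e => ?_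
  rw [← q.out_eq, ← q'.out_eq]
  exact QuotientGroup.eq.2 (h2 _ q.out.2 _ q'.out.2 (congrArg Subtype.val e))

theorem HN.sq_mem (hR : HN D) (hd : d ∈ D) (hg : g ∈ MM D d) : g * g ∈ EE D d := by
  induction hg using closure_induction with
  | one => simp
  | mem x hx => rw [hR.sq x hx.1]; exact one_mem _
  | mul x y hx hy ihx ihy =>
    obtain ⟨e, m1, e1⟩ := hR.br hd hy hx
    have := mul_mem (mul_mem ihx m1) ihy
    rwa [mul_assoc x x, ← e1, show x * (y * x * y⁻¹) * (y * y) = x * y * (x * y) by group] at this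
  | inv x _ ih => rw [← mul_inv_rev]; exact inv_mem ih

theorem HN.card_MM (hR : HN D) (hd : d ∈ D) (R : Finset G) (h1 : ∀ r ∈ R, r ∈ MM D d)
    (h2 : ∀ a ∈ Wd D d, a ∈ EE D d ∨ ∃ r ∈ R, r⁻¹ * a ∈ EE D d) :
    Nat.card (MM D d) ≤ 2 ^ R.card * Nat.card (EE D d) := by
  classical
  let N := (EE D d).subgroupOf (MM D d)
  haveI : N.Normal := ⟨fun e he g => by
    have : g * e * g⁻¹ = e := Subtype.ext (conj_of_commute (MM.cm g.2 he))
    rwa [this]⟩
  letI : CommGroup (MM D d ⧸ N) := { (inferInstance : Group (MM D d ⧸ N)) with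
    mul_comm := fun x y => by
      obtain ⟨x, rfl⟩ := QuotientGroup.mk_surjective x
      obtain ⟨y, rfl⟩ := QuotientGroup.mk_surjective y
      obtain ⟨e, m1, e1⟩ := hR.br hd (inv_mem x.2) (inv_mem y.2)
      refine QuotientGroup.eq.2 (show ((x : G) * y)⁻¹ * (y * x) ∈ EE D d from ?_)
      have := inv_mem m1
      rwa [← conj_of_commute (MM.cm (inv_mem y.2) this), show e = (y : G)⁻¹⁻¹ * ((x : G)⁻¹ * (y : G)⁻¹ * (x : G)⁻¹⁻¹) by
        rw [e1, inv_mul_cancel_left], show (y : G)⁻¹ * ((y : G)⁻¹⁻¹ * ((x : G)⁻¹ * (y : G)⁻¹ * (x : G)⁻¹⁻¹))⁻¹ *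
        (y : G)⁻¹⁻¹ = ((x : G) * y)⁻¹ * (y * x) by group] at this }
  have k1 := card_dvd_exponent_pow_rank' (MM D d ⧸ N) (n := 2) fun x => by
    obtain ⟨x, rfl⟩ := QuotientGroup.mk_surjective x
    rw [← QuotientGroup.mk_pow, QuotientGroup.eq_one_iff, pow_two]
    exact hR.sq_mem hd x.2
  let S : Finset (MM D d ⧸ N) := R.attach.image fun r => ((⟨r.1, h1 r.1 r.2⟩ : MM D d) : MM D d ⧸ N)
  have k2 : closure (S : Set (MM D d ⧸ N)) = ⊤ := by
    rw [eq_top_iff]
    rintro x -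
    obtain ⟨⟨x, hx⟩, rfl⟩ := QuotientGroup.mk_surjective x
    induction hx using closure_induction with
    | one => exact one_mem _
    | mem x hx =>
      rcases h2 x hx with h | ⟨r, hr, h⟩
      · rw [(QuotientGroup.eq_one_iff (N := N) _).2 h]; exact one_mem _
      · exact subset_closure (Finset.mem_coe.2 (Finset.mem_image.2 ⟨⟨r, hr⟩, Finset.mem_attach _ _,
          QuotientGroup.eq.2 h⟩))
    | mul x y hx hy ihx ihy => exact mul_mem ihx ihy
    | inv x hx ih => exact inv_mem ih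
  rw [card_eq_card_quotient_mul_card_subgroup N]
  refine Nat.mul_le_mul ((Nat.le_of_dvd (by positivity) k1).trans (Nat.pow_le_pow_right (by norm_num)
    ((Group.rank_le k2).trans (Finset.card_image_le.trans (by simp))))) ?_
  exact Nat.card_le_card_of_injective (fun e : N => (⟨e.1.1, e.2⟩ : EE D d))
    fun e e' h => Subtype.ext (Subtype.ext (congrArg (fun x : EE D d => (x : G)) h))

theorem pow_bound {k : ℕ} (h : 2 ^ k ≤ (2 * k) ^ 2) : k ≤ 8 := by
  by_contra n
  obtain ⟨j, rfl⟩ : ∃ j, k = j + 9 := ⟨k - 9, by omega⟩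
  refine absurd h (not_le.2 ?_)
  clear h n
  induction j with
  | zero => norm_num
  | succ j ih => rw [show j + 1 + 9 = j + 9 + 1 by ring, pow_succ 2 (j + 9)]; nlinarith [Nat.zero_le j]

theorem HP.card_le (hR : HP D) (hq : ∀ d ∈ D, ∀ e ∈ D, Eqv D d e → e = d) (hp : p ∈ D) :
    Nat.card (MM D p) ≤ 2 ^ 10 := by
  classical
  have hD := hR.toRI
  have hN := hR.toHN
  have hE : ∀ {d e}, d ∈ D → e ∈ EE D d → e = 1 ∨ e = d := fun hd he =>
    ((hR.mem_EE hd).1 he).imp_right fun h => hq _ hd _ h.1 h.2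
  let X : G → Set G := fun p => {a | a ∈ D ∧ Commute a p ∧ a ≠ p}
  have nq : ∀ {p a}, p ∈ D → a ∈ X p → ¬ Eqv D p a := fun hp ha q => ha.2.2 (hq _ hp _ ha.1 q)
  have ln : ∀ a ∈ X p, ∀ b ∈ X p, Commute b a → b = a ∨ b = p * a := fun a ha b hb c => by
    obtain ⟨v, h1, a', h2, e⟩ := hR.np2 p hp a ha.1 ha.2.1 (nq hp ha) b hb.1 hb.2.1 c
    rcases hE hp h1 with rfl | rfl <;> rcases hE ha.1 h2 with rfl | rfl
    · exact absurd (e.trans (mul_one 1)) (hD.ne b hb.1)
    · exact Or.inl (e.trans (one_mul _))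
    · exact absurd (e.trans (mul_one _)) hb.2.2
    · exact Or.inr e
  haveI := Fintype.ofFinite G
  obtain ⟨R, -, ⟨hR1, hR2⟩, hR3⟩ := Finite.exists_le_maximal (α := Finset G)
    (p := fun R => (∀ r ∈ R, r ∈ X p) ∧ ∀ r ∈ R, ∀ r' ∈ R, Commute r r' → r = r') (a := ∅) (by simp)
  have cov : ∀ a ∈ X p, ∃ r ∈ R, a = r ∨ a = p * r := fun a ha => by_contra fun H => by
    have n : ∀ r ∈ R, ¬ Commute a r := fun r hr c => H ⟨r, hr, ln r (hR1 r hr) a ha c⟩
    refine n a (hR3 (y := insert a R) ⟨by simpa [ha] using hR1, ?_⟩ (Finset.subset_insert a R)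
      (Finset.mem_insert_self a R)) (Commute.refl a)
    simp only [Finset.mem_insert]
    rintro r (rfl | hr) r' (rfl | hr') c
    exacts [rfl, absurd c (n _ hr'), absurd c.symm (n _ hr), hR2 r hr r' hr' c]
  have mX : ∀ a ∈ X p, a ∈ MM D p := fun a ha => mMM (hR.np1 p hp a ha.1 ha.2.1)
  have mp : p ∈ MM D p := mMM (wd_self hD hp)
  have cE : Nat.card (EE D p) ≤ 2 := by
    rw [← SetLike.coe_sort_coe, Nat.card_coe_set_eq]
    exact (Set.ncard_le_ncard (t := {1, p}) fun e he => hE hp he).trans (Set.ncard_insert_le _ _ |>.trans (by simp))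
  suffices R.card ≤ 9 by
    refine (hN.card_MM hp R (fun r hr => mX r (hR1 r hr)) fun a ha => ?_).trans
      ((Nat.mul_le_mul (Nat.pow_le_pow_right (by norm_num) this) cE).trans (by norm_num))
    by_cases e : a = p
    · exact Or.inl (e ▸ self_EE ha.1)
    obtain ⟨r, hr, rfl | rfl⟩ := cov a ⟨ha.1, ha.2.1, e⟩
    · exact Or.inr ⟨a, hr, by rw [inv_mul_cancel]; exact one_mem _⟩
    · exact Or.inr ⟨r, hr, by rw [← (hR1 r hr).2.1.eq, inv_mul_cancel_left]; exact self_EE hp⟩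
  rcases R.eq_empty_or_nonempty with rfl | ⟨c, hc⟩
  · simp
  have xc := hR1 c hc
  have cX : ∀ c ∈ D, (X c).ncard ≤ 2 * R.card := fun c hc => by
    obtain ⟨g, hg, rfl⟩ := hR.cl p hp c hc
    rw [ncard_eq_of_conj (S := X p) (T := X (g * p * g⁻¹)) g fun y => ⟨fun h => ⟨by simpa using hD.conj_closure (inv_mem hg) h.1,
      by simpa [mul_assoc] using commute_cj h.2.1 g⁻¹, fun e => h.2.2 (by rw [← e]; group)⟩,
      fun h => ⟨by simpa [mul_assoc] using hD.conj_closure hg h.1, by simpa [mul_assoc] using commute_cj h.2.1 g,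
        fun e => h.2.2 (by rw [e]; group)⟩⟩]
    refine (Set.ncard_le_ncard (t := (R : Set G) ∪ (fun r => p * r) '' R) fun a ha => ?_).trans
      ((Set.ncard_union_le _ _).trans ?_)
    · obtain ⟨r, hr, rfl | rfl⟩ := cov a ha
      exacts [Or.inl hr, Or.inr ⟨r, hr, rfl⟩]
    · have := Set.ncard_image_le (s := (R : Set G)) (f := fun r => p * r)
      rw [Set.ncard_coe_finset] at this ⊢
      omega
  have xp : ∀ c ∈ X p, XP D p c := fun c hc => hN.lemA hp (hR.np1 p hp c hc.1 hc.2.1) hc.2.2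
  have cY : ∀ c ∈ X p, {a | a ∈ X c ∧ ¬ Commute a p}.ncard + 2 ≤ 2 * R.card := fun c hc => by
    refine le_trans ?_ (cX c hc.1)
    have x1 := (xp c hc).mul hD hp
    rw [← Set.ncard_pair x1.2.2.1.symm, ← Set.ncard_union_eq (by
      rw [Set.disjoint_left]
      rintro a ha (rfl | rfl)
      exacts [ha.2 (Commute.refl _), ha.2 x1.cm.symm])]
    refine Set.ncard_le_ncard ?_
    rintro a (ha | rfl | rfl)
    exacts [ha.1, ⟨hp, hc.2.1.symm, hc.2.2.symm⟩, ⟨x1.1, hc.2.1.symm.mul_left (Commute.refl c), xp_mul_ne hD hp c⟩]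
  obtain ⟨m, k⟩ := T1 hD hR.cl hp (xp c xc) (nq hp xc)
  have brp : ∀ a ∈ MM D p, ∀ b ∈ MM D p, Commute a b ∨ a * b * a⁻¹ = b * p := fun a ha b hb => by
    obtain ⟨e, h1, e1⟩ := hN.br hp ha hb
    rcases hE hp h1 with rfl | rfl
    exacts [Or.inl (commute_of_conj_eq (e1.trans (mul_one _))), Or.inr e1]
  have cp : ∀ g ∈ MM D p, Commute g p := fun g hg => MM.cm hg (self_EE hp)
  let C := MM D p ⊓ centralizer {m}
  have xcp : c * p ∈ X p := ⟨xc.2.1.eq ▸ (xp c xc).2.2.2, xc.2.1.mul_left (Commute.refl p), xp_mul_ne hD xc.1 p⟩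
  have i1 : C.relIndex (MM D p) ≤ ({a | a ∈ X c ∧ ¬ Commute a p} ∪ {a | a ∈ X (c * p) ∧ ¬ Commute a p}).ncard :=
    relIndex_le_ncard (fun g => g * m * g⁻¹) (Set.toFinite _) (fun g hg => by
      have n : ¬ Commute (g * m * g⁻¹) p := fun c => k.nc hD ((commute_conj_left (cp g hg)).1 c)
      have h1 : g * m * g⁻¹ ∈ X (g * c * g⁻¹) := ⟨hD.conj_closure (MM.le hg) k.ha, commute_cj (k.ca hD) g,
        fun e => (k.xa hD).2.2.1 (by simpa using e.symm)⟩
      rcases brp g hg c (mX c xc) with e | e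
      · rw [conj_of_commute e] at h1; exact Or.inl ⟨h1, n⟩
      · rw [e] at h1; exact Or.inr ⟨h1, n⟩)
      fun g hg g' hg' e => mem_inf.2 ⟨mul_mem (inv_mem hg) hg', mem_centralizer_singleton_iff.2 (commute_of_conj_eq (by
        rw [cj_cj, ← e]; group))⟩
  have i2 := (i1.trans (Set.ncard_union_le _ _))
  have i3 := cY c xc
  have i4 := cY _ xcp
  let B := C ⊔ zpowers p
  have BM : B ≤ MM D p := sup_le inf_le_left (zpowers_le.2 mp)
  have i5 : C.relIndex B * B.relIndex (MM D p) = C.relIndex (MM D p) := relIndex_mul_relIndex _ _ _ le_sup_left BM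
  have i6 : 2 ≤ C.relIndex B := by
    have h1 : C.relIndex B ≠ 0 := index_ne_zero_of_finite
    have h2 : C.relIndex B ≠ 1 := fun e => k.nc hD (mem_centralizer_singleton_iff.1
      (relIndex_eq_one.1 e (mem_sup_right (mem_zpowers p))).2).symm
    omega
  have ab : ∀ a ∈ B, ∀ b ∈ B, Commute a b := by
    have h1 : ∀ a ∈ C, ∀ b ∈ C, Commute a b := fun a ha b hb => (brp a ha.1 b hb.1).resolve_right fun e => by
      have c1 : Commute m a := (mem_centralizer_singleton_iff.1 ha.2).symm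
      have c2 : Commute m b := (mem_centralizer_singleton_iff.1 hb.2).symm
      have := c2.inv_right.mul_right ((c1.mul_right c2).mul_right c1.inv_right)
      rw [e, inv_mul_cancel_left] at this
      exact k.nc hD this
    have h2 : ∀ b ∈ C, B ≤ centralizer {b} := fun b hb => sup_le
      (fun a ha => mem_centralizer_singleton_iff.2 (h1 a ha b hb))
      (zpowers_le.2 (mem_centralizer_singleton_iff.2 (cp b hb.1).symm))
    intro a ha
    have : B ≤ centralizer {a} := sup_le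
      (fun b hb => mem_centralizer_singleton_iff.2 (mem_centralizer_singleton_iff.1 (h2 b hb ha)).symm)
      (zpowers_le.2 (mem_centralizer_singleton_iff.2 (cp a (BM ha)).symm))
    exact fun b hb => (mem_centralizer_singleton_iff.1 (this hb)).symm
  obtain ⟨β, b1, b2, b3, b4⟩ := hN.exists_pair hp
  have i7 := dual_le (S := B) (T := MM D p) (S0 := centralizer (MM D p)) (T0 := B) β
    (fun a ha a' ha' => b1 a (BM ha) a' (BM ha')) (fun a ha => b2 a (BM ha)) (fun a ha b _ hb => b3 a b (ab a ha b hb))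
    fun a ha H b hb => ((brp a (BM ha) b hb).resolve_right fun e => b4 a b e (H b hb)).symm
  have i8 : (centralizer (MM D p : Set G)).relIndex (MM D p) ≤
      (centralizer (MM D p : Set G)).relIndex B * B.relIndex (MM D p) := by
    rw [← inf_relIndex_right _ B, relIndex_mul_relIndex _ _ _ inf_le_right BM]
    exact relIndex_le_of_le_left inf_le_left index_ne_zero_of_finite
  let ψ : MM D p →* (R.erase c → ℂˣ) := MonoidHom.mk' (fun g r => β g r)
    fun g g' => funext fun r => b1 g g.2 g' g'.2 r (mX r (hR1 r (Finset.mem_of_mem_erase r.2)))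
  have i9 : ψ.ker.index ≤ (centralizer (MM D p : Set G)).relIndex (MM D p) :=
    Nat.le_of_dvd (Nat.pos_of_ne_zero index_ne_zero_of_finite) (index_dvd_of_le fun g hg => funext fun r =>
      b3 g r (hg r (mX r (hR1 r (Finset.mem_of_mem_erase r.2)))).symm)
  have nc' : ∀ r ∈ R, ∀ r' ∈ R, r ≠ r' → r * r' * r⁻¹ = r' * p := fun r hr r' hr' n =>
    (brp r (mX r (hR1 r hr)) r' (mX r' (hR1 r' hr'))).resolve_left fun c => n (hR2 r hr r' hr' c)
  have k1 : ∀ r : R.erase c, ∃ g : MM D p, ψ g r ≠ 1 ∧ ∀ r', r' ≠ r → ψ g r' = 1 := fun r => by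
    have h1 := Finset.mem_erase.1 r.2
    refine ⟨⟨r * c, mul_mem (mX r (hR1 r h1.2)) (mX c xc)⟩, b4 _ _ ?_, fun r' n => b3 _ _ (commute_of_conj_eq ?_)⟩
    · show (r : G) * c * r * ((r : G) * c)⁻¹ = _
      rw [cj_cj, nc' c hc r h1.2 h1.1.symm, conj_of_commute ((Commute.refl _).mul_right (hR1 r h1.2).2.1)]
    · have h2 := Finset.mem_erase.1 r'.2
      show (r : G) * c * r' * ((r : G) * c)⁻¹ = _
      rw [cj_cj, nc' c hc r' h2.2 h2.1.symm, cj_mul, nc' r h1.2 r' h2.2 fun e => n (Subtype.ext e.symm),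
        conj_of_commute (hR1 r h1.2).2.1, mul_assoc, hD.sq p hp, mul_one]
  choose γ k2 k3 using k1
  have i10 : 2 ^ (R.card - 1) ≤ ψ.ker.index := by
    rw [index_ker, ← Finset.card_erase_of_mem hc, ← Fintype.card_coe, ← Fintype.card_finset,
      ← Nat.card_eq_fintype_card]
    haveI : Finite ψ.range := Finite.of_surjective _ ψ.rangeRestrict_surjective
    have k4 : ∀ (s : Finset (R.erase c)) r, (∏ r' ∈ s, ψ (γ r')) r = 1 ↔ r ∉ s := fun s r => by
      rw [Finset.prod_apply]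
      by_cases h : r ∈ s
      · rw [Finset.prod_eq_single r (fun r' _ n => k3 r' r n.symm) fun n => absurd h n]
        simp [h, k2]
      · simp only [h, not_false_iff, iff_true]
        exact Finset.prod_eq_one fun r' h' => k3 r' r fun e => h (e ▸ h')
    refine Nat.card_le_card_of_injective (fun s : Finset (R.erase c) =>
      (⟨∏ r ∈ s, ψ (γ r), prod_mem fun r _ => ⟨_, rfl⟩⟩ : ψ.range)) fun s s' e => Finset.ext fun r => ?_
    have e1 := congrArg Subtype.val e
    simp only at e1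
    rw [← not_iff_not, ← k4, ← k4, e1]
  have i11 : B.relIndex (MM D p) ≤ 2 * (R.card - 1) := by
    have : 2 * B.relIndex (MM D p) ≤ C.relIndex (MM D p) := i5 ▸ Nat.mul_le_mul_right _ i6
    omega
  have := pow_bound (k := R.card - 1) (i10.trans (i9.trans (i8.trans ((Nat.mul_le_mul (i7.trans i11) i11).trans
    (pow_two _).ge))))
  omega

end CfsgH7.RI
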