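import Cfsg.Agent.H7.RT4

/-! Root involutions (helper7): local structure of geometries without planes and polar pairs. -/

set_option autoImplicit false
set_option linter.unusedSectionVars false

namespace CfsgH7.RI
open Cfsg CfsgH9 Subgroup

variable {G : Type*} [Group G] [Finite G] {D : Set G}
  {a a' b b' c c' c2 d d' e e' f g h m n p p' q r s t u v v' w w' x x' y z κ : G}

theorem EE_le_MM (hD : RI D) (hd : d ∈ D) (hy : y ∈ Wd D d) : EE D y ≤ MM D d := EE_le_wd hD hy hd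

theorem HN.act1 (hR : HN D) (k : K D u w v) (hg : g ∈ MM D v) :
    ∃ u' ∈ EE D u, ∀ w' ∈ EE D w, g * w' * g⁻¹ = u' * w' * u'⁻¹ := by
  have hD := hR.toRI
  have hv := k.hc hD
  have mu := EE_le_MM hD hv (k.wa hD)
  have mw := EE_le_MM hD hv (k.wb hD)
  induction hg using closure_induction with
  | one => exact ⟨1, one_mem _, fun _ _ => rfl⟩
  | mem a ha =>
    by_cases c : Commute a w
    · exact ⟨1, one_mem _, fun w' h => by rw [conj_of_commute (EE.commute h ha.1 c)]; simp⟩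
    obtain ⟨v', k1, q⟩ := hR.wdK hv ha (k.wb hD) c
    obtain ⟨u', h1, q1, k2⟩ := hR.bij (k.symm hD) (k1.hc hD) q
    obtain ⟨t, k3⟩ := k1.next hD hR.cl
    refine ⟨u', RI.mem_EE h1 q1.symm, fun w' h => ?_⟩
    rcases (hR.mem_EE k.hb).1 h with rfl | ⟨h2, q2⟩
    · simp
    have x1 := hR.xp_eqv k3.ha (k3.xa hD) (fun q => (k3.symm hD).not_eqv hD q.symm) h2 q2
    obtain ⟨e, k4, q3⟩ := hR.Keqv k1 k1.ha (Eqv.refl D _) h2 q2
    obtain ⟨e', k5, q4⟩ := hR.Keqv (k2.symm hD) h1 (Eqv.refl D _) h2 q2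
    have k6 := T3 hD (T2 hD k1 k3).symm x1 k4
    have k7 := T3 hD (T2 hD (k2.symm hD) k3).symm x1 k5
    have := hR.eq_one k3.hb (mul_mem (RI.mem_EE k6.hb q3) (RI.mem_EE k7.hb q4)) k3.ha (commute_of_conj_eq (by
      rw [cj_mul, k6.act hD, k7.act hD, (k7.cb hD).eq, mul_assoc, hD.sq_assoc h2])) (k3.nc hD)
    rw [← hD.inv k6.hb, inv_mul_eq_one] at this
    rw [k4.act hD, k5.act hD, this]
  | mul g g' hg hg' ih ih' =>
    obtain ⟨u1, h1, e1⟩ := ih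
    obtain ⟨u2, h2, e2⟩ := ih'
    refine ⟨_, mul_mem h1 h2, fun w' h => ?_⟩
    obtain ⟨e, h3, e3⟩ := hR.br hv (mu h2) (mw h)
    rw [cj_cj, cj_cj, e2 w' h, e3, cj_mul, cj_mul, e1 w' h, conj_of_commute (MM.cm hg h3),
      conj_of_commute (MM.cm (mu h1) h3)]
  | inv g hg ih =>
    obtain ⟨u1, h1, e1⟩ := ih
    refine ⟨_, inv_mem h1, fun w' h => ?_⟩
    obtain ⟨e, h3, e3⟩ := hR.br hv (mu h1) (mw h)
    have k : ∀ g ∈ MM D v, g * w' * g⁻¹ = w' * e → g⁻¹ * w' * g⁻¹⁻¹ = w' * e⁻¹ := fun g hg e4 => by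
      rw [eq_mul_inv_iff_mul_eq, ← conj_of_commute (MM.cm (inv_mem hg) h3), ← cj_mul, ← e4]; group
    rw [k g hg ((e1 w' h).trans e3), k u1 (mu h1) e3]

theorem HN.cent1 (hR : HN D) (k : K D u w v) (hg : g ∈ MM D v) (hw : w' ∈ D) (q : Eqv D w w') (c : Commute g w')
    (he : e ∈ EE D w) : Commute g e := by
  obtain ⟨u', h1, e1⟩ := hR.act1 k hg
  have := hR.eq_one k.ha h1 hw (commute_of_conj_eq (by
    rw [← e1 w' (RI.mem_EE hw q), conj_of_commute c])).symm fun c => k.nc hR.toRI ((q u k.ha).2 c.symm)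
  exact commute_of_conj_eq (by rw [e1 e he, this]; simp)

theorem HN.B_sq (hR : HN D) (hv : v ∈ D) (hw : w ∈ D) (n : ¬ Eqv D v w) (h1 : b ∈ MM D v) (h2 : b ∈ MM D w) :
    b * b = 1 := hR.EE_inf hv hw n (hR.sq_mem hv h1) (hR.sq_mem hw h2)

theorem P3.sv (hD : RI D) (h : P3 D u v w x) : u * x * u * v * (u * x * u)⁻¹ = w := swap3 hD h.k2 h.k1

theorem P3.sm (hD : RI D) (h : P3 D u v w x) : u * x * u ∈ D := (h.o3 hD).mem hD

theorem P3.sw (hD : RI D) (h : P3 D u v w x) : u * x * u * w * (u * x * u)⁻¹ = v := cj_inv hD (h.sm hD) (h.sv hD)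

theorem P3.su (hD : RI D) (h : P3 D u v w x) : u * x * u * u * (u * x * u)⁻¹ = x := (h.o3 hD).cj hD

theorem P3.sx (hD : RI D) (h : P3 D u v w x) : u * x * u * x * (u * x * u)⁻¹ = u := cj_inv hD (h.sm hD) (h.su hD)

theorem P3.ymem (hD : RI D) (h : P3 D u v w x) (hy : y ∈ MM D v) (c1 : Commute y u) (c2 : Commute y x) :
    y ∈ MM D w := by
  have := MM.conj hD hy (mcl (h.sm hD))
  rwa [h.sv hD, conj_of_commute (commute3 c1 c2).symm] at this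

theorem act_swap (ha : a * a = 1) (hb : b * b = 1) (h : a * b * a⁻¹ = b * c) : b * a * b⁻¹ = c * a := by
  rw [inv_eq_of_mul_eq_one_right hb, ← one_mul c, ← hb, mul_assoc b b c, ← h]; group

theorem P3.dec (hR : HP D) (h : P3 D u v w x) (hg : g ∈ MM D v) (c1 : Commute g w) (c2 : Commute (g * x * g⁻¹) x) :
    ∃ v' ∈ EE D v, ∃ w' ∈ EE D w, Commute (w' * v' * g) u ∧ Commute (w' * v' * g) x := by
  have hD := hR.toRI
  have hN := hR.toHN
  have hv := h.k2.hb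
  have hw := h.k1.hb
  have hx := h.k2.ha
  have hu := h.k1.ha
  have cvw := h.k2.cb hD
  obtain ⟨w1, m1, x1, m2, e1⟩ := hR.np2 w hw x hx (h.k2.ca hD) ((h.k2.symm hD).not_eqv hD) _
    (hD.conj_closure (MM.le hg) hx) ((commute_conj_left c1).2 (h.k2.ca hD)) c2
  have cv := MM.cm hg (self_EE hv)
  have e2 : x1 * v * x1⁻¹ = x * v * x⁻¹ := by
    have := (h.k2.conj hD (MM.le hg)).act hD
    rw [conj_of_commute cv, conj_of_commute c1, e1, cj_cj] at this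
    have := congrArg (fun z => w1⁻¹ * z * w1⁻¹⁻¹) this
    rw [← cj_cj, inv_mul_cancel, one_mul, inv_one, mul_one, conj_of_commute ((EE.commute m1 hv cvw).symm.mul_right
      (EE.commute m1 hw (Commute.refl w)).symm).inv_left] at this
    rw [this, h.k2.act hD]
  have e3 := hN.eq_one hx (mul_mem (inv_mem (self_EE hx)) m2) hv (commute_of_conj_eq (by
    rw [cj_cj, e2]; group)).symm fun c => h.k2.nc hD c.symm
  rw [inv_mul_eq_one] at e3
  subst e3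
  obtain ⟨v', m3, e4⟩ := hN.bijE h.k2 m1
  have c3 : Commute (v' * g) x := commute_of_conj_eq (by
    rw [cj_cj, e1, cj_mul, act_swap (hD.sq x hx) (EE.sq hD hv m3) e4, conj_of_commute (EE.commute' m3 m1 hv cvw),
      ← mul_assoc, EE.sq hD hw m1, one_mul])
  obtain ⟨e, m4, e5⟩ := hN.br hv (mul_mem (EE_le_MM hD hv (wd_self hD hv) m3) hg) (mMM (h.k1.wa hD))
  obtain ⟨w', m5, e6⟩ := hN.bijE h.k1 m4
  refine ⟨v', m3, w', m5, commute_of_conj_eq ?_, by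
    rw [mul_assoc]; exact (EE.commute m5 hx (h.k2.ca hD)).symm.mul_left c3⟩
  rw [mul_assoc w', cj_cj, e5, cj_mul, act_swap (hD.sq u hu) (EE.sq hD hw m5) e6,
    conj_of_commute (EE.commute' m5 m4 hw cvw.symm), ← (EE.commute m4 hu (h.k1.ca hD)).eq, mul_assoc,
    EE.sq hD hv m4, mul_one]

theorem P3.memB (hR : HP D) (h : P3 D u v w x) (hg : g ∈ MM D v) (c1 : Commute g w)
    (c2 : Commute (g * x * g⁻¹) x) : g ∈ MM D w := by
  have hD := hR.toRI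
  have hv := h.k2.hb
  have hw := h.k1.hb
  obtain ⟨v', m1, w', m2, c3, c4⟩ := h.dec hR hg c1 c2
  have := h.ymem hD (mul_mem (mul_mem (EE_le_MM hD hv (h.k1.wb hD) m2) (EE_le_MM hD hv (wd_self hD hv) m1)) hg) c3 c4
  exact (mul_mem_cancel_left (mul_mem (EE_le_MM hD hw (wd_self hD hw) m2) (EE_le_MM hD hw (h.k2.wb hD) m1))).1 this

theorem HN.normK (hR : HN D) (k : K D x v w) (ha : a ∈ Wd D w) (n : ¬ Commute a v) :
    ∃ a' ∈ D, Eqv D a' a ∧ K D a' v w := by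
  have hD := hR.toRI
  obtain ⟨w', k1, q⟩ := hR.wdK (k.hc hD) (k.wb hD) ha fun c => n c.symm
  obtain ⟨a', h1, q1, k2⟩ := hR.bij k1 (k.hc hD) q.symm
  exact ⟨a', h1, q1, k2.symm hD⟩

theorem P3.weyl (hR : HN D) (h : P3 D u v w x) (k : K D a w v) :
    u * x * u * a * (u * x * u)⁻¹ = a * u * x * (a * u)⁻¹ := by
  have hD := hR.toRI
  have hv := h.k2.hb
  obtain ⟨e, m1, e1⟩ := hR.br hv (mMM (h.k1.wa hD)) (mMM (k.wa hD))
  have m2 := hD.conj_closure (mcl h.k1.ha) k.ha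
  have k1 : K D (u * a * u⁻¹) w v := K.of_act hD m2 k.hb (hD.ne v hv)
    ((Wd.conj hD (k.wa hD) (mcl h.k1.ha) (h.k1.ca hD)).2.2 w k.hb (k.cb hD))
    (by rw [e1, cj_cj, conj_of_commute (EE.commute m1 k.hb (k.cb hD)).symm, k.act hD])
  have o := (T2 hD k1 h.k2).eq
  rw [cj_cj, cj_cj, hD.inv h.k2.ha, ← o, mul_inv_rev, hD.inv k.ha, hD.inv h.k1.ha]
  calc _ = u * u * a * u * x * u * a * (u * u) := by group
    _ = _ := by rw [hD.sq u h.k1.ha]; group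

theorem P3.trans (hR : HP D) (h : P3 D u v w x) (ha : a ∈ D) (c1 : Commute a w) (n : ¬ Commute a v) :
    ∃ c ∈ MM D v, Commute c w ∧ Commute (c * x * c⁻¹) a := by
  have hD := hR.toRI
  obtain ⟨a', h1, q, k⟩ := hR.toHN.normK h.k2 (hR.np1 w h.k1.hb a ha c1) n
  have k1 := k.conj hD (mcl (h.sm hD))
  rw [h.sv hD, h.sw hD] at k1
  refine ⟨_, mul_mem (mMM (k1.wa hD)) (mMM (h.k1.wa hD)), commute_of_conj_eq ?_, ?_⟩
  · rw [cj_cj, h.k1.act hD, cj_mul, k1.act hD, k1.fix hD, mul_assoc, hD.sq v h.k2.hb, mul_one]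
  · rw [← h.weyl hR.toHN k1, cj_inv hD (h.sm hD) rfl]
    exact q.commute h1

theorem P3.sE (hR : HN D) (h : P3 D u v w x) (he : e ∈ EE D v) : x * e * x⁻¹ = e * (u * x * u * e * (u * x * u)⁻¹) := by
  have hD := hR.toRI
  have hv := h.k2.hb
  have hw := h.k1.hb
  obtain ⟨f, m1, e1⟩ := hR.br hw (mMM (h.k2.wa hD)) (EE_le_MM hD hw (h.k2.wb hD) he)
  obtain ⟨e', m2, e2⟩ := hR.br hv (mMM (h.k1.wa hD)) (EE_le_MM hD hv (h.k1.wb hD) m1)
  have m3 := EE.conj hD (mcl (h.sm hD)) he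
  rw [h.sv hD] at m3
  have cu := EE.commute he h.k1.ha (h.k1.ca hD)
  have e3 : u * x * u * e * (u * x * u)⁻¹ = f * (e * e') := by
    rw [cj_cj, cj_cj, conj_of_commute cu, e1, cj_mul, conj_of_commute cu, e2, ← mul_assoc,
      (EE.commute' he m1 hv (h.k2.cb hD)).eq, mul_assoc]
  rw [e3] at m3 ⊢
  rw [hR.EE_inf hv hw (h.k1.not_eqv hD) (mul_mem he m2) ((mul_mem_cancel_left m1).1 m3), mul_one, e1]

theorem P3.sqc (hR : HP D) (h : P3 D u v w x) (hc : c ∈ MM D v) (c1 : Commute c w) (hx' : x' ∈ D) (q : Eqv D x x') :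
    ∃ b ∈ MM D v, b ∈ MM D w ∧ ∃ e ∈ EE D v, c * b * c⁻¹ = b * e ∧
      c * x' * c⁻¹ * x * (c * x' * c⁻¹)⁻¹ = c * c * e * x * (c * c * e)⁻¹ := by
  have hD := hR.toRI
  have hN := hR.toHN
  have hv := h.k2.hb
  have hw := h.k1.hb
  obtain ⟨w', u', q1, q2, h'⟩ := h.symm.eqv hN hx' q
  replace h' := h'.symm
  have hw' := h'.k1.hb
  have c2 : Commute c w' := hN.cent1 h.k1 hc hw (Eqv.refl D w) c1 (RI.mem_EE hw' q1)
  have k := h'.k2.conj hD (MM.le hc)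
  rw [conj_of_commute c2, conj_of_commute (MM.cm hc (self_EE hv))] at k
  have k1 := k.conj hD (mcl (h'.sm hD))
  rw [h'.sv hD, h'.sw hD] at k1
  have e1 := h'.weyl hN k1
  rw [cj_inv hD (h'.sm hD) rfl] at e1
  have e2 := cj_inv hD (h'.sm hD) (rfl : _ = u' * x' * u' * (c * x' * c⁻¹) * (u' * x' * u')⁻¹)
  generalize u' * x' * u' * (c * x' * c⁻¹) * (u' * x' * u')⁻¹ = a at k1 e1 e2
  have m1 := mul_mem (mMM (k1.wa hD)) (mMM (h'.k1.wa hD))
  have m2 := mul_mem (inv_mem hc) m1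
  have c3 : Commute (c⁻¹ * (a * u')) x' := commute_of_conj_eq (by rw [cj_cj, ← e1]; group)
  have m3 := h'.memB hR m2 (c2.inv_left.mul_left (commute_of_conj_eq (by
    rw [cj_cj, h'.k1.act hD, cj_mul, k1.act hD, k1.fix hD, mul_assoc, hD.sq v hv, mul_one])))
    (by rw [conj_of_commute c3])
  rw [← MM.eq q1 hw hw'] at m3
  obtain ⟨e, m4, e3⟩ := hN.br hv hc m2
  refine ⟨_, m2, m3, e, m4, e3, ?_⟩
  have e4 : a * u' * (a * u') = c * c * e := by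
    have b2 := hN.B_sq hv hw (h.k1.not_eqv hD) m2 m3
    have c4 := MM.cm m2 m4
    have e5 : a * u' = c * (c⁻¹ * (a * u')) := by group
    generalize c⁻¹ * (a * u') = b at e3 b2 c4 e5
    have e6 : b * c = c * b * e := by
      rw [mul_inv_eq_iff_eq_mul.1 e3, mul_assoc b e c, ← (MM.cm hc m4).eq, mul_assoc, mul_assoc, EE.sq hD hv m4, mul_one]
    rw [e5, mul_assoc, ← mul_assoc b, e6, mul_assoc, mul_assoc, ← c4.eq, ← mul_assoc b, b2, one_mul, mul_assoc]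
  have m5 := e4 ▸ hN.sq_mem hv m1
  have e5 := h'.sE hN m5
  nth_rewrite 3 [← e4] at e5
  rw [cj_mul (u' * x' * u'), cj_mul (u' * x' * u'), e2, h'.su hD] at e5
  have w1 := mul_mem (mMM (k.wa hD)) (EE_le_MM hD hw' (h'.k2.wb hD) m5)
  refine (cj_inv hD k.ha ((cj_cj _ _ _).symm.trans (conj_of_commute (hN.cent1 (h'.k2.symm hD) w1 hx' (Eqv.refl D _)
    (commute_of_conj_eq ?_).symm (RI.mem_EE h.k2.ha q.symm)))))
  obtain ⟨f, m6, e6⟩ := hN.br hw' (mMM (h'.k2.wa hD)) (mMM (k.wa hD))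
  have e7 : c * x' * c⁻¹ * x' * (c * x' * c⁻¹ * x') = f := by
    rw [hD.inv hx'] at e6
    rw [mul_assoc _ x', ← mul_assoc x', e6, hD.sq_assoc k.ha]
  rw [cj_mul, e5, e7, e6, mul_assoc, ← mul_assoc f, ← (EE.commute' m5 m6 hv (h'.k2.cb hD)).eq, mul_assoc _ f f,
    EE.sq hD hw' m6, mul_one]

theorem P3.onto (hR : HP D) (h : P3 D u v w x) (hq : ∀ d ∈ D, ∃ e ∈ D, Eqv D d e ∧ e ≠ d) (hc : c ∈ MM D v)
    (n : c ∉ MM D w) : ∃ b ∈ MM D v, b ∈ MM D w ∧ c * b * c⁻¹ = b * v := by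
  have hD := hR.toRI
  have hN := hR.toHN
  have hv := h.k2.hb
  have hw := h.k1.hb
  have hx := h.k2.ha
  by_cases c1 : Commute c w
  swap
  · obtain ⟨u', m1, e1⟩ := hN.act1 h.k1 hc
    rcases (hN.mem_EE h.k1.ha).1 m1 with rfl | ⟨h1, q⟩
    · exact absurd (commute_of_conj_eq (by simpa using e1 w (self_EE hw))) c1
    obtain ⟨v', k, q1⟩ := hN.Keqv h.k1 h1 q hw (Eqv.refl D w)
    obtain ⟨w', h2, q2, k1⟩ := hN.bij k hv q1.symm
    have m2 := RI.mem_EE h2 q2.symm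
    exact ⟨w', EE_le_MM hD hv (h.k1.wb hD) m2, EE_le_MM hD hw (wd_self hD hw) m2, by rw [e1 w' m2, k1.act hD]⟩
  have m1 := Wd.conj hD (h.k2.wa hD) (MM.le hc) c1
  obtain ⟨a, ha, q1, k⟩ := hN.normK (h.k2.symm hD) m1 fun c2 => n (h.memB hR hc c1 c2)
  have h3 := hD.conj_closure (inv_mem (MM.le hc)) ha
  have q2 := q1.conj hD (inv_mem (MM.le hc))
  rw [show c⁻¹ * (c * x * c⁻¹) * c⁻¹⁻¹ = x by group] at q2
  obtain ⟨x1, h1, q3, n1⟩ := hq _ h3
  have h2 := hR.p2 _ h1 _ h3 q3.symm n1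
  have q4 := hN.hc.eqv hx (mul_mem (RI.mem_EE h1 (q2.symm.trans q3)) (RI.mem_EE h3 q2.symm)) h2
  obtain ⟨b1, m2, m3, e1, m4, f1, c2⟩ := h.sqc hR hc c1 h1 (q2.symm.trans q3)
  obtain ⟨b2, m5, m6, e2, m7, f2, c3⟩ := h.sqc hR hc c1 h2 q4
  have m8 := hN.sq_mem hv hc
  rw [cj_mul, show c * (c⁻¹ * a * c⁻¹⁻¹) * c⁻¹ = a by group, cj_cj, k.act hD, cj_mul, c2,
    conj_of_commute ((commute_conj_left c1).2 ((q2.symm.trans q3).symm.trans (Eqv.refl D x) w hw |>.2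
      (h.k2.ca hD).symm).symm), ← conj_of_commute (EE.commute (mul_mem m8 m4) hw (h.k2.cb hD).symm).symm, ← cj_mul,
    ← (h.k2.symm hD).act hD, ← cj_cj] at c3
  have := hN.eq_one hv (mul_mem (inv_mem (mul_mem (mul_mem m8 m4) (self_EE hv))) (mul_mem m8 m7)) hx
    (commute_of_conj_eq (by rw [cj_cj, ← c3]; group)).symm (h.k2.nc hD)
  rw [inv_mul_eq_one, mul_assoc, mul_right_inj] at this
  refine ⟨_, mul_mem m2 m5, mul_mem m3 m6, ?_⟩
  rw [cj_mul, f1, f2, ← this, mul_assoc, ← mul_assoc e1, ← (MM.cm m5 m4).eq, mul_assoc, ← mul_assoc e1, EE.sq hD hv m4,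
    one_mul, mul_assoc]

theorem HP.ltrans (hR : HP D) (hp : p ∈ D) (ha : a ∈ D) (hb : b ∈ D) (hc : c ∈ D) (c1 : Commute a p)
    (c2 : Commute b p) (c3 : Commute c p) (n : ¬ Eqv D p b) (h1 : Commute a b) (h2 : Commute b c) : Commute a c :=
  ((hR.np2 p hp b hb c2 n a ha c1 h1).cm hc c3 h2.symm).symm

theorem HP.lineB (hR : HP D) (hv : v ∈ D) (hp : p ∈ D) (hp' : p' ∈ D) (c1 : Commute p v) (c2 : Commute p' v)
    (n1 : ¬ Eqv D v p) (n2 : ¬ Eqv D v p') (c3 : Commute p' p) (h1 : g ∈ MM D v) (h2 : g ∈ MM D p) : g ∈ MM D p' := by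
  have hD := hR.toRI
  obtain ⟨t, m1, q⟩ := hR.toHN.line_conj hv (hR.np1 v hv p hp c1) n1 hp' (hR.np2 v hv p hp c1 n1 p' hp' c2 c3) n2
  have := MM.conj hD h2 (MM.le m1)
  rw [MM.eq q (hD.conj_closure (MM.le m1) hp) hp'] at this
  obtain ⟨e, m2, e1⟩ := hR.toHN.br hv m1 h1
  rw [e1] at this
  exact (mul_mem_cancel_right (EE_le_MM hD hp' (hR.np1 p' hp' v hv c2.symm) m2)).1 this

theorem neq_of_nc (hw : w ∈ D) (c : Commute w v) (n : ¬ Commute a w) : ¬ Eqv D v a :=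
  fun q => n ((q w hw).1 c).symm

theorem P3.central (hR : HP D) (h : P3 D u v w x) (h1 : z ∈ MM D u) (h2 : z ∈ MM D v) (h3 : z ∈ MM D w)
    (hg : g ∈ MM D v) : Commute g z := by
  have hD := hR.toRI
  have hN := hR.toHN
  have hv := h.k2.hb
  have hw := h.k1.hb
  have hu := h.k1.ha
  have cuv := h.k1.ca hD
  have cwv := h.k1.cb hD
  refine closure_induction (p := fun g _ => Commute g z) (fun a ha => ?_) (Commute.one_left z)
    (fun _ _ _ _ h1 h2 => h1.mul_left h2) (fun _ _ h => h.inv_left) hg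
  have key : ∀ p ∈ D, Commute p v → ¬ Eqv D v p → Commute a p → z ∈ MM D p → Commute a z := fun p hp c1 n c2 m => by
    obtain ⟨v', m1, p', m2, rfl⟩ := hR.np2 v hv p hp c1 n a ha.1 ha.2.1 c2
    exact (MM.cm h2 m1).symm.mul_left (MM.cm m m2).symm
  by_cases c1 : Commute a u
  · exact key u hu cuv ((h.k1.symm hD).not_eqv hD) c1 h1
  by_cases c2 : Commute a w
  · exact key w hw cwv (h.k1.not_eqv hD) c2 h3
  obtain ⟨c, m1, c3, c4⟩ := h.symm.trans hR ha.1 ha.2.1 c2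
  obtain ⟨d, k⟩ := (h.k1.symm hD).next hD hR.cl
  obtain ⟨b, m2, c5, c6⟩ := (P3.mk k (h.k1.symm hD)).trans hR ha.1 ha.2.1 c1
  have na := neq_of_nc hw cwv c2
  have k1 : ∀ p ∈ D, ∀ c ∈ closure D, Commute p v → ¬ Eqv D v p → Commute c v → Commute (c * p * c⁻¹) a →
      z ∈ MM D p → c * z * c⁻¹ ∈ MM D v ⊓ MM D a := fun p hp c hc c1 n c2 c3 m => by
    have m3 := MM.conj hD h2 hc
    rw [conj_of_commute c2] at m3
    refine ⟨m3, hR.lineB hv (hD.conj_closure hc hp) ha.1 ((commute_conj_left c2).2 c1) ha.2.1 (fun q => n ?_) na c3.symm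
      m3 (MM.conj hD m hc)⟩
    have := q.conj hD (inv_mem hc)
    rwa [conj_of_commute c2.inv_left, show c⁻¹ * (c * p * c⁻¹) * c⁻¹⁻¹ = p by group] at this
  have m3 := k1 u hu c (MM.le m1) cuv ((h.k1.symm hD).not_eqv hD) c3 c4 h1
  have m4 := k1 w hw b (MM.le m2) cwv (h.k1.not_eqv hD) c5 c6 h3
  obtain ⟨w', m5, e1⟩ := hN.br hw m1 h3
  obtain ⟨u', m6, e2⟩ := hN.br hu m2 h1
  have m7 := mul_mem (inv_mem m4) m3
  rw [e1, e2, mul_inv_rev, mul_assoc, inv_mul_cancel_left] at m7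
  have e3 : w' = 1 := by
    rcases (hN.mem_EE hu).1 m6 with rfl | ⟨h4, q⟩
    · rw [inv_one, one_mul] at m7
      exact hN.eq_one hw m5 ha.1 (MM.cm m7.2 (self_EE ha.1)).symm c2
    refine hN.eq_one hw m5 h4 (commute_of_conj_eq ?_) fun c => h.k1.nc hD ((q w hw).2 c.symm).symm
    have := hN.B_sq hv ha.1 na m7.1 m7.2
    rw [hD.inv h4, ← mul_assoc, mul_eq_one_iff_eq_inv, inv_eq_of_mul_eq_one_right (EE.sq hD hw m5)] at this
    rw [hD.inv h4, this]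
  rw [e1, e3, mul_one] at m3
  exact (MM.cm m3.2 (self_EE ha.1)).symm

theorem exists_mul_of_relIndex {B B' M : Subgroup G} (h : B ≤ M) (hi : B'.relIndex M ≤ B'.relIndex B) (hg : g ∈ M) :
    ∃ b ∈ B, b⁻¹ * g ∈ B' := by
  let f : B ⧸ B'.subgroupOf B → M ⧸ B'.subgroupOf M := Quotient.map' (inclusion h) fun a b hab => by
    rw [QuotientGroup.leftRel_apply] at hab ⊢; exact hab
  have hf : Function.Injective f := by
    rintro ⟨a⟩ ⟨b⟩ e
    exact QuotientGroup.eq.2 (QuotientGroup.eq.1 e :)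
  obtain ⟨⟨b⟩, e⟩ := (hf.bijective_of_nat_card_le hi).2 (⟨g, hg⟩ : M)
  exact ⟨b, b.2, (QuotientGroup.eq.1 e :)⟩

theorem P3.dual (hR : HP D) (h : P3 D u v w x) (hq : ∀ d ∈ D, ∃ e ∈ D, Eqv D d e ∧ e ≠ d) :
    (MM D v ⊓ MM D w).relIndex (MM D v) ≤ (MM D v ⊓ MM D u).relIndex (MM D v ⊓ MM D w) := by
  obtain ⟨β, b1, b2, b3, b4⟩ := hR.toHN.exists_pair h.k2.hb
  exact dual_le β (fun a ha a' ha' b hb => b1 a ha a' ha' b hb.1) (fun a ha b hb b' hb' => b2 a ha b hb.1 b' hb'.1)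
    (fun a ha b hb hb' => b3 a b (h.central hR hb'.2 hb.1 hb.2 ha)) fun a ha H => ⟨ha, by_contra fun n => by
      obtain ⟨b, h1, h2, e⟩ := h.onto hR hq ha n
      exact b4 a b e (H b ⟨h1, h2⟩)⟩

theorem P3.L1 (hR : HP D) (h : P3 D u v w x) (hq : ∀ d ∈ D, ∃ e ∈ D, Eqv D d e ∧ e ≠ d) (hd : d ∈ D)
    (c1 : Commute d u) (n1 : ¬ Commute d v) (ha : a ∈ D) (c2 : Commute a u) (n2 : ¬ Commute a v) :
    ∃ y ∈ MM D v, Commute y u ∧ Commute y x ∧ Commute (y * d * y⁻¹) a := by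
  have hD := hR.toRI
  have hN := hR.toHN
  have hv := h.k2.hb
  have hw := h.k1.hb
  have hu := h.k1.ha
  obtain ⟨d', h1, q, k⟩ := hN.normK (h.k1.symm hD |>.next hD hR.cl).choose_spec (hR.np1 u hu d hd c1) n1
  have h' : P3 D w v u d' := ⟨h.k1.symm hD, k⟩
  obtain ⟨c, m1, c3, c4⟩ := h'.trans hR ha c2 n2
  obtain ⟨b, m2, m3⟩ := exists_mul_of_relIndex inf_le_left ((h'.dual hR hq).trans
    ((relIndex_le_of_le_right inf_le_left index_ne_zero_of_finite).trans (h.dual hR hq))) m1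
  obtain ⟨e, m4, e1⟩ := hN.br hw m2.2 (mMM (h.k2.wa hD))
  obtain ⟨v', m5, w', m6, c5, c6⟩ := h.dec hR m2.1 (MM.cm m2.2 (self_EE hw))
    (by rw [e1]; exact (Commute.refl x).mul_left (EE.commute m4 h.k2.ha (h.k2.ca hD)).symm)
  have c7 : Commute b u := by simpa using c3.mul_left (MM.cm m3.2 (self_EE hu)).inv_left
  have e2 := hN.eq_one hw m6 hu (by
    simpa [mul_assoc] using ((c5.mul_left c7.inv_left).mul_left (EE.commute m5 hu (h.k1.ca hD)).symm.inv_left).symm)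
    (h.k1.nc hD)
  rw [e2, one_mul] at c5 c6
  refine ⟨_, mul_mem (EE_le_MM hD hv (wd_self hD hv) m5) m2.1, c5, c6, ?_⟩
  have m7 : (v' * b)⁻¹ * c ∈ MM D u := by
    rw [mul_inv_rev, mul_assoc, ← (MM.cm m1 (inv_mem m5)).eq, ← mul_assoc]
    exact mul_mem m3.2 (EE_le_MM hD hu ((h.k1.xa hD).wd hD hu) (inv_mem m5))
  obtain ⟨e', m8, e3⟩ := hN.br hu m7 (mMM (k.wa hD))
  have m9 := MM.le (mul_mem (EE_le_MM hD hv (wd_self hD hv) m5) m2.1)
  generalize v' * b = y at c5 c6 m7 e3 m9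
  have m10 := EE.conj hD m9 m8
  rw [conj_of_commute c5] at m10
  refine ((q.conj hD m9) a ha |>.1 ?_).symm
  have := c4.symm.mul_right (EE.commute m10 ha c2).inv_right
  rwa [show c = y * (y⁻¹ * c) by group, cj_cj, e3, cj_mul, mul_inv_cancel_right] at this

/-- `h` fixes all lines through `p` -/
def Triv (D : Set G) (h p : G) : Prop := ∀ a ∈ D, Commute a p → Commute (h * a * h⁻¹) a

theorem eqv_cm (hD : RI D) (hh : h ∈ closure D) (q : Eqv D p (h * p * h⁻¹)) (ha : a ∈ D) (c : Commute a p) :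
    Commute (h * a * h⁻¹) p := (q _ (hD.conj_closure hh ha)).2 (commute_cj c h)

theorem neqv_cj (hD : RI D) (hh : h ∈ closure D) (q : Eqv D p (h * p * h⁻¹)) (n : ¬ Eqv D p a) :
    ¬ Eqv D p (h * a * h⁻¹) := fun q1 => n (by
  simpa [mul_assoc] using (q.symm.trans q1).conj hD (inv_mem hh))

theorem eqv_inv (hD : RI D) (hh : h ∈ closure D) (q : Eqv D p (h * p * h⁻¹)) : Eqv D p (h⁻¹ * p * h⁻¹⁻¹) := by
  simpa [mul_assoc] using (q.conj hD (inv_mem hh)).symm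

theorem P3.L2 (hR : HP D) (h : P3 D u v w x) (hq : ∀ d ∈ D, ∃ e ∈ D, Eqv D d e ∧ e ≠ d) (hg : g ∈ closure D)
    (q1 : Eqv D u (g * u * g⁻¹)) (q2 : Eqv D v (g * v * g⁻¹)) (q3 : Eqv D w (g * w * g⁻¹))
    (q4 : Eqv D x (g * x * g⁻¹)) (H : Triv D g x) (hd : d ∈ D) (c1 : Commute d u) (n1 : ¬ Commute d v)
    (c2 : Commute (g * d * g⁻¹) d) : Triv D g u := fun a ha c3 => by
  have hD := hR.toRI
  have hN := hR.toHN
  have hv := h.k2.hb
  have hw := h.k1.hb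
  have hu := h.k1.ha
  have hx := h.k2.ha
  have cj := fun {a g} (hg : g ∈ closure D) (ha : a ∈ D) => hD.conj_closure hg ha
  have cuv := h.k1.ca hD
  by_cases n2 : Commute a v
  · exact hR.ltrans hu (cj hg ha) hv ha (eqv_cm hD hg q1 ha c3) cuv.symm c3
      (fun q => (h.k1.symm hD).not_eqv hD q.symm) (eqv_cm hD hg q2 ha n2) n2.symm
  obtain ⟨y, m1, c4, c5, c6⟩ := h.L1 hR hq hd c1 n1 ha c3 n2
  have m2 := h.ymem hD m1 c4 c5
  have m3 := MM.conj hD m1 hg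
  have m4 := MM.conj hD m2 hg
  rw [← MM.eq q2 hv (cj hg hv)] at m3
  rw [← MM.eq q3 hw (cj hg hw)] at m4
  have c7 := hN.cent1 (h.k1.symm hD) m3 (cj hg hu) q1 (commute_cj c4 g) (self_EE hu)
  have c8 := hN.cent1 (h.k2.symm hD) m4 (cj hg hx) q4 (commute_cj c5 g) (self_EE hx)
  obtain ⟨m, k⟩ := (h.k2.symm hD).next hD hR.cl
  have hy := MM.le m1
  have q5 : Eqv D x (y * x * y⁻¹) := by rw [conj_of_commute c5]; exact Eqv.refl D x
  have q6 := eqv_inv hD hg q4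
  have nm := (k.symm hD).not_eqv hD
  have h1 := cj (inv_mem hg) k.ha
  have c9 := eqv_cm hD (inv_mem hg) q6 k.ha (k.ca hD)
  have c10 := eqv_cm hD hy q5 h1 c9
  have c11 : Commute (y * (g⁻¹ * m * g⁻¹⁻¹) * y⁻¹) (y * m * y⁻¹) := commute_cj (by
    simpa [mul_assoc] using (H _ h1 c9).symm) y
  have c12 := hR.ltrans hx (cj hg (cj hy h1)) (cj hy h1) (cj hy k.ha) (eqv_cm hD hg q4 (cj hy h1) c10) c10
    (eqv_cm hD hy q5 k.ha (k.ca hD)) (neqv_cj hD hy q5 (neqv_cj hD (inv_mem hg) q6 nm)) (H _ (cj hy h1) c10) c11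
  have m5 := (P3.mk (h.k2.symm hD) k).memB hR (mul_mem (inv_mem m2) m4) (c5.inv_left.mul_left c8) (by
    simpa [mul_assoc] using commute_cj c12 y⁻¹)
  have m6 := MM.conj hD m5 (mcl (h.sm hD))
  rw [h.sx hD, conj_of_commute (commute3 (c4.inv_left.mul_left c7) (c5.inv_left.mul_left c8)).symm] at m6
  have c13 := eqv_cm hD hg q1 hd c1
  obtain ⟨e, m7, e1⟩ := hN.br hu m6 (mMM (hR.np1 u hu _ (cj hg hd) c13))
  have q7 : Eqv D u (y * u * y⁻¹) := by rw [conj_of_commute c4]; exact Eqv.refl D u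
  have nd := neq_of_nc hv cuv.symm n1
  have c14 : Commute (g * (y * d * y⁻¹) * g⁻¹) (y * d * y⁻¹) := by
    have := commute_cj (c2.mul_left (EE.commute m7 hd c1).symm) y
    rw [← e1] at this
    simpa [mul_assoc] using this
  have c15 := eqv_cm hD hy q7 hd c1
  have n3 := neqv_cj hD hy q7 nd
  exact hR.ltrans hu (cj hg ha) (cj hy hd) ha (eqv_cm hD hg q1 ha c3) c15 c3 n3
    (hR.ltrans hu (cj hg ha) (cj hg (cj hy hd)) (cj hy hd) (eqv_cm hD hg q1 ha c3) (eqv_cm hD hg q1 (cj hy hd) c15) c15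
      (neqv_cj hD hg q1 n3) (commute_cj c6.symm g) c14) c6

end CfsgH7.RI
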