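import Cfsg.Agent.H7.RT5

/-! Root involutions (helper7): far pairs force `|E(d)| = 2`. -/

set_option autoImplicit false
set_option linter.unusedSectionVars false

namespace CfsgH7.RI
open Cfsg CfsgH9 Subgroup

variable {G : Type*} [Group G] [Finite G] {D : Set G}
  {a a' b b' c c' c2 d d' e e' f g h m n p p' q r s t u v v' w w' x x' y z κ σ : G}

theorem HP.xp (hR : HP D) (ha : a ∈ D) (hb : b ∈ D) (c : Commute b a) (n : ¬ Eqv D a b) : XP D a b :=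
  hR.toHN.lemA ha (hR.np1 a ha b hb c) fun e => n (e ▸ Eqv.refl D _)

theorem Far.same (hG : HG D) (hR : HP D) (f : Far D d x) (hd : d ∈ D) (hx : x ∈ D) (ha : a ∈ D) (hb : b ∈ D)
    (c1 : Commute a d) (c2 : Commute b d) (c3 : Commute b a) (n1 : ¬ Far D a x) (n2 : ¬ Far D b x) : Eqv D a b :=
  by_contra fun n => (hR.toHN.F2 ha hx (hR.xp ha hb c3 n) n fun z hz m =>
    f.cent hG hd hx hz (sup_cm hd c1.symm c2.symm m)).elim n1 n2

theorem P4.far_of (hG : HG D) (hR : HP D) (hq : ∀ d ∈ D, ∃ e ∈ D, Eqv D d e ∧ e ≠ d) (h : P4 D d u v w x)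
    (ha : a ∈ D) (c1 : Commute a u) (n : ¬ Commute a v) : Far D a x := by
  have hD := hR.toRI
  obtain ⟨y, m1, c2, c3, c4⟩ := h.toP3.L1 hR hq h.k3.ha (h.k3.ca hD) (h.k3.nc hD) ha c1 n
  have f := h.far.conj hD (MM.le m1)
  rw [conj_of_commute c3] at f
  by_contra n1
  exact n ((f.same hG hR (hD.conj_closure (MM.le m1) h.k3.ha) h.k2.ha h.k1.ha ha
    ((commute_conj_left c2).2 (h.k3.ca hD)).symm c4.symm c1 (h.not_far hD) n1 v h.k2.hb).1 (h.k1.ca hD).symm).symm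

theorem P4.uniq (hG : HG D) (hR : HP D) (hq : ∀ d ∈ D, ∃ e ∈ D, Eqv D d e ∧ e ≠ d) (h : P4 D d u v w x)
    (ha : a ∈ D) (c1 : Commute a u) (n : ¬ Od a x) : Eqv D v a := by
  have hD := hR.toRI
  have hN := hR.toHN
  have hv := h.k2.hb
  have hu := h.k1.ha
  have hx := h.k2.ha
  obtain ⟨v', m1, u', m2, rfl⟩ := hR.np2 v hv u hu (h.k1.ca hD) ((h.k1.symm hD).not_eqv hD) a ha
    (by_contra fun c => n (h.far_of hG hR hq ha c1 c).1) c1
  rcases (hN.mem_EE hu).1 m2 with rfl | ⟨h1, q⟩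
  · exact hN.hc.eqv hv (mul_mem m1 (one_mem _)) ha
  obtain ⟨v1, k, q1⟩ := hN.Keqv h.k1 h1 q h.k1.hb (Eqv.refl D w)
  obtain ⟨w', m3, e⟩ := hN.bijE k (EE.eq q1 ▸ m1)
  have := (q.od' hD hu h1 hx (h.o3 hD).od).conj w'
  rw [act_swap (hD.sq _ h1) (EE.sq hD h.k1.hb m3) e, conj_of_commute (EE.commute m3 hx (h.k2.ca hD)).symm] at this
  exact absurd this n

theorem Triv.eqv (H : Triv D g p) (q : Eqv D p p') : Triv D g p' := fun a ha c => H a ha ((q a ha).2 c)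

theorem P3.triv_of (hR : HP D) (h : P3 D u v w x) (hq : ∀ d ∈ D, ∃ e ∈ D, Eqv D d e ∧ e ≠ d) (hg : g ∈ closure D)
    (o : Odd (orderOf g)) (q1 : Eqv D u (g * u * g⁻¹)) (q2 : Eqv D v (g * v * g⁻¹))
    (H : ∀ y ∈ MM D v, Commute y u → Commute y x → Commute g y) : Triv D g u := fun a ha c1 => by
  have hD := hR.toRI
  have hv := h.k2.hb
  have hu := h.k1.ha
  have cj := fun {a g} (hg : g ∈ closure D) (ha : a ∈ D) => hD.conj_closure hg ha
  have cuv := h.k1.ca hD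
  by_cases n : Commute a v
  · exact hR.ltrans hu (cj hg ha) hv ha (eqv_cm hD hg q1 ha c1) cuv.symm c1
      (fun q => (h.k1.symm hD).not_eqv hD q.symm) (eqv_cm hD hg q2 ha n) n.symm
  have c2 := eqv_cm hD hg q1 ha c1
  obtain ⟨y, m1, c3, c4, c5⟩ := h.L1 hR hq ha c1 n (cj hg ha) c2 fun c => n (by
    simpa [mul_assoc] using eqv_cm hD (inv_mem hg) (eqv_inv hD hg q2) (cj hg ha) c)
  have c6 := H y m1 c3 c4
  have y2 := hR.toHN.B_sq hv h.k1.hb (h.k1.not_eqv hD) m1 (h.ymem hD m1 c3 c4)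
  have hy := MM.le m1
  have q3 : Eqv D u (y * u * y⁻¹) := by rw [conj_of_commute c3]; exact Eqv.refl D u
  have na := neq_of_nc hv cuv.symm n
  have m2 := mul_mem hg hg
  have q4 : Eqv D u (g * g * u * (g * g)⁻¹) := by rw [cj_cj]; exact q1.trans (q1.conj hD hg)
  have c7 : Commute (g * g * a * (g * g)⁻¹) a := by
    refine hR.ltrans hu (cj m2 ha) (cj hy (cj hg ha)) ha (eqv_cm hD m2 q4 ha c1) (eqv_cm hD hy q3 (cj hg ha) c2) c1
      (neqv_cj hD hy q3 (neqv_cj hD hg q1 na)) ?_ ?_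
    · have := (commute_cj c5 g).symm
      rwa [← cj_cj g y, c6.eq, cj_cj y, ← cj_cj g g] at this
    · have := (commute_cj c5 y).symm
      rwa [← cj_cj y y, y2, one_mul, inv_one, mul_one] at this
  have k : ∀ j : ℕ, Commute ((g * g) ^ j * a * ((g * g) ^ j)⁻¹) a := fun j => by
    induction j with
    | zero => simp
    | succ j ih =>
      have m3 := pow_mem m2 (j + 1)
      refine hR.ltrans hu (cj m3 ha) (cj m2 ha) ha (eqv_cm hD m3 (eqv_pow hD m2 q4 _) ha c1) (eqv_cm hD m2 q4 ha c1) c1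
        (neqv_cj hD m2 q4 na) ?_ c7
      rw [pow_succ', cj_cj]; exact commute_cj ih _
  obtain ⟨j, hj⟩ := o
  have := k (j + 1)
  rwa [← pow_two, ← pow_mul, show 2 * (j + 1) = 2 * j + 1 + 1 by ring, pow_succ, ← hj, pow_orderOf_eq_one,
    one_mul] at this

theorem P3.torus (hR : HP D) (h : P3 D u v w x) (hq : ∀ d ∈ D, ∃ e ∈ D, Eqv D d e ∧ e ≠ d) :
    ∃ g ∈ closure D, Eqv D u (g * u * g⁻¹) ∧ Eqv D v (g * v * g⁻¹) ∧ Eqv D w (g * w * g⁻¹) ∧ Eqv D x (g * x * g⁻¹) ∧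
      (∀ e ∈ EE D v, Commute g e → e = 1) ∧ (∀ e ∈ EE D w, Commute g e → e = 1) ∧ Triv D g u ∧ Triv D g x ∧
      g * (u * x * u) = u * x * u * g⁻¹ ∧ (Triv D g v → ∀ a ∈ D, Commute a v → Commute a u ∨ Commute a w) := by
  have hD := hR.toRI
  have hN := hR.toHN
  have hv := h.k2.hb
  have hu := h.k1.ha
  have hw := h.k1.hb
  have hx := h.k2.ha
  obtain ⟨u', hu', q1, n1⟩ := hq u hu
  obtain ⟨v', x', q2, q3, h'⟩ := h.eqv hN hu' q1
  have hx' := h'.k2.ha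
  have hv' := h'.k2.hb
  have m1 := h.sm hD
  have m2 := h'.sm hD
  have k : ∀ {a a' b b' s s'}, s ∈ D → s' ∈ D → Eqv D a a' → Eqv D b b' → s * b * s⁻¹ = a → s' * a' * s'⁻¹ = b' →
      Eqv D a (s * s' * a * (s * s')⁻¹) := fun hs hs' q1 q2 e1 e2 => by
    have := (q2.trans (e2 ▸ q1.symm.conj hD (mcl hs'))).conj hD (mcl hs)
    rwa [e1, ← cj_cj] at this
  have r1 := k m1 m2 q1 q3 (h.sx hD) (h'.su hD)
  have r2 := k m1 m2 q2 (Eqv.refl D w) (h.sw hD) (h'.sv hD)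
  have r3 := k m1 m2 (Eqv.refl D w) q2 (h.sv hD) (h'.sw hD)
  have r4 := k m1 m2 q3 q1 (h.su hD) (h'.sx hD)
  have nx : x ≠ x' := fun e => by
    subst e
    have e1 := hN.eq_one hv (mul_mem (self_EE hv) (RI.mem_EE hv' q2)) hx (commute_of_conj_eq (by
      rw [cj_mul, h.k2.act hD, h'.k2.act hD, (h'.k2.cb hD).eq, mul_assoc, hD.sq_assoc hw])) (h.k2.nc hD)
    rw [← hD.inv hv, inv_mul_eq_one] at e1
    subst e1
    have e2 := hN.eq_one hu (mul_mem (self_EE hu) (RI.mem_EE hu' q1)) hw (commute_of_conj_eq (by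
      rw [cj_cj, h'.k1.act hD, cj_mul, h.k1.act hD, h.k1.fix hD, mul_assoc, hD.sq v hv, mul_one])).symm
      fun c => h.k1.nc hD c.symm
    rw [← hD.inv hu, inv_mul_eq_one] at e2
    exact n1 e2.symm
  have f1 : ∀ e ∈ EE D v, Commute (u * x * u * (u' * x' * u')) e → e = 1 := fun e he c => by
    have e1 := h'.sE hN (EE.eq q2 ▸ he)
    have e2 := cj_inv hD m1 ((cj_cj _ _ _).symm.trans (conj_of_commute c))
    rw [← e2, ← h.sE hN he] at e1
    have m3 := hR.p2 x hx x' hx' q3 nx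
    refine hN.eq_one hv he m3 (commute_of_conj_eq ?_) fun c => h.k2.nc hD
      ((hN.hc.eqv hx (mul_mem (self_EE hx) (RI.mem_EE hx' q3)) m3 v hv).2 c.symm).symm
    rw [cj_cj, e1, cj_inv hD hx rfl]
  have iv : u * x * u * (u' * x' * u') * (u * x * u) = u * x * u * (u * x * u * (u' * x' * u'))⁻¹ := by
    rw [mul_inv_rev, hD.inv m1, hD.inv m2, mul_assoc]
  have mg := mul_mem (mcl m1) (mcl m2)
  have o : Od (u * x * u) (u' * x' * u') := by_contra fun n => by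
    have c : Commute (u * x * u * (u' * x' * u') * (u * x * u) * (u' * x' * u')) v := by
      rcases hD.comm_mem_or m1 m2 n with e | m3
      · rw [e]; exact Commute.one_left v
      · exact hN.hc.cm_of_eqv m3 hv (by rw [mul_assoc _ (u * x * u), cj_cj]; exact r2.trans (r2.conj hD mg))
    rw [mul_assoc _ (u * x * u)] at c
    generalize u * x * u * (u' * x' * u') = g at c f1 r2 mg
    have m3 := RI.mem_EE (hD.conj_closure mg hv) r2
    have := f1 _ (mul_mem (self_EE hv) m3) (commute_of_conj_eq (by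
      rw [cj_mul, ← cj_cj, conj_of_commute c, (r2.commute hv).eq]))
    rw [mul_eq_one_iff_inv_eq, hD.inv hv] at this
    exact hD.ne v hv (f1 v (self_EE hv) (commute_of_conj_eq this.symm))
  have cy : ∀ y ∈ MM D v, Commute y u → Commute y x → Commute (u * x * u * (u' * x' * u')) y := fun y m c1 c2 =>
    ((commute3 c1 c2).mul_right (commute3 (hN.cent1 (h.k1.symm hD) m hu (Eqv.refl D u) c1 (RI.mem_EE hu' q1))
      (hN.cent1 (h.k2.symm hD) (h.ymem hD m c1 c2) hx (Eqv.refl D x) c2 (RI.mem_EE hx' q3)))).symm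
  refine ⟨_, mg, r1, r2, r3, r4, f1, fun e he c => ?_, h.triv_of hR hq mg o.2 r1 r2 cy,
    h.symm.triv_of hR hq mg o.2 r4 r3 fun y m c1 c2 => cy y (h.symm.ymem hD m c1 c2) c2 c1, iv, fun H a ha c1 => ?_⟩
  · have m3 := EE.conj hD (mcl m1) he
    rw [h.sw hD] at m3
    have := f1 _ m3 (by
      have := commute_cj c.inv_left (u * x * u)
      rwa [← iv, mul_inv_cancel_right] at this)
    exact conj_eq_one_iff.1 this
  refine or_iff_not_imp_right.2 fun n => ?_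
  obtain ⟨a1, h1, p1, k1⟩ := hN.normK h.k1 (hR.np1 v hv a ha c1) n
  obtain ⟨a2, h2, p2, k2⟩ := hN.normK h'.k1 (hR.np1 v' hv' a ha ((q2 a ha).1 c1)) n
  have c2 := commute_cj (H a2 h2 ((q2 a2 h2).2 (k2.ca hD))) (u * x * u)
  rw [cj_cj (u * x * u), cj_inv hD m1 rfl] at c2
  have c3 := (((p2.trans p1.symm).conj hD (mcl m1)) _ (hD.conj_closure (mcl m2) h2)).1 c2
  rw [h.weyl hN k1, h'.weyl hN k2] at c3
  have w1 := mul_mem (mMM (k1.wa hD)) (mMM (h.k1.wa hD))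
  have w2 := mul_mem (mMM (k2.wa hD)) (mMM (h'.k1.wa hD))
  rw [← MM.eq q2 hv hv'] at w2
  have c4 := ((q3.conj hD (MM.le w2)) _ (hD.conj_closure (MM.le w1) hx)).2 c3.symm
  have cw : ∀ {a u v}, K D a w v → K D u w v → Commute (a * u) w := fun k1 k2 => commute_of_conj_eq (by
    rw [cj_cj, k2.act hD, cj_mul, k1.act hD, k1.fix hD, mul_assoc, hD.sq _ (k1.hc hD), mul_one])
  have m3 := mul_mem (inv_mem w2) w1
  have m4 := h.memB hR m3 ((cw k2 h'.k1).inv_left.mul_left (cw k1 h.k1)) (by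
    simpa [mul_assoc] using commute_cj c4 (a2 * u')⁻¹)
  have m5 := mul_mem (RI.mem_EE h2 p2.symm) (RI.mem_EE h1 p1.symm)
  have m6 := mul_mem (self_EE hu) (RI.mem_EE hu' q1)
  have m7 := hR.p2 u hu u' hu' q1 n1.symm
  have q4 := hN.hc.eqv hu m6 m7
  have e1 := hN.B_sq hv hw (h.k1.not_eqv hD) m3 m4
  have c5 : Commute (u * u') (a2 * a1) := commute_of_conj_eq (by
    rw [mul_inv_rev, hD.inv h2, hD.inv hu'] at e1
    rw [hD.inv m7]
    refine Eq.trans (eq_inv_iff_mul_eq_one.2 ?_) (inv_eq_of_mul_eq_one_right (EE.sq hD ha m5))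
    calc _ = u * (u' * a2 * (a1 * u) * (u' * a2 * (a1 * u))) * u⁻¹ := by group
      _ = 1 := by rw [e1]; group)
  by_contra n2
  have e2 := hN.eq_one ha m5 m7 c5 fun c => n2 ((q4 a ha).2 c.symm)
  have c6 := MM.cm m4 (self_EE hw)
  rw [mul_inv_rev, hD.inv h2, hD.inv hu', mul_assoc, ← mul_assoc a2, e2, one_mul, ← (q1.commute hu).eq] at c6
  exact h.k1.nc hD ((q4 w hw).2 c6.symm).symm

theorem lang (hD : RI D) (hg : g ∈ closure D) (q : Eqv D v (g * v * g⁻¹)) (H : ∀ e ∈ EE D v, Commute g e → e = 1)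
    (he : e ∈ EE D v) : ∃ e' ∈ EE D v, e'⁻¹ * (g * e' * g⁻¹) = e := by
  have k : ∀ e ∈ EE D v, g * e * g⁻¹ ∈ EE D v := fun e he => (EE.eq q).ge (EE.conj hD hg he)
  let f : EE D v → EE D v := fun e => ⟨_, mul_mem (inv_mem e.2) (k e e.2)⟩
  have hf : Function.Injective f := fun a b e => by
    have e1 : (a : G)⁻¹ * (g * a * g⁻¹) = (b : G)⁻¹ * (g * b * g⁻¹) := congrArg Subtype.val e
    have := H _ (mul_mem b.2 (inv_mem a.2)) (commute_of_conj_eq (by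
      calc _ = b * ((b : G)⁻¹ * (g * b * g⁻¹)) * (g * a * g⁻¹)⁻¹ := by group
        _ = _ := by rw [← e1]; group))
    exact Subtype.ext (mul_inv_eq_one.1 this).symm
  obtain ⟨e', h⟩ := Finite.injective_iff_surjective.1 hf ⟨e, he⟩
  exact ⟨e', e'.2, congrArg Subtype.val h⟩

theorem HP.line_reg (hR : HP D) (k : K D d v u) (ha : a ∈ D) (c1 : Commute a u) (c2 : Commute a d)
    (n : ¬ Eqv D u a) : ∃ e ∈ EE D v, Eqv D (e * d * e⁻¹) a := by
  have hD := hR.toRI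
  have hN := hR.toHN
  obtain ⟨u', m1, d', m2, rfl⟩ := hR.np2 u (k.hc hD) d k.ha (k.ca hD) ((k.symm hD).not_eqv hD) a ha c1 c2
  rcases (hN.mem_EE k.ha).1 m2 with rfl | ⟨h1, q⟩
  · exact absurd (hN.hc.eqv (k.hc hD) (mul_mem m1 (one_mem _)) ha) n
  obtain ⟨u1, k1, q1⟩ := hN.Keqv k h1 q k.hb (Eqv.refl D v)
  obtain ⟨e, m3, e1⟩ := hN.bijE k1 (EE.eq q1 ▸ m1)
  exact ⟨e, m3, act_swap (hD.sq _ h1) (EE.sq hD k.hb m3) e1 ▸ q.conj hD (EE.le m3)⟩

theorem P4.nc_swap (hG : HG D) (hR : HP D) (h : P4 D d u v w x) (hσ : σ ∈ D) (q : Eqv D x (σ * d * σ⁻¹)) :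
    ¬ Commute (σ * u * σ⁻¹) w := fun c => by
  have hD := hR.toRI
  have hN := hR.toHN
  have hv := h.k2.hb
  have hu := h.k1.ha
  have hw := h.k1.hb
  have hx := h.k2.ha
  have hd := h.k3.ha
  have m := mcl hσ
  have q1 := (h.symm hN).far.same hG hR hx hd hw (hD.conj_closure m hu) (h.k2.ca hD).symm
    ((q _ (hD.conj_closure m hu)).2 (commute_cj (h.k3.ca hD).symm σ)) c ((h.symm hN).toP3.not_far hD) fun f => by
      have := f.conj hD m
      rw [cj_inv hD hσ rfl] at this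
      exact h.not_far hD (this.eqv hD hu (hD.conj_closure m hd) hx q.symm)
  have q2 := q1.conj hD m
  rw [cj_inv hD hσ rfl] at q2
  have k1 := h.k1.conj hD m
  obtain ⟨v', k2, q3⟩ := hN.Keqv (h.k1.symm hD) k1.ha q1 k1.hb q2.symm
  rw [← k2.eq, k1.eq] at q3
  obtain ⟨e, m1, e1⟩ := hN.br hv (mMM (hR.np1 v hv σ hσ (hN.hc.cm_of_eqv hσ hv q3))) (mMM (h.k1.wa hD))
  exact h.k1.nc hD ((q1 u hu).2 (e1 ▸ (Commute.refl u).mul_right (EE.commute m1 hu (h.k1.ca hD))))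

theorem HE.odd_class (hR : HE D) (hx : x ∈ D) : Odd {e | e ∈ D ∧ Eqv D x e}.ncard := by
  have e1 : (EE D x : Set G) = insert 1 {e | e ∈ D ∧ Eqv D x e} := Set.ext fun _ => hR.mem_EE hx
  have e2 := Set.ncard_insert_of_notMem (s := {e | e ∈ D ∧ Eqv D x e}) (a := 1) fun h => hR.ne 1 h.1 rfl
  haveI : Fact (Nat.Prime 2) := ⟨Nat.prime_two⟩
  have := orderOf_dvd_natCard (⟨x, self_EE hx⟩ : EE D x)
  rw [← orderOf_coe, orderOf_eq_prime (p := 2) (by rw [pow_two]; exact hR.sq x hx) (hR.ne x hx),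
    ← SetLike.coe_sort_coe, Nat.card_coe_set_eq, e1, e2] at this
  exact Nat.not_even_iff_odd.1 fun h => (Nat.even_add_one.1 (even_iff_two_dvd.2 this)) h

theorem P4.false (hG : HG D) (hq : ∀ d ∈ D, ∃ e ∈ D, Eqv D d e ∧ e ≠ d) (h : P4 D d u v w x) : False := by
  classical
  have hR := h.hp hG
  have hD := hR.toRI
  have hN := hR.toHN
  have cj := fun {a g} (hg : g ∈ closure D) (ha : a ∈ D) => hD.conj_closure hg ha
  obtain ⟨g, hg, q1, q2, q3, q4, f1, f2, t1, t2, iv, t3⟩ := h.toP3.torus hR hq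
  have hv := h.k2.hb
  have hu := h.k1.ha
  have hw := h.k1.hb
  have hx := h.k2.ha
  obtain ⟨d, h, q0⟩ : ∃ d, P4 D d u v w x ∧ Eqv D d (g * d * g⁻¹) := by
    have hd := h.k3.ha
    obtain ⟨e, m1, q⟩ := hR.line_reg h.k3 (cj hg hd) (eqv_cm hD hg q1 hd (h.k3.ca hD)) (t1 d hd (h.k3.ca hD))
      (neqv_cj hD hg q1 ((h.k3.symm hD).not_eqv hD))
    obtain ⟨e', m2, e1⟩ := lang hD hg q2 f1 (inv_mem m1)
    have k := h.k3.conj hD (EE.le m2)
    rw [conj_of_commute (EE.commute m2 hv (Commute.refl v)).symm,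
      conj_of_commute (EE.commute m2 hu (h.k1.ca hD)).symm] at k
    refine ⟨_, ⟨h.toP3, k, h.far_of hG hR hq k.ha (k.ca hD) (k.nc hD)⟩, ?_⟩
    have := q.conj hD (mul_mem (mul_mem hg (EE.le m2)) (inv_mem hg))
    rw [← cj_cj, ← mul_inv_cancel_left e' (g * e' * g⁻¹), e1, inv_mul_cancel_right, ← e1, mul_inv_cancel_left] at this
    simpa [mul_assoc] using this
  have hd := h.k3.ha
  have fx := (h.symm hN).far
  have nfg : ∀ a ∈ D, ¬ Far D a d → ¬ Far D (g * a * g⁻¹) d := fun a ha n f => n (by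
    simpa [mul_assoc] using (f.eqv hD (cj hg ha) hd (cj hg hd) q0).conj hD (inv_mem hg))
  have su : ∀ σ ∈ D, Eqv D x (σ * d * σ⁻¹) → Commute (σ * u * σ⁻¹) x ∧ ¬ Far D (σ * u * σ⁻¹) d := fun σ hσ q =>
    ⟨(q _ (cj (mcl hσ) hu)).2 (commute_cj (h.k3.ca hD).symm σ), fun f => by
      have := f.conj hD (mcl hσ)
      rw [cj_inv hD hσ rfl] at this
      exact h.not_far hD (this.eqv hD hu (cj (mcl hσ) hd) hx q.symm)⟩
  obtain ⟨σ, hσ, e1, -⟩ := exists_mid hD hd hx h.far.1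
  nth_rewrite 2 [← hD.inv hσ] at e1
  have e2 := cj_inv hD hσ e1
  have q5 : Eqv D x (σ * d * σ⁻¹) := e1 ▸ Eqv.refl D _
  have mσ := mcl hσ
  have hu' := cj mσ hu
  have hv' := cj mσ hv
  have hw' := cj mσ hw
  obtain ⟨c1, n1⟩ := su σ hσ q5
  have n2 := h.nc_swap hG hR hσ q5
  have q6 := fx.same hG hR hx hd hu' (cj hg hu') c1 (eqv_cm hD hg q4 hu' c1) (t2 _ hu' c1) n1 (nfg _ hu' n1)
  have q7 : Eqv D (σ * v * σ⁻¹) (g * (σ * v * σ⁻¹) * g⁻¹) := by
    have := (h.uniq hG hR hq (cj mσ (cj hg hv')) (by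
      have := commute_cj (eqv_cm hD hg q6 hv' (commute_cj (h.k1.ca hD).symm σ)) σ
      rwa [cj_inv hD hσ (a := u) rfl] at this) fun o => h.k2.fo.not_od (by
        have o1 := o.conj σ
        rw [cj_inv hD hσ rfl, e2] at o1
        have o2 := (od_conj_iff g).1 (q0.od' hD hd (cj hg hd) (cj hg hv') o1.symm)
        rw [← e2] at o2
        exact (od_conj_iff σ).1 o2)).conj hD mσ
    rwa [cj_inv hD hσ (a := g * (σ * v * σ⁻¹) * g⁻¹) rfl] at this
  have k1 := h.k2.conj hD mσ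
  rw [e2] at k1
  have q8 : Eqv D (σ * w * σ⁻¹) (g * (σ * w * σ⁻¹) * g⁻¹) := by
    obtain ⟨c, k2, q⟩ := hN.Keqv k1 (cj hg hd) q0 (cj hg hv') q7
    rwa [← k2.eq, (k1.conj hD hg).eq] at q
  have p1 := (h.symm hN).toP3.symm.conj hD mσ
  have t4 : Triv D g (σ * w * σ⁻¹) := by
    have p2 := (P3.mk (h.k1.symm hD) h.k3).conj hD mσ
    rw [e1] at p2
    exact p2.L2 hR hq hg q8 q7 q6 q4 t2 hd (k1.ca hD) (k1.nc hD) (q0.commute hd).symm
  have n3 : ¬ Commute (σ * w * σ⁻¹) u := fun c => n2 (by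
    have := commute_cj c.symm σ
    rwa [cj_inv hD hσ (a := w) rfl] at this)
  obtain ⟨w'', h1, q9, k2⟩ := hN.normK (h.k3.symm hD |>.next hD hR.cl).choose_spec
    (hR.np1 d hd _ hw' (k1.ca hD).symm) n3
  have t5 := t3 ((P3.mk (h.k3.symm hD) k2).L2 hR hq hg q2 q1 q0 (q9.trans (q8.trans (q9.symm.conj hD hg)))
    (t4.eqv q9.symm) hw (h.k1.cb hD) (fun c => h.k1.nc hD c.symm) (q3.commute hw).symm)
  have two : ∀ a ∈ D, ∀ b ∈ D, Commute a x → Commute b x → ¬ Commute a w → ¬ Commute b w → Commute a b := by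
    obtain ⟨k, hk, e⟩ := hR.cl v hv x hx
    have l : ∀ a ∈ D, Commute a x → Commute a (k * u * k⁻¹) ∨ Commute a (k * w * k⁻¹) := fun a ha c => by
      have := (t5 _ (cj (inv_mem hk) ha) (by simpa [e, mul_assoc] using commute_cj c k⁻¹)).imp (commute_cj · k)
        (commute_cj · k)
      simpa [mul_assoc] using this
    have tr : ∀ p ∈ D, Commute p v → ¬ Eqv D v p → ∀ a ∈ D, ∀ b ∈ D, Commute a x → Commute b x →
        Commute a (k * p * k⁻¹) → Commute b (k * p * k⁻¹) → Commute a b := fun p hp c n a ha b hb c1 c2 c3 c4 =>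
      hR.ltrans hx ha (cj hk hp) hb c1 (e ▸ commute_cj c k) c2 (fun q => n (by
        simpa [e, mul_assoc] using q.conj hD (inv_mem hk))) c3 c4.symm
    have tu := tr u hu (h.k1.ca hD) ((h.k1.symm hD).not_eqv hD)
    have tw := tr w hw (h.k1.cb hD) (h.k1.not_eqv hD)
    have cw := (h.k2.ca hD).symm
    intro a ha b hb c1 c2 n1 n2
    rcases l w hw cw with l1 | l1
    · exact tw a ha b hb c1 c2 ((l a ha c1).resolve_left fun c => n1 (tu a ha w hw c1 cw c l1))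
        ((l b hb c2).resolve_left fun c => n2 (tu b hb w hw c2 cw c l1))
    · exact tu a ha b hb c1 c2 ((l a ha c1).resolve_right fun c => n1 (tw a ha w hw c1 cw c l1))
        ((l b hb c2).resolve_right fun c => n2 (tw b hb w hw c2 cw c l1))
  have hs := h.sm hD
  have s1 := h.su hD
  have s2 := h.sv hD
  have s3 := h.sx hD
  generalize u * x * u = s at hs s1 s2 s3 iv
  have ms := mcl hs
  have hd1 := cj ms hd
  have k3 := h.k3.conj hD ms
  rw [s1, s2] at k3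
  have q10 : Eqv D (s * d * s⁻¹) (g * (s * d * s⁻¹) * g⁻¹) := by
    rw [← cj_cj, iv, cj_cj]; exact (eqv_inv hD hg q0).conj hD ms
  have q11 : Eqv D (s * d * s⁻¹) (σ * u * σ⁻¹) := by
    obtain ⟨e, m1, q⟩ := hR.line_reg k3 hu' c1 (two _ hu' _ hd1 c1 (k3.ca hD) n2 (k3.nc hD))
      (neq_of_nc hw (h.k2.ca hD).symm n2)
    have m2 := mul_mem (inv_mem m1) ((EE.eq q3).ge (EE.conj hD hg m1))
    have q12 : Eqv D (s * d * s⁻¹) (e⁻¹ * (g * e * g⁻¹) * (s * d * s⁻¹) * (e⁻¹ * (g * e * g⁻¹))⁻¹) := by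
      have := (q.trans q6).trans (q.conj hD hg).symm
      rw [show g * (e * (s * d * s⁻¹) * e⁻¹) * g⁻¹ = g * e * g⁻¹ * (g * (s * d * s⁻¹) * g⁻¹) * (g * e * g⁻¹)⁻¹ by
        group] at this
      replace this := this.trans (q10.symm.conj hD (mul_mem (mul_mem hg (EE.le m1)) (inv_mem hg)))
      simpa [mul_assoc] using this.conj hD (inv_mem (EE.le m1))
    have e3 : e⁻¹ * (g * e * g⁻¹) = 1 := ((hN.mem_EE hw).1 m2).resolve_right fun h2 =>
      k3.nc hD ((h2.2 _ hd1).2 (hN.hc.cm_of_eqv h2.1 hd1 q12).symm)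
    rw [f2 e m1 (commute_of_conj_eq (inv_mul_eq_one.1 e3).symm)] at q
    simpa using q
  let S : Set G := {τ | τ ∈ D ∧ Eqv D x (τ * d * τ⁻¹)}
  have cS : ∀ τ ∈ S, s * τ * s⁻¹ ∈ S := fun τ hτ => by
    obtain ⟨c2, n4⟩ := su τ hτ.1 hτ.2
    have h2 := cj (mcl hτ.1) hu
    have := ((q11.trans (fx.same hG hR hx hd hu' h2 c1 c2 (two _ h2 _ hu' c2 c1 (h.nc_swap hG hR hτ.1 hτ.2) n2) n1
      n4)).conj hD (mcl hτ.1)).conj hD ms
    rw [cj_inv hD hτ.1 (a := u) rfl, s1] at this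
    refine ⟨cj ms hτ.1, ?_⟩
    rw [hD.inv hs] at this ⊢
    simpa [mul_assoc, hD.inv hs] using this.symm
  have od : ∀ τ ∈ S, Od d (τ * d * τ⁻¹) := fun τ hτ => (hτ.2.od' hD hx (cj (mcl hτ.1) hd) hd h.far.1.symm).symm
  have oS : Odd S.ncard := by
    have od' : ∀ τ ∈ S, Od τ d := fun τ hτ => by_contra fun n => nc hD hd (cj (mcl hτ.1) hd) (od τ hτ) (by
      by_cases c : Commute τ d
      · rw [conj_of_commute c]
      · obtain ⟨y, k⟩ := exists_K hD hτ.1 hd c n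
        rw [k.act hD]; exact (Commute.refl d).mul_right (k.cb hD))
    rw [Set.ncard_congr (t := {e | e ∈ D ∧ Eqv D x e}) (fun τ _ => τ * d * τ⁻¹) (fun τ hτ => ⟨cj (mcl hτ.1) hd, hτ.2⟩)
      (fun τ τ' h1 h2 e => mid_unique (od' τ h1) (od' τ' h2) (by rwa [hD.inv h1.1, hD.inv h2.1] at e)) fun e he => ?_]
    · exact hR.odd_class hx
    · obtain ⟨τ, h1, e1, -⟩ := exists_mid hD hd he.1 (he.2.od' hD hx he.1 hd h.far.1.symm).symm
      exact ⟨τ, ⟨h1, by rw [hD.inv h1, e1]; exact he.2⟩, by rw [hD.inv h1, e1]⟩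
  haveI := Fintype.ofFinite S
  haveI : Fact (Nat.Prime 2) := ⟨Nat.prime_two⟩
  have inv : Function.Involutive fun τ : S => (⟨_, cS τ τ.2⟩ : S) := fun τ => Subtype.ext (cj_inv hD hs rfl)
  obtain ⟨⟨τ, hτ, q12⟩, e3⟩ := Equiv.Perm.exists_fixed_point_of_prime (p := 2) (n := 1) (σ := inv.toPerm _)
    (by rw [← Nat.card_eq_fintype_card, Nat.card_coe_set_eq]; exact oS.not_two_dvd_nat)
    (by rw [pow_one, pow_two]; exact Equiv.ext inv)
  have c2 : Commute s τ := commute_of_conj_eq (congrArg Subtype.val e3)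
  have n4 : ¬ Eqv D x (s * d * s⁻¹) := (k3.symm hD).not_eqv hD
  have hζ : s * τ ∈ D := (hN.lemA hs (hR.np1 s hs τ hτ c2.symm) fun e => n4 (e ▸ q12)).2.2.2
  have q13 : Eqv D u (s * τ * d * (s * τ)⁻¹) := by rw [cj_cj, ← s3]; exact q12.conj hD ms
  have q14 : Eqv D (s * d * s⁻¹) (s * τ * x * (s * τ)⁻¹) := by
    have := q12.conj hD (mcl hτ)
    rw [cj_inv hD hτ (a := d) rfl] at this
    rw [cj_cj]; exact this.symm.conj hD ms
  have kk : ∀ a ∈ D, ∀ b ∈ D, Commute a b → ¬ Eqv D b a → Eqv D b (s * τ * a * (s * τ)⁻¹) →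
      ∃ y, K D (s * τ) a y := fun a ha b hb c n q => exists_K hD hζ ha (fun c => n (conj_of_commute c ▸ q)) fun o =>
    nc hD ha (hD.conj _ hζ a ha) (o.symm.conj_self hD ha hζ) (by have := (q a ha).1 c; rwa [hD.inv hζ] at this)
  obtain ⟨y, k4⟩ := kk d hd u hu (h.k3.ca hD) ((h.k3.symm hD).not_eqv hD) q13
  obtain ⟨y', k5⟩ := kk x hx _ hd1 (k3.ca hD).symm (fun q => n4 q.symm) q14
  have c3 : Commute u y := k4.commute' hD (h.k3.ca hD).symm (q13.commute hu)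
  have f := h.far_of hG hR hq (k4.hc hD) c3.symm fun c => h.k3.nc hD (by
    have := ((q13 v hv).1 (h.k1.ca hD).symm).mul_right c.symm
    rw [k4.act hD, mul_assoc, hD.sq y (k4.hc hD), mul_one] at this
    exact this.symm)
  exact (k5.xa hD).not_od hD hζ (k4.hc hD) (k4.ca hD)
    ((f.symm hN (k4.hc hD) hx).cent hG hx (k4.hc hD) (k5.hc hD) (k5.cb hD).symm)

end CfsgH7.RI
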