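import Cfsg.Agent.H7.RT6
import Cfsg.Agent.H7.RI11
import Cfsg.Agent.H9.SpPrime

/-! Root involutions (helper7): the root involution theorem. -/

set_option autoImplicit false
set_option linter.unusedSectionVars false

namespace CfsgH7.RI
open Cfsg CfsgH9 Subgroup Matrix
open scoped MatrixGroups

universe u

theorem card_cj {G : Type*} [Group G] (g : G) (A : Subgroup G) : Nat.card (cj g A) = Nat.card A :=
  card_map_of_injective (MulAut.conj g).injective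

theorem sl2_invol {F : Type*} [Field F] [CharP F 2] {a : SL(2, F)} (h : a * a = 1) : ∃ C ∈ Om (UU F) (LL F), a ∈ C := by
  have h2 : (2 : F) = 0 := CharTwo.two_eq_zero
  have e00 : a.1 0 0 * a.1 0 0 + a.1 0 1 * a.1 1 0 = 1 := by rw [← sl2_mul_apply, h]; rfl
  have e01 : a.1 0 0 * a.1 0 1 + a.1 0 1 * a.1 1 1 = 0 := by rw [← sl2_mul_apply, h]; rfl
  have e10 : a.1 1 0 * a.1 0 0 + a.1 1 1 * a.1 1 0 = 0 := by rw [← sl2_mul_apply, h]; rfl
  have e11 : a.1 1 0 * a.1 0 1 + a.1 1 1 * a.1 1 1 = 1 := by rw [← sl2_mul_apply, h]; rfl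
  have sq : ∀ p : F, p * p = 1 → p = 1 := fun p hp => by
    have : (p - 1) ^ 2 = 0 := by linear_combination hp + (1 - p) * h2
    exact sub_eq_zero.1 (pow_eq_zero_iff two_ne_zero |>.1 this)
  by_cases r : a.1 1 0 = 0
  · refine ⟨_, left_mem_Om, a.1 0 1, sl2_ext ?_ rfl r ?_⟩
    · exact sq _ (by rw [r] at e00; linear_combination e00)
    · exact sq _ (by rw [r] at e11; linear_combination e11)
  have e1 : a.1 1 1 = a.1 0 0 := mul_right_cancel₀ r (by linear_combination e10 - a.1 0 0 * a.1 1 0 * h2)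
  refine ⟨_, (mem_Om_iff special_UU_LL.1).2 (Or.inr ⟨xU ((a.1 0 0 + 1) / a.1 1 0), ⟨_, rfl⟩, rfl⟩),
    mem_cj'.2 ⟨xL (a.1 1 0), ⟨_, rfl⟩, ?_⟩⟩
  rw [xU_inv]
  refine sl2_ext ?_ ?_ ?_ ?_ <;> simp [sl2_mul_apply]
  · field_simp; linear_combination -h2
  · field_simp; linear_combination e00 + (a.1 0 0 + 1) * h2
  · field_simp; linear_combination e1 + a.1 0 0 * h2

theorem sl2_mem_Om {F : Type*} [Field F] [Fintype F] [CharP F 2] {A : Subgroup SL(2, F)} (h1 : ∀ a ∈ A, a * a = 1)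
    (h2 : Comm A A) (h3 : Nat.card A = Fintype.card F) : A ∈ Om (UU F) (LL F) := by
  classical
  have r := (special_UU_LL (k := F)).1
  haveI : Nontrivial A := Finite.one_lt_card_iff_nontrivial.1 (h3 ▸ Fintype.one_lt_card)
  obtain ⟨⟨a, ha⟩, n⟩ := exists_ne (1 : A)
  have n' : a ≠ 1 := fun e => n (Subtype.ext e)
  obtain ⟨C, hC, m⟩ := sl2_invol (h1 a ha)
  have le : A ≤ C := fun b hb => by
    by_cases e : b = 1
    · exact e ▸ one_mem _
    obtain ⟨C', hC', m'⟩ := sl2_invol (h1 b hb)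
    by_cases e1 : C = C'
    · exact e1 ▸ m'
    exact absurd (h2 a ha b hb) (r1_not_commute (r1_of_mem_Om r hC hC' e1) m n' m' e)
  refine eq_of_le_of_card_ge le ?_ ▸ hC
  obtain ⟨x, -, rfl⟩ := hC
  rw [h3, ← Nat.card_eq_fintype_card]
  exact (card_cj x _).trans_le (Nat.card_le_card_of_surjective (fun t : F => (⟨xU t, t, rfl⟩ : UU F))
    fun ⟨_, t, e⟩ => ⟨t, Subtype.ext e.symm⟩)

variable {G : Type u} [Group G] [Finite G] {D : Set G}
  {a a' b b' c c' c2 d d' e e' f g h m n p p' q r s t u v v' w w' x x' y z : G}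

/-- `K` is an injective image of `SL₂` over a field with `n` elements -/
def IsSL (K : Subgroup G) (n : ℕ) : Prop := ∃ (F : Type) (_ : Field F) (_ : Fintype F), Fintype.card F = n ∧
  ∃ φ : SL(2, F) →* G, Function.Injective φ ∧ φ.range = K

theorem charP_of_even {F : Type} [Field F] [Fintype F] (h : Even (Fintype.card F)) : CharP F 2 :=
  ringChar.of_eq (FiniteField.even_card_iff_char_two.2 (Nat.even_iff.1 h))

theorem isSL_of {K : Subgroup G} {F : Type} [Field F] [Fintype F] (h : Even (Fintype.card F))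
    (e : K ≃* ProjectiveSpecialLinearGroup (Fin 2) F) : IsSL K (Fintype.card F) := by
  haveI := charP_of_even h
  obtain ⟨f⟩ := sl2_equiv F
  refine ⟨F, _, _, rfl, K.subtype.comp (f.trans e.symm).toMonoidHom,
    K.subtype_injective.comp (f.trans e.symm).injective, ?_⟩
  rw [MonoidHom.range_comp, MonoidHom.range_eq_top.2 (f.trans e.symm).surjective, ← MonoidHom.range_eq_map,
    range_subtype]

theorem IsSL.pair {A B : Subgroup G} {F : Type} [Field F] [Fintype F] (h : IsSL (A ⊔ B) (Fintype.card F))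
    (he : Even (Fintype.card F)) (a1 : ∀ a ∈ A, a * a = 1) (a2 : Comm A A) (a3 : Nat.card A = Fintype.card F)
    (b1 : ∀ a ∈ B, a * a = 1) (b2 : Comm B B) (b3 : Nat.card B = Fintype.card F) (n : A ≠ B) :
    IsPSL2PairOver F A B ∧ IsRankOnePair A B := by
  haveI := charP_of_even he
  obtain ⟨F', _, _, c, φ', i', r'⟩ := h
  let f := FiniteField.ringEquivOfCardEq c.symm
  have k1 : Function.Bijective (SpecialLinearGroup.map (n := Fin 2) (f : F →+* F')) :=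
    Function.bijective_iff_has_inverse.2 ⟨SpecialLinearGroup.map (f.symm : F' →+* F),
      fun g => by ext i j; simp, fun g => by ext i j; simp⟩
  let φ := φ'.comp (SpecialLinearGroup.map (n := Fin 2) (f : F →+* F'))
  have i : Function.Injective φ := i'.comp k1.1
  have r : φ.range = A ⊔ B := by
    rw [MonoidHom.range_comp, MonoidHom.range_eq_top.2 k1.2, ← MonoidHom.range_eq_map, r']
  have k : ∀ A : Subgroup G, A ≤ φ.range → (∀ a ∈ A, a * a = 1) → Comm A A → Nat.card A = Fintype.card F →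
      A.comap φ ∈ Om (UU F) (LL F) := fun A le a1 a2 a3 => sl2_mem_Om
    (fun a ha => i (by rw [map_mul, a1 _ ha, map_one])) (fun a ha b hb => i (by rw [map_mul, map_mul, a2 _ ha _ hb]))
    (by rw [← a3, ← card_map_of_injective i, map_comap_eq_self le])
  have l1 : A ≤ φ.range := r ▸ le_sup_left
  have l2 : B ≤ φ.range := r ▸ le_sup_right
  have n' : A.comap φ ≠ B.comap φ := fun e => n (by rw [← map_comap_eq_self l1, e, map_comap_eq_self l2])
  obtain ⟨x, -, e1, e2⟩ := r1_two_trans special_UU_LL.1 (k A l1 a1 a2 a3) (k B l2 b1 b2 b3) n'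
  refine ⟨⟨φ.comp (MulAut.conj x).toMonoidHom, ?_, ?_, ?_, ?_⟩, ?_⟩
  · rw [MonoidHom.range_comp, MonoidHom.range_eq_top.2 (MulAut.conj x).surjective, ← MonoidHom.range_eq_map, r]
  · exact ((MonoidHom.ker_eq_bot_iff _).2 fun a b e => (MulAut.conj x).injective (i e)).trans_le bot_le
  · rw [upper_eq, ← Subgroup.map_map, ← map_comap_eq_self l1, ← e1]; rfl
  · rw [lower_eq, ← Subgroup.map_map, ← map_comap_eq_self l2, ← e2]; rfl
  · have := r1_map_of_injective φ i (r1_of_mem_Om special_UU_LL.1 (k A l1 a1 a2 a3) (k B l2 b1 b2 b3) n')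
    rwa [map_comap_eq_self l1, map_comap_eq_self l2] at this

theorem cj_EE (hD : RI D) (hg : g ∈ closure D) : cj g (EE D d) = EE D (g * d * g⁻¹) := Subgroup.ext fun y =>
  ⟨fun h => by obtain ⟨a, ha, rfl⟩ := mem_cj'.1 h; exact EE.conj hD hg ha,
    fun h => mem_cj.2 (by simpa [mul_assoc] using EE.conj hD (inv_mem hg) h)⟩

theorem comm_EE (hd : d ∈ D) (c : Commute d e) : Comm (EE D d) (EE D e) := fun _ ha _ hb => EE.commute' ha hb hd c

theorem HE.even_EE (hR : HE D) (hx : x ∈ D) : Even (Nat.card (EE D x)) := by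
  haveI : Fact (Nat.Prime 2) := ⟨Nat.prime_two⟩
  have := orderOf_dvd_natCard (⟨x, self_EE hx⟩ : EE D x)
  rw [← orderOf_coe, orderOf_eq_prime (p := 2) (by rw [pow_two]; exact hR.sq x hx) (hR.ne x hx)] at this
  exact even_iff_two_dvd.2 this

theorem EE_ne_of_od (hD : RI D) (hd : d ∈ D) (hx : x ∈ D) (o : Od d x) : EE D d ≠ EE D x := fun e =>
  nc hD hd hx o (EE.commute (e ▸ self_EE hx) hd (Commute.refl d))

theorem HN.special (hR : HN D) (hd : d ∈ D) (hx : x ∈ D) (o : Od d x) (n : ¬ Far D d x) :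
    IsSpecialRankOnePair (EE D d) (EE D x) := by
  have hD := hR.toRI
  have k : ∀ {d x}, d ∈ D → x ∈ D → Od d x → ¬ Far D d x → ∀ a ∈ EE D d, a ≠ 1 → ∃ b ∈ EE D x, b ≠ 1 ∧
      cj b (EE D d) = cj a (EE D x) ∧ b * a * b⁻¹ = a * b⁻¹ * a⁻¹ := fun hd hx o n a ha n1 => by
    obtain ⟨h1, q⟩ := ((hR.mem_EE hd).1 ha).resolve_left n1
    obtain ⟨b, h2, q1, o1⟩ := hR.exists_o3 h1 hx (q.od' hD hd h1 hx o) fun f => n (f.eqv' hR h1 hx hd q.symm)
    refine ⟨b, RI.mem_EE h2 q1, hD.ne b h2, ?_, by rw [hD.inv h1, hD.inv h2, o1.eq]⟩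
    rw [EE.eq q, EE.eq q1, cj_EE hD (mcl h1), cj_EE hD (mcl h2), hD.inv h1, hD.inv h2, o1.eq]
  have r : IsRankOnePair (EE D d) (EE D x) := r1_mk (EE_ne_of_od hD hd hx o)
    (nilpotent_of_comm (comm_EE hd (Commute.refl d))) (nilpotent_of_comm (comm_EE hx (Commute.refl x)))
    (fun a ha n1 => (k hd hx o n a ha n1).imp fun _ h => ⟨h.1, h.2.1, h.2.2.1⟩)
    fun a ha n1 => (k hx hd o.symm (fun f => n (f.symm hR hx hd)) a ha n1).imp fun _ h => ⟨h.1, h.2.1, h.2.2.1⟩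
  refine special_mk r fun a ha n1 b hb _ e => ?_
  obtain ⟨b', h1, -, e1, e2⟩ := k hd hx o n a ha n1
  rwa [r1_eq_of_cj_eq (r1_symm r) hb h1 (e.trans e1.symm)]

theorem YY_eq (hD : RI D) (hd : d ∈ D) (hx : x ∈ D) (o : Od d x) : YY D d x = EE D d ⊔ EE D x := by
  refine le_antisymm ((closure_le _).2 ?_) (sup_le (closure_mono Set.subset_union_left) ?_)
  · rintro y (hy | rfl)
    exacts [mem_sup_left (RI.mem_EE hy.1 hy.2), mem_sup_right (self_EE hx)]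
  obtain ⟨g, hg, e⟩ := o.exists_conj hD hd hx
  nth_rewrite 1 [e]
  rw [← cj_EE hD (closure_mono (by rintro _ (rfl | rfl) <;> assumption) hg)]
  exact cj_le_of_mem (closure_mono (by
    rintro _ (rfl | rfl)
    exacts [Or.inl ⟨hd, Eqv.refl D _⟩, Or.inr rfl]) hg) (closure_mono Set.subset_union_left)

theorem HN.isSL (hR : HN D) (hd : d ∈ D) (hx : x ∈ D) (o : Od d x) (n : ¬ Far D d x) :
    IsSL (EE D d ⊔ EE D x) (Nat.card (EE D d)) := by
  have hD := hR.toRI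
  have sp := hR.special hd hx o n
  have r := sp.1
  by_cases hq : ∃ b ∈ D, Eqv D d b ∧ b ≠ d
  swap
  · have e : EE D d = zpowers d := le_antisymm (fun e he => ((hR.mem_EE hd).1 he).elim (fun e => e ▸ one_mem _)
      fun h => (by_contra fun n => hq ⟨e, h.1, h.2, n⟩ : e = d) ▸ mem_zpowers _) (zpowers_le.2 (self_EE hd))
    haveI : Fact (Nat.Prime 2) := ⟨Nat.prime_two⟩
    have d2 : d ^ 2 = 1 := by rw [pow_two, hD.sq d hd]
    obtain ⟨φ, h1, h2⟩ := special_prime_hom sp (comm_EE hd (Commute.refl d)) (comm_EE hx (Commute.refl x))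
      (self_EE hd) (hD.ne d hd) d2
    refine ⟨ZMod 2, _, _, by rw [e, Nat.card_zpowers, orderOf_eq_prime d2 (hD.ne d hd), ZMod.card], φ,
      (MonoidHom.ker_eq_bot_iff _).1 (h2.elim id fun h => h.trans (sl2_center_two rfl)), ?_⟩
    obtain ⟨h3, h4, -⟩ := prt_spec r (self_EE hd) (hD.ne d hd)
    rw [h1, ← r1_sup_cj_self r h3 h4]
    generalize prt (EE D d) (EE D x) d = b at h3 h4
    have m1 : d ∈ closure {d, b} := subset_closure (Or.inl rfl)
    have m2 : b ∈ closure {d, b} := subset_closure (Or.inr rfl)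
    refine le_antisymm ?_ (sup_le (e ▸ zpowers_le.2 m1) (cj_le_of_mem m2 (e ▸ zpowers_le.2 m1)))
    rw [r1_sup_cj_self r h3 h4, closure_le]
    rintro _ (rfl | rfl)
    exacts [mem_sup_left (self_EE hd), mem_sup_right h3]
  obtain ⟨b, hb, q1, n1⟩ := hq
  let T : Set G := {y | y ≠ 1 ∧ ∃ C ∈ Om (EE D d) (EE D x), y ∈ C}
  have le : EE D d ⊔ EE D x ≤ closure D := sup_le EE.le EE.le
  have k0 : ∀ {a g y}, a ∈ D → g ∈ closure D → y ≠ 1 → y ∈ cj g (EE D a) → y ∈ D ∧ Eqv D (g * a * g⁻¹) y :=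
    fun ha hg n h => ((hR.mem_EE (hD.conj_closure hg ha)).1 (cj_EE hD hg ▸ h)).resolve_left n
  have TD : T ⊆ D := by
    rintro y ⟨n, _, ⟨g, hg, rfl⟩, h⟩
    exact (k0 hd (le hg) n h).1
  have k1 : ∀ y ∈ T, ∀ z ∈ T, Eqv D y z ∨ Od y z := by
    rintro y ⟨n1, C, hC, h1⟩ z ⟨n2, C', hC', h2⟩
    by_cases e : C = C'
    · obtain ⟨g, hg, rfl⟩ := hC
      exact Or.inl ((k0 hd (le hg) n1 h1).2.symm.trans (k0 hd (le hg) n2 (e.ge h2)).2)
    obtain ⟨g, hg, rfl, rfl⟩ := r1_two_trans r hC hC' e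
    obtain ⟨h3, q3⟩ := k0 hd (le hg) n1 h1
    obtain ⟨h4, q4⟩ := k0 hx (le hg) n2 h2
    have h5 := hD.conj_closure (le hg) hx
    exact Or.inr (q4.od' hD h5 h4 h3 (q3.od' hD (hD.conj_closure (le hg) hd) h3 h5 (o.conj g)).symm).symm
  have k2 : ∀ y ∈ T, ∀ g ∈ EE D d ⊔ EE D x, g * y * g⁻¹ ∈ T := by
    rintro y ⟨n1, C, hC, h1⟩ g hg
    exact ⟨fun e => n1 (conj_eq_one_iff.1 e), _, cj_mem_Om hg hC, mem_cj'.2 ⟨y, h1, rfl⟩⟩
  have hT : OT T := ⟨⟨fun y hy => hD.sq y (TD hy), fun y hy => hy.1, fun y hy z hz => by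
      obtain ⟨-, C, hC, h1⟩ := id hy
      have := k2 z hz y (le_of_mem_Om hC h1)
      rwa [hD.inv (TD hy)] at this,
    fun y hy z hz => (k1 y hy z hz).imp (fun q => q.commute (TD hy)) fun o => Or.inl o.2⟩,
    fun y hy z hz f => (k1 y hy z hz).elim (fun q => f.not_comm hD (TD hy) (TD hz) (q.commute (TD hy))) f.not_od⟩
  have ET : ∀ e ∈ D, Eqv D d e → e ∈ T := fun e he q => ⟨hD.ne e he, _, left_mem_Om, RI.mem_EE he q⟩
  have eY := YY_eq hD hd hx o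
  rw [← eY]
  set Y := YY D d x
  have EY : ∀ e ∈ D, Eqv D d e → e ∈ Y := fun e he q => subset_closure (Or.inl ⟨he, q⟩)
  have hd' := EY d hd (Eqv.refl _ _)
  have hx' : x ∈ Y := subset_closure (Or.inr rfl)
  have hgen : closure ((Subtype.val ⁻¹' {e | e ∈ D ∧ Eqv D d e} : Set Y) ∪ {⟨x, hx'⟩}) = ⊤ := by
    rw [← closure_closure_coe_preimage (k := {e | e ∈ D ∧ Eqv D d e} ∪ {x})]
    congr 1
    ext y
    simp only [Set.mem_union, Set.mem_preimage, Set.mem_singleton_iff, Subtype.ext_iff]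
  obtain ⟨h1, h2, h3, h4⟩ := cls_setup (hT.preim Y) (fun e he g => k2 _ he g (eY ▸ g.2)) (d := ⟨d, hd'⟩)
    (fun e he => ⟨ET _ he.1 he.2, fun y hy => by rw [← commute_coe, ← commute_coe]; exact he.2 y (TD hy)⟩)
    (ET d hd (Eqv.refl _ _)) ⟨hD.ne x hx, _, right_mem_Om r, self_EE hx⟩ (od_coe.1 o) hgen
  generalize {y : Y | ∃ g, y = g * ⟨d, hd'⟩ * g⁻¹} = Δ at *
  have e1 : Cn Δ ⟨d, hd'⟩ = Subtype.val ⁻¹' {e | e ∈ D ∧ Eqv D d e} := Set.ext fun y =>
    ⟨fun hy => ⟨TD (h4 hy.1), (k1 d (ET d hd (Eqv.refl _ _)) _ (h4 hy.1)).resolve_right fun o =>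
      nc hD hd (TD (h4 hy.1)) o (commute_coe.2 hy.2).symm⟩,
    fun hy => ⟨h3 (Or.inl hy), commute_coe.1 (hy.2.commute hd).symm⟩⟩
  have e2 : Nat.card (EE D d) = (Cn Δ ⟨d, hd'⟩).ncard + 1 := by
    rw [e1, ← Set.ncard_image_of_injective _ Subtype.val_injective, ← Set.ncard_insert_of_notMem (a := 1) (by
      rintro ⟨y, hy, e⟩; exact hD.ne _ hy.1 e)]
    refine congrArg Set.ncard (Set.ext fun z => (hR.mem_EE hd).trans
      (or_congr_right ⟨fun h => ⟨⟨z, EY z h.1 h.2⟩, h, rfl⟩, ?_⟩))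
    rintro ⟨y, hy, rfl⟩; exact hy
  have pm : ∀ e ∈ D, Eqv D d e → ∀ e' ∈ D, Eqv D d e' → e ≠ e' → e * e' ∈ D ∧ Eqv D d (e * e') :=
    fun e he q e' he' q' n => have m := hR.p2 e he e' he' (q.symm.trans q') n
      ⟨m, hR.hc.eqv hd (mul_mem (RI.mem_EE he q) (RI.mem_EE he' q')) m⟩
  rcases pair_cases (specDisc _) h1.1 h2 (oneClass_of_class h1) (h3 (Or.inl ⟨hd, Eqv.refl _ _⟩))
    (h3 (Or.inr rfl)) (od_coe.1 o) (b := ⟨b, EY b hb q1⟩) ⟨h3 (Or.inl ⟨hb, q1⟩), commute_coe.1 (q1.commute hd),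
      fun e => n1 (congrArg Subtype.val e), h3 (Or.inl (pm d hd (Eqv.refl _ _) b hb q1 n1.symm))⟩ (e1 ▸ hgen)
    (fun e he y hy => by rw [← commute_coe, ← commute_coe]; exact (e1.le he).2 y (TD (h4 hy)))
    (fun e he n => h3 (Or.inl (pm e (e1.le he).1 (e1.le he).2 d hd (Eqv.refl _ _) fun h => n (Subtype.ext h)))) with
    ⟨-, F, _, _, c, ⟨f⟩⟩ | ⟨-, Q, -, -, -, -, S, k5, k6⟩
  · rw [e2, ← c]
    exact isSL_of (by rw [c, ← e2]; exact hR.even_EE hd) f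
  exfalso
  rw [← e2] at k6
  have i1 : S.ncard ≤ (insert (EE D d) ((fun a => cj a (EE D x)) '' (EE D d : Set G))).ncard := by
    refine Set.ncard_le_ncard_of_injOn (fun h => cj (h : G) (EE D d)) (fun h _ => ?_) fun h hh k hk e => ?_
    · rcases (mem_Om_iff r).1 (cj_mem_Om (eY.le h.2) left_mem_Om) with e | ⟨a, ha, e⟩
      exacts [Or.inl e, Or.inr ⟨a, ha, e.symm⟩]
    by_contra n
    have m1 := hD.conj_closure (le (eY.le h.2)) hd
    simp only [cj_EE hD (le (eY.le h.2)), cj_EE hD (le (eY.le k.2))] at e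
    exact EE_ne_of_od hD m1 (hD.conj_closure (le (eY.le k.2)) hd) (od_coe.2 (k5 h hh k hk n)) e
  have i2 := (k6.trans i1).trans ((Set.ncard_insert_le _ _).trans (Nat.succ_le_succ (Set.ncard_image_le)))
  rw [← Nat.card_coe_set_eq, SetLike.coe_sort_coe] at i2
  have i3 : 2 ≤ Nat.card (EE D d) := Nat.le_of_dvd Nat.card_pos (hR.even_EE hd).two_dvd
  nlinarith

theorem HN.comm_case (hR : HN D) {S : Set (Subgroup G)} (hS : ∀ e ∈ D, EE D e ∈ S) (k : K D d x c) :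
    RootCommutatorCase S (EE D d) (EE D x) := by
  have hD := hR.toRI
  have hc := k.hc hD
  have m1 := EE_le_MM hD hc (k.wa hD)
  have m2 := EE_le_MM hD hc (k.wb hD)
  have k1 : ∀ {d x}, K D d x c → ∀ a ∈ EE D d, a ≠ 1 → ∀ e ∈ EE D c, ∃ b ∈ EE D x, a * b * a⁻¹ * b⁻¹ = e :=
    fun k a ha n e he => by
      obtain ⟨h1, q⟩ := ((hR.mem_EE k.ha).1 ha).resolve_left n
      obtain ⟨c', k2, q1⟩ := hR.Keqv k h1 q k.hb (Eqv.refl D _)
      obtain ⟨b, h2, e1⟩ := hR.bijE k2 (EE.eq q1 ▸ he)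
      exact ⟨b, h2, by rw [e1, conj_of_commute (MM.cm (EE_le_MM hD hc (k.wb hD) h2) he)]⟩
  have e : ⁅EE D d, EE D x⁆ = EE D c := le_antisymm ((commutator_mono m1 m2).trans (hR.comm_le hc)) fun e he => by
    obtain ⟨b, h1, rfl⟩ := k1 k d (self_EE k.ha) (hD.ne d k.ha) e he
    exact commutator_mem_commutator (self_EE k.ha) h1
  refine ⟨e ▸ hS c hc, fun z hz y hy => (MM.cm (sup_le m1 m2 hy) (e ▸ hz)).symm, fun a ha n => le_antisymm
    ((closure_le _).2 ?_) fun z hz => ?_, fun b hb n => le_antisymm ((closure_le _).2 ?_) fun z hz => ?_⟩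
  · rintro _ ⟨b, hb, rfl⟩; exact commutator_mem_commutator ha hb
  · obtain ⟨b, h1, e1⟩ := k1 k a ha n z (e ▸ hz)
    exact subset_closure ⟨b, h1, e1⟩
  · rintro _ ⟨a, ha, rfl⟩; exact commutator_mem_commutator ha hb
  · obtain ⟨a, h1, e1⟩ := k1 (k.symm hD) b hb n z⁻¹ (inv_mem (e ▸ hz))
    exact subset_closure ⟨a, h1, by rw [← inv_inv z, ← e1]; group⟩

theorem exists_od (hD : IsRootInvolutionSet D) (hcl : OneClass D) (hO : pCore 2 G = ⊥) (hd : d ∈ D) :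
    ∃ x ∈ D, Od d x := by
  have hR := RI.of_set hD
  by_contra H
  haveI : Fact (Nat.Prime 2) := ⟨Nat.prime_two⟩
  have := isPGroup_closure_of_not_od hR subset_rfl hR.conj fun a ha b hb o => H (hcl.exists_od hR ha hb o hd)
  rw [hD.generates] at this
  exact hR.ne d hd (mem_bot.1 (hO ▸ CfsgL0.le_pCore this (mem_top d)))

theorem caseA (hD : IsRootInvolutionSet D) (hR : HE D) (hO : pCore 2 G = ⊥)
    (h1 : ∀ d ∈ D, ∀ x ∈ D, Od d x → IsSL (EE D d ⊔ EE D x) (Nat.card (EE D d)))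
    (h2 : ∀ S : Set (Subgroup G), (∀ e ∈ D, EE D e ∈ S) → ∀ d x c, K D d x c → RootCommutatorCase S (EE D d) (EE D x))
    (hd : d ∈ D) : ∃ (F : Type) (_ : Field F) (_ : Fintype F),
      Fintype.card F = Nat.card ↥(sameCommutingSubgroup D d) ∧
      IsKRootSubgroupSet F {A : Subgroup G | ∃ g : G, A = conjBy (sameCommutingSubgroup D d) g} ∧
      IsConjClassOfSubgroups {A : Subgroup G | ∃ g : G, A = conjBy (sameCommutingSubgroup D d) g} := by
  have hI := hR.toRI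
  obtain ⟨x, hx, o⟩ := exists_od hD hR.cl hO hd
  obtain ⟨F, _, _, c, -⟩ := h1 d hd x hx o
  rw [scs_eq]
  have eS : ∀ A, A ∈ {A : Subgroup G | ∃ g : G, A = conjBy (EE D d) g} ↔ ∃ e ∈ D, A = EE D e := fun A =>
    ⟨fun ⟨g, e⟩ => ⟨_, hD.conj_mem d hd g, e.trans (cj_EE hI (top_mem hD g))⟩, fun ⟨e, he, e1⟩ => by
      obtain ⟨g, hg, rfl⟩ := hR.cl d hd e he
      exact ⟨g, e1.trans (cj_EE hI hg).symm⟩⟩
  have cE : ∀ e ∈ D, Nat.card (EE D e) = Fintype.card F := fun e he =>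
    c ▸ le_antisymm (card_EE_le hI hR.cl he hd) (card_EE_le hI hR.cl hd he)
  have pr : ∀ a ∈ D, ∀ b ∈ D, Od a b → IsPSL2PairOver F (EE D a) (EE D b) ∧ IsRankOnePair (EE D a) (EE D b) :=
    fun a ha b hb o => IsSL.pair (cE a ha ▸ h1 a ha b hb o) (c ▸ hR.even_EE hd) (fun _ => EE.sq hI ha)
      (comm_EE ha (Commute.refl a)) (cE a ha) (fun _ => EE.sq hI hb) (comm_EE hb (Commute.refl b)) (cE b hb)
      (EE_ne_of_od hI ha hb o)
  refine ⟨F, inferInstance, inferInstance, c, ⟨⟨fun A hA => ?_, fun A hA => ?_, ?_, ?_, fun A hA B hB => ?_⟩,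
    fun A hA B hB r => ?_⟩, ⟨_, 1, rfl⟩, ?_⟩
  · obtain ⟨e, he, rfl⟩ := (eS A).1 hA
    exact ⟨⟨fun a b => Subtype.ext (EE.commute' a.2 b.2 he (Commute.refl e))⟩⟩
  · obtain ⟨e, he, rfl⟩ := (eS A).1 hA
    exact fun h => hI.ne e he (mem_bot.1 (h ▸ self_EE he))
  · rw [eq_top_iff, ← hD.generates, closure_le]
    exact fun e he => le_biSup (f := fun A => A) ((eS _).2 ⟨e, he, rfl⟩) (self_EE he)
  · rintro _ ⟨g, rfl⟩ h
    exact ⟨h * g, CfsgH9.cj_cj h g _⟩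
  · obtain ⟨a, ha, rfl⟩ := (eS A).1 hA
    obtain ⟨b, hb, rfl⟩ := (eS B).1 hB
    rcases hI.tri ha hb with c | o | f
    · exact Or.inl (comm_iff.1 (comm_EE ha c))
    · exact Or.inr (Or.inl (pr a ha b hb o).2)
    · exact Or.inr (Or.inr (h2 _ (fun e he => (eS _).2 ⟨e, he, rfl⟩) a b _ ⟨ha, hb, f, rfl⟩))
  · obtain ⟨a, ha, rfl⟩ := (eS A).1 hA
    obtain ⟨b, hb, rfl⟩ := (eS B).1 hB
    refine (pr a ha b hb (by_contra fun n => ?_)).1
    have n1 := r1_not_commute r (self_EE ha) (hI.ne a ha) (self_EE hb) (hI.ne b hb)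
    obtain ⟨c, k⟩ := exists_K hI ha hb n1 n
    obtain ⟨b', h3, n2, e⟩ := r1_ex r (self_EE ha) (hI.ne a ha)
    obtain ⟨h4, q⟩ := ((hR.mem_EE hb).1 h3).resolve_left n2
    obtain ⟨c', k1⟩ := k.eqv_right hI h4 q
    rw [cj_EE hI (mcl h4), cj_EE hI (mcl ha), k.act hI, (k1.symm hI).act hI] at e
    have := EE.commute (e ▸ self_EE (k.xb hI).2.2.2) ha ((Commute.refl a).mul_right (k1.ca hI))
    exact n1 (by simpa using this.mul_right (k.ca hI).inv_right : Commute a b)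
  · rintro _ ⟨g, rfl⟩ _ ⟨h, rfl⟩
    exact ⟨h * g⁻¹, by rw [conjBy_eq, conjBy_eq, conjBy_eq, CfsgH9.cj_cj, inv_mul_cancel_right]⟩

theorem RankOne.congr {H : Type*} [Group H] (e : G ≃* H) (h : RankOne H) : RankOne G := by
  rcases h with ⟨F, _, _, h1, h2, ⟨f⟩⟩ | ⟨F, _, _, m, h1, h2, ⟨f⟩⟩ | ⟨F, _, _, q, h1, h2, h3, ⟨f⟩⟩
  exacts [Or.inl ⟨F, _, _, h1, h2, ⟨e.trans f⟩⟩, Or.inr (Or.inl ⟨F, _, _, m, h1, h2, ⟨e.trans f⟩⟩),
    Or.inr (Or.inr ⟨F, _, _, q, h1, h2, h3, ⟨e.trans f⟩⟩)]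

theorem s5056 (hcl : IsRootInvolutionClass D) (hO : pCore 2 G = ⊥) (hZ : center G = ⊥)
    (hDD : (D ∩ commutingProducts D).Nonempty) :
    (¬ IsConnectedSet (CommAdj D) D ∧ RankOne G) ∨
    (IsConnectedSet (CommAdj D) D ∧
      (∀ d ∈ D, (sameCommutingSubgroup D d : Set G) = sameCommutingClass D d ∪ {1}) ∧
      ((∀ d ∈ D, ∃ (F : Type) (_ : Field F) (_ : Fintype F),
          Fintype.card F = Nat.card ↥(sameCommutingSubgroup D d) ∧
          IsKRootSubgroupSet F {A : Subgroup G | ∃ g : G, A = conjBy (sameCommutingSubgroup D d) g} ∧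
          IsConjClassOfSubgroups {A : Subgroup G | ∃ g : G, A = conjBy (sameCommutingSubgroup D d) g}) ∨
       (IsNondegenerateRootInvolutionSet D ∧ ∀ d ∈ D, Nat.card ↥(sameCommutingSubgroup D d) = 2 ∧
          Nat.card ↥(closure (commutingMembers D d)) ≤ 2 ^ 10))) := by
  have hD := hcl.1
  have hI := RI.of_set hD
  have cl := oneClass_of_class hcl
  obtain ⟨a, ha, b, hb⟩ := xp_of_DD hI hDD
  by_cases hc : IsConnectedSet (CommAdj D) D
  swap
  · refine Or.inl ⟨hc, (thmD (specDisc _) hD ha hb hc).1.congr ((QuotientGroup.quotientMulEquivOfEq ?_).trans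
      QuotientGroup.quotientBot).symm⟩
    exact eq_bot_iff.2 fun z hz => hZ ▸ mem_center_iff.2 (comm_of_mem_twoZCore hO hz)
  have he : HE D → ∀ d ∈ D, (sameCommutingSubgroup D d : Set G) = sameCommutingClass D d ∪ {1} := fun hR d hd => by
    rw [scs_eq, scc_eq]; exact Set.ext fun z => (hR.mem_EE hd).trans or_comm
  by_cases h4 : ∃ a ∈ D, ∃ b ∈ D, Fo a b
  swap
  · have hT : IsOddTranspositionSet D := ⟨hD, fun a ha b hb f => h4 ⟨a, ha, b, hb, f⟩⟩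
    have hR : HE D := ⟨hI, cl, (red_of hD (ot_of_set hT) cl hO ha hb).p2⟩
    refine Or.inr ⟨hc, he hR, Or.inl fun d hd => caseA hD hR hO (fun d hd x hx o => ?_)
      (fun _ _ d x c k => (h4 ⟨d, k.ha, x, k.hb, k.fo⟩).elim) hd⟩
    obtain ⟨F, _, _, c, ⟨f⟩⟩ := (s5052 specDisc hT hcl hO hDD hc hd).2 x (mem_oddPartners.2 ⟨hx, o⟩)
    rw [scs_eq] at c
    rw [scc_eq] at f
    rw [← c, ← YY_eq hI hd hx o]
    exact isSL_of (c ▸ hR.even_EE hd) f
  have hG : HG D := ⟨⟨⟨hI, cl⟩, h4⟩, hD, hO, fun z hz => mem_bot.1 (hZ ▸ mem_center_iff.2 hz)⟩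
  have hN := hG.hn
  refine Or.inr ⟨hc, he hN.toHE, ?_⟩
  by_cases hf : ∃ d ∈ D, ∃ x ∈ D, Far D d x
  swap
  · exact Or.inl fun d hd => caseA hD hN.toHE hO (fun d hd x hx o => hN.isSL hd hx o fun f => hf ⟨d, hd, x, hx, f⟩)
      (fun S hS d x c k => hN.comm_case hS k) hd
  obtain ⟨d, hd, x, hx, f⟩ := hf
  obtain ⟨d', u, v, w, x', h⟩ := hG.exists_P4 hd hx f
  have hP := h.hp hG
  have hq : ∀ d ∈ D, ∀ e ∈ D, Eqv D d e → e = d := fun d hd e he q => by_contra fun n => h.false hG fun y hy => by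
    obtain ⟨g, hg, rfl⟩ := cl d hd y hy
    exact ⟨_, hI.conj_closure hg he, q.conj hI hg, fun e => n (by simpa using e)⟩
  refine Or.inr ⟨⟨hD, ⟨a, ha, b, hb.1, hb.2.2.1.symm, hb.2.1⟩, ⟨d, hd, x, hx, f.1⟩, h4⟩, fun p hp => ⟨?_, ?_⟩⟩
  · rw [scs_eq, ← SetLike.coe_sort_coe, Nat.card_coe_set_eq, ← Set.ncard_pair (hI.ne p hp).symm]
    exact congrArg Set.ncard (Set.ext fun z => (hN.mem_EE hp).trans (or_congr_right
      ⟨fun h => hq p hp z h.1 h.2, fun h => by rw [Set.mem_singleton_iff.1 h]; exact ⟨hp, Eqv.refl D _⟩⟩))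
  · rw [show commutingMembers D p = Wd D p from Set.ext fun z => ⟨fun h => hP.np1 p hp z h.1 h.2, fun h => ⟨h.1, h.2.1⟩⟩]
    exact hP.card_le hq hp

end CfsgH7.RI
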