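import Mathlib

set_option autoImplicit false

namespace CfsgH7

open Module Polynomial
open scoped DirectSum

theorem finite_linMap {R M N : Type*} [Ring R] [AddCommGroup M] [Module R M] [AddCommGroup N]
    [Module R N] [Finite M] [Finite N] : Finite (M →ₗ[R] N) :=
  Finite.of_injective (fun φ : M →ₗ[R] N => (φ : M → N)) DFunLike.coe_injective

theorem card_hom_quot {R M N : Type*} [Ring R] [AddCommGroup M] [Module R M] [AddCommGroup N]
    [Module R N] (K : Submodule R M) :
    Nat.card ((M ⧸ K) →ₗ[R] N) = Nat.card {φ : M →ₗ[R] N // K ≤ LinearMap.ker φ} := by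
  refine Nat.card_congr ⟨fun ψ => ⟨ψ.comp K.mkQ, ?_⟩, fun φ => K.liftQ φ.1 φ.2, ?_, ?_⟩
  · intro x hx
    simp [(Submodule.Quotient.mk_eq_zero K).2 hx]
  · intro ψ
    apply Submodule.linearMap_qext
    simp
  · intro φ
    apply Subtype.ext
    simp

theorem card_hom_sum {R M N : Type*} [Ring R] [AddCommGroup M] [Module R M] [AddCommGroup N]
    [Module R N] [Finite M] [Finite N] [Fintype (Submodule R M)] [DecidableEq (Submodule R M)]
    [DecidableLE (Submodule R M)] (K : Submodule R M) :
    Nat.card {φ : M →ₗ[R] N // K ≤ LinearMap.ker φ} =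
      ∑ K' ∈ Finset.univ.filter (fun K' => K ≤ K'),
        Nat.card {φ : M →ₗ[R] N // LinearMap.ker φ = K'} := by
  classical
  haveI := finite_linMap (R := R) (M := M) (N := N)
  haveI := Fintype.ofFinite (M →ₗ[R] N)
  simp only [Nat.card_eq_fintype_card, Fintype.card_subtype]
  rw [Finset.card_eq_sum_card_fiberwise (f := fun φ : M →ₗ[R] N => LinearMap.ker φ)
    (t := Finset.univ.filter (fun K' => K ≤ K'))]
  · apply Finset.sum_congr rfl
    intro K' hK'
    congr 1
    ext φ
    simp only [Finset.mem_filter, Finset.mem_univ, true_and] at hK' ⊢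
    constructor
    · exact fun h => h.2
    · exact fun h => ⟨h ▸ hK', h⟩
  · intro φ hφ
    simpa using hφ

/-- Two finite modules with the same number of homomorphisms from all quotients of the first. -/
theorem equiv_of_card_hom {R M N : Type*} [Ring R] [AddCommGroup M] [Module R M] [AddCommGroup N]
    [Module R N] [Finite M] [Finite N] (hcard : Nat.card M = Nat.card N)
    (h : ∀ K : Submodule R M, Nat.card ((M ⧸ K) →ₗ[R] M) = Nat.card ((M ⧸ K) →ₗ[R] N)) :
    Nonempty (M ≃ₗ[R] N) := by
  classical
  haveI : Finite (Submodule R M) :=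
    Finite.of_injective (fun K : Submodule R M => (K : Set M)) SetLike.coe_injective
  haveI := Fintype.ofFinite (Submodule R M)
  haveI := finite_linMap (R := R) (M := M) (N := N)
  haveI := finite_linMap (R := R) (M := M) (N := M)
  have key : ∀ K : Submodule R M, Nat.card {φ : M →ₗ[R] M // LinearMap.ker φ = K} =
      Nat.card {φ : M →ₗ[R] N // LinearMap.ker φ = K} := by
    intro K
    induction K using WellFoundedGT.induction with
    | ind K ih =>
      have h1 := h K
      rw [card_hom_quot, card_hom_quot, card_hom_sum, card_hom_sum] at h1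
      have hK : K ∈ Finset.univ.filter (fun K' => K ≤ K') := by simp
      rw [← Finset.add_sum_erase _ _ hK, ← Finset.add_sum_erase _ _ hK] at h1
      rw [Finset.sum_congr rfl (fun K' hK' => ih K' ?_)] at h1
      · exact Nat.add_right_cancel h1
      · simp only [Finset.mem_erase, Finset.mem_filter, Finset.mem_univ, true_and] at hK'
        exact lt_of_le_of_ne hK'.2 hK'.1.symm
  have h0 := key ⊥
  have hne : Nonempty {φ : M →ₗ[R] M // LinearMap.ker φ = ⊥} := ⟨⟨LinearMap.id, by simp⟩⟩
  have hpos : 0 < Nat.card {φ : M →ₗ[R] M // LinearMap.ker φ = ⊥} := Nat.card_pos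
  rw [h0] at hpos
  obtain ⟨φ, hφ⟩ := (Nat.card_pos_iff.1 hpos).1
  have hinj : Function.Injective φ := LinearMap.ker_eq_bot.1 hφ
  exact ⟨LinearEquiv.ofBijective φ ((Nat.bijective_iff_injective_and_card φ).2 ⟨hinj, hcard⟩)⟩

theorem card_hom_cyclic {R N : Type*} [CommRing R] [AddCommGroup N] [Module R N] (a : R) :
    Nat.card ((R ⧸ R ∙ a) →ₗ[R] N) = Nat.card {x : N // a • x = 0} := by
  rw [card_hom_quot]
  refine Nat.card_congr ⟨fun φ => ⟨φ.1 1, ?_⟩, fun x => ⟨LinearMap.toSpanSingleton R N x.1, ?_⟩,
    ?_, ?_⟩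
  · rw [← map_smul, smul_eq_mul, mul_one]
    exact φ.2 (Submodule.mem_span_singleton_self a)
  · rw [Submodule.span_singleton_le_iff_mem]
    simpa using x.2
  · intro φ
    apply Subtype.ext
    ext
    simp
  · intro x
    simp

theorem card_hom_directSum {R M P : Type*} [CommRing R] [AddCommGroup M] [Module R M]
    [AddCommGroup P] [Module R P] {ι : Type*} [Fintype ι] [DecidableEq ι] (a : ι → R)
    (φ : M ≃ₗ[R] ⨁ i, R ⧸ R ∙ a i) :
    Nat.card (M →ₗ[R] P) = ∏ i, Nat.card {x : P // a i • x = 0} := by
  rw [Nat.card_congr (LinearEquiv.arrowCongr φ (LinearEquiv.refl R P)).toEquiv]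
  have h2 : Nat.card ((⨁ i, R ⧸ R ∙ a i) →ₗ[R] P) = Nat.card (∀ i, (R ⧸ R ∙ a i) →ₗ[R] P) :=
    Nat.card_congr (DFinsupp.lsum ℕ (R := R) (M := fun i => R ⧸ R ∙ a i) (N := P)).toEquiv.symm
  rw [h2, Nat.card_pi]
  exact Finset.prod_congr rfl fun i _ => card_hom_cyclic _

/-- Finite modules over a PID are determined by the sizes of the `p ^ e`-torsion. -/
theorem equiv_of_card_torsion {R M N : Type*} [CommRing R] [IsDomain R] [IsPrincipalIdealRing R]
    [AddCommGroup M] [Module R M] [AddCommGroup N] [Module R N] [Finite M] [Finite N]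
    (hM : Module.IsTorsion R M) (hcard : Nat.card M = Nat.card N)
    (h : ∀ p : R, Irreducible p → ∀ e : ℕ,
      Nat.card {x : M // p ^ e • x = 0} = Nat.card {x : N // p ^ e • x = 0}) :
    Nonempty (M ≃ₗ[R] N) := by
  classical
  apply equiv_of_card_hom hcard
  intro K
  have hT : Module.IsTorsion R (M ⧸ K) := by
    intro x
    obtain ⟨x, rfl⟩ := K.mkQ_surjective x
    obtain ⟨a, ha⟩ := @hM x
    refine ⟨a, ?_⟩
    change (a : R) • K.mkQ x = 0
    rw [← map_smul]
    have : (a : R) • x = 0 := ha
    rw [this, map_zero]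
  obtain ⟨ι, _, p, hp, e, ⟨φ⟩⟩ := Module.equiv_directSum_of_isTorsion hT
  rw [card_hom_directSum _ φ, card_hom_directSum _ φ]
  exact Finset.prod_congr rfl fun i _ => h _ (hp i) _

/-- Similarity criterion for endomorphisms of finite vector spaces. -/
theorem exists_equiv_of_finrank_ker {F V W : Type*} [Field F] [Finite F] [AddCommGroup V]
    [Module F V] [AddCommGroup W] [Module F W] [FiniteDimensional F V] [FiniteDimensional F W]
    (f : Module.End F V) (g : Module.End F W) (hdim : finrank F V = finrank F W)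
    (h : ∀ p : F[X], Irreducible p → ∀ e : ℕ,
      finrank F (LinearMap.ker (aeval f (p ^ e))) = finrank F (LinearMap.ker (aeval g (p ^ e)))) :
    ∃ φ : V ≃ₗ[F] W, ∀ v, φ (f v) = g (φ v) := by
  haveI : Finite V := Module.finite_of_finite F
  haveI : Finite W := Module.finite_of_finite F
  haveI : Finite (AEval' f) := Finite.of_equiv V (AEval'.of f).toEquiv
  haveI : Finite (AEval' g) := Finite.of_equiv W (AEval'.of g).toEquiv
  have hc : Nat.card (AEval' f) = Nat.card (AEval' g) := by
    rw [← Nat.card_congr (AEval'.of f).toEquiv, ← Nat.card_congr (AEval'.of g).toEquiv,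
      Module.natCard_eq_pow_finrank (K := F) (V := V),
      Module.natCard_eq_pow_finrank (K := F) (V := W), hdim]
  obtain ⟨φ⟩ := equiv_of_card_torsion (R := F[X]) (M := AEval' f) (N := AEval' g)
    (AEval.isTorsion_of_finiteDimensional F V f) hc (by
      intro p hp e
      have h1 : Nat.card {x : AEval' f // p ^ e • x = 0} =
          Nat.card (LinearMap.ker (aeval f (p ^ e))) := rfl
      have h2 : Nat.card {x : AEval' g // p ^ e • x = 0} =
          Nat.card (LinearMap.ker (aeval g (p ^ e))) := rfl
      rw [h1, h2, Module.natCard_eq_pow_finrank (K := F) (V := LinearMap.ker (aeval f (p ^ e))),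
        Module.natCard_eq_pow_finrank (K := F) (V := LinearMap.ker (aeval g (p ^ e))), h p hp e])
  refine ⟨(AEval'.of f).trans ((φ.restrictScalars F).trans (AEval'.of g).symm), fun v => ?_⟩
  simp only [LinearEquiv.trans_apply, LinearEquiv.restrictScalars_apply]
  rw [← AEval'.X_smul_of, map_smul, AEval'.of_symm_X_smul]

theorem isConj_of_equiv {F : Type*} [Field F] {n : Type*} [Fintype n] [DecidableEq n]
    (A B : Matrix n n F) (φ : (n → F) ≃ₗ[F] (n → F))
    (h : ∀ v, φ (A.mulVec v) = B.mulVec (φ v)) : IsConj A B := by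
  refine ⟨⟨LinearMap.toMatrix' φ, LinearMap.toMatrix' φ.symm, ?_, ?_⟩, ?_⟩
  · rw [← LinearMap.toMatrix'_comp]; simp
  · rw [← LinearMap.toMatrix'_comp]; simp
  · change LinearMap.toMatrix' (φ : (n → F) →ₗ[F] (n → F)) * A = B * LinearMap.toMatrix' _
    apply Matrix.toLin'.injective
    ext1
    ext1
    simp only [Matrix.toLin'_mul, Matrix.toLin'_toMatrix', LinearMap.comp_apply,
      Matrix.toLin'_apply, LinearEquiv.coe_coe, h]

theorem toLin'_aeval {F : Type*} [Field F] {n : Type*} [Fintype n] [DecidableEq n]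
    (A : Matrix n n F) (p : F[X]) : aeval (Matrix.toLin' A) p = Matrix.toLin' (aeval A p) := by
  have := aeval_algHom_apply (Matrix.toLinAlgEquiv' (R := F) (n := n)).toAlgHom A p
  exact this

theorem finrank_ker_toLin' {F : Type*} [Field F] {n : Type*} [Fintype n] [DecidableEq n]
    (A : Matrix n n F) : finrank F (LinearMap.ker (Matrix.toLin' A)) = Fintype.card n - A.rank := by
  have := LinearMap.finrank_range_add_finrank_ker (Matrix.toLin' A)
  rw [Module.finrank_fintype_fun_eq_card] at this
  have h2 : A.rank = finrank F (LinearMap.range (Matrix.toLin' A)) := rfl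
  omega

/-- Similarity criterion for matrices over a finite field. -/
theorem isConj_of_rank {F : Type*} [Field F] [Finite F] {n : Type*} [Fintype n] [DecidableEq n]
    (A B : Matrix n n F) (h : ∀ p : F[X], Irreducible p → ∀ e : ℕ,
      (aeval A (p ^ e)).rank = (aeval B (p ^ e)).rank) : IsConj A B := by
  obtain ⟨φ, hφ⟩ := exists_equiv_of_finrank_ker (Matrix.toLin' A) (Matrix.toLin' B) rfl (by
    intro p hp e
    rw [toLin'_aeval, toLin'_aeval, finrank_ker_toLin', finrank_ker_toLin', h p hp e])
  exact isConj_of_equiv A B φ hφ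

theorem aeval_transpose {F : Type*} [Field F] {n : Type*} [Fintype n] [DecidableEq n]
    (A : Matrix n n F) (p : F[X]) : aeval A.transpose p = (aeval A p).transpose := by
  induction p using Polynomial.induction_on' with
  | add p q hp hq => simp [hp, hq, Matrix.transpose_add]
  | monomial k a =>
    simp [aeval_monomial, Algebra.algebraMap_eq_smul_one, Matrix.transpose_pow]

theorem isConj_transpose {F : Type*} [Field F] [Finite F] {n : Type*} [Fintype n] [DecidableEq n]
    (A : Matrix n n F) : IsConj A A.transpose := by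
  apply isConj_of_rank
  intro p _ e
  rw [aeval_transpose, Matrix.rank_transpose]

theorem isConj_units_iff {M : Type*} [Monoid M] (a b : Mˣ) : IsConj a b ↔ IsConj (a : M) (b : M) := by
  constructor
  · exact fun h => (Units.coeHom M).map_isConj h
  · rintro ⟨c, hc⟩
    refine isConj_iff.2 ⟨c, ?_⟩
    rw [mul_inv_eq_iff_eq_mul]
    ext
    exact hc

theorem rank_eq_of_isConj {F : Type*} [Field F] {n : Type*} [Fintype n] [DecidableEq n]
    {A B : Matrix n n F} (h : IsConj A B) (p : F[X]) : (aeval A p).rank = (aeval B p).rank := by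
  obtain ⟨c, hc⟩ := h
  have h1 : SemiconjBy (c : Matrix n n F) (aeval A p) (aeval B p) := by
    induction p using Polynomial.induction_on' with
    | add p q hp hq => simpa using hp.add_right hq
    | monomial k a =>
      simp only [aeval_monomial, Algebra.algebraMap_eq_smul_one, smul_mul_assoc, one_mul]
      have := hc.pow_right k
      unfold SemiconjBy at this ⊢
      rw [mul_smul_comm, smul_mul_assoc, this]
  have hu : IsUnit (c : Matrix n n F).det := (Matrix.isUnit_iff_isUnit_det _).1 c.isUnit
  rw [← Matrix.rank_mul_eq_right_of_isUnit_det _ _ hu, h1.eq,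
    Matrix.rank_mul_eq_left_of_isUnit_det _ _ hu]

end CfsgH7
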